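import Mathlib
import Cfsg.Prelude.Def_GeometricClasses
import Cfsg.Prelude.Def_LieClassical
import Cfsg.Agent.Lib.Helper71.Asch5
import Cfsg.Agent.Lib.Helper44.BADDefs

/-!
# Piece SNORM of project BAD (helper44, S5663)

Every unitary `3 × 3` matrix over the field with 4 elements normalises `bS = 3^{1+2}`.
Proof: the non-scalar elements of `bS` are exactly the unitary matrices of trace `0` and
determinant `1`, and this description is invariant under unitary conjugation.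
-/

set_option autoImplicit false

namespace Cfsg.Agent.Lib.Helper44.BAD

open Matrix Cfsg.Geo Cfsg.Agent.Lib.Helper71.Asch
open scoped Kronecker

variable {n : ℕ} {F : Type*} [Field F] [Fintype F] {q : ℕ}

theorem SNORM_cube (hF : Fintype.card F = 4) (x : F) (hx : x ≠ 0) : x ^ 3 = 1 := by
  have h := FiniteField.pow_card_sub_one_eq_one x hx
  rwa [hF] at h

theorem SNORM_two (hF : Fintype.card F = 4) : (2 : F) = 0 := by
  have h4 : ((Fintype.card F : ℕ) : F) = 0 := FiniteField.cast_card_eq_zero F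
  rw [hF] at h4
  have h5 : (2 : F) * 2 = 0 := by
    have h6 : ((4 : ℕ) : F) = 2 * 2 := by push_cast; ring
    rw [← h6]
    exact h4
  exact mul_self_eq_zero.mp h5

theorem SNORM_frob (hF : Fintype.card F = 4) (x : F) : x ^ 4 = x := by
  have h := FiniteField.pow_card x
  rwa [hF] at h

theorem SNORM_Y3 : bY F ^ 3 = 1 := by
  ext i j
  fin_cases i <;> fin_cases j <;> simp [pow_succ, bY, Matrix.mul_apply, Fin.sum_univ_three]

/-- the three shapes belong to `bS` -/
theorem SNORM_shape (hF : Fintype.card F = 4) (a b c : F) (ha : a ≠ 0) (hb : b ≠ 0) (hc : c ≠ 0)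
    (hp : a * b * c = 1) :
    (!![a, 0, 0; 0, b, 0; 0, 0, c] : Matrix (Fin 3) (Fin 3) F) ∈ bS F ∧
    (!![0, 0, a; b, 0, 0; 0, c, 0] : Matrix (Fin 3) (Fin 3) F) ∈ bS F ∧
    (!![0, a, 0; 0, 0, b; c, 0, 0] : Matrix (Fin 3) (Fin 3) F) ∈ bS F := by
  have ha3 := SNORM_cube hF a ha
  have hc3 := SNORM_cube hF c hc
  have hd : b * a ^ 2 ≠ 0 := mul_ne_zero hb (pow_ne_zero 2 ha)
  have e1 : a * (b * a ^ 2) = b := by linear_combination b * ha3
  have e2 : a * (b * a ^ 2) ^ 2 = c := by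
    linear_combination a ^ 2 * b ^ 2 * ha3 - a ^ 2 * b ^ 2 * hc3 + c * (a * b * c + 1) * hp
  refine ⟨⟨a, b * a ^ 2, 0, ha, hd, ?_⟩, ⟨a, b * a ^ 2, 1, ha, hd, ?_⟩,
    ⟨a, b * a ^ 2, 2, ha, hd, ?_⟩⟩
  · ext i j
    fin_cases i <;> fin_cases j <;>
      simp [Matrix.mul_apply, Fin.sum_univ_three, Matrix.diagonal_apply, e1, e2]
  · ext i j
    fin_cases i <;> fin_cases j <;>
      simp [bY, Matrix.mul_apply, Fin.sum_univ_three, Matrix.diagonal_apply, e1, e2]
  · have hY2 : bY F ^ 2 = !![0, 1, 0; 0, 0, 1; 1, 0, 0] := by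
      ext i j
      fin_cases i <;> fin_cases j <;> simp [pow_two, bY, Matrix.mul_apply, Fin.sum_univ_three]
    rw [hY2]
    ext i j
    fin_cases i <;> fin_cases j <;>
      simp [Matrix.mul_apply, Fin.sum_univ_three, Matrix.diagonal_apply, e1, e2]

/-- elements of `bS` have one of the three shapes -/
theorem SNORM_mem (hF : Fintype.card F = 4) (M : Matrix (Fin 3) (Fin 3) F) (hM : M ∈ bS F) :
    ∃ a b c : F, a ≠ 0 ∧ b ≠ 0 ∧ c ≠ 0 ∧ a * b * c = 1 ∧
      (M = !![a, 0, 0; 0, b, 0; 0, 0, c] ∨ M = !![0, 0, a; b, 0, 0; 0, c, 0] ∨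
        M = !![0, a, 0; 0, 0, b; c, 0, 0]) := by
  obtain ⟨c, d, k, hc, hd, rfl⟩ := hM
  have hc3 := SNORM_cube hF c hc
  have hd3 := SNORM_cube hF d hd
  refine ⟨c, c * d, c * d ^ 2, hc, mul_ne_zero hc hd, mul_ne_zero hc (pow_ne_zero 2 hd),
    by linear_combination d ^ 3 * hc3 + hd3, ?_⟩
  rw [pow_eq_pow_mod k SNORM_Y3]
  have hk : k % 3 < 3 := Nat.mod_lt k (by norm_num)
  generalize k % 3 = j at hk
  interval_cases j
  · left
    ext i j
    fin_cases i <;> fin_cases j <;>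
      simp [Matrix.mul_apply, Fin.sum_univ_three, Matrix.diagonal_apply]
  · right; left
    ext i j
    fin_cases i <;> fin_cases j <;>
      simp [bY, Matrix.mul_apply, Fin.sum_univ_three, Matrix.diagonal_apply]
  · right; right
    ext i j
    fin_cases i <;> fin_cases j <;>
      simp [pow_succ, bY, Matrix.mul_apply, Fin.sum_univ_three, Matrix.diagonal_apply]

/-- elements of `bS` are scalar, or unitary of trace `0` and determinant `1` -/
theorem SNORM_char (hF : Fintype.card F = 4) (M : Matrix (Fin 3) (Fin 3) F) (hM : M ∈ bS F) :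
    (∃ s : F, M = s • (1 : Matrix (Fin 3) (Fin 3) F)) ∨
      (Mᵀ * M.map (fun x : F => x ^ 2) = 1 ∧ M.trace = 0 ∧ M.det = 1) := by
  obtain ⟨a, b, c, ha, hb, hc, hp, hM⟩ := SNORM_mem hF M hM
  have ha3 := SNORM_cube hF a ha
  have hb3 := SNORM_cube hF b hb
  have hc3 := SNORM_cube hF c hc
  have ea : a * a ^ 2 = 1 := by linear_combination ha3
  have eb : b * b ^ 2 = 1 := by linear_combination hb3
  have ec : c * c ^ 2 = 1 := by linear_combination hc3
  rcases hM with rfl | rfl | rfl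
  · by_cases hab : a = b
    · left
      have hca : c = a := by
        rw [← hab] at hp
        linear_combination (-c) * ha3 + a * hp
      refine ⟨a, ?_⟩
      rw [← hab, hca]
      ext i j
      fin_cases i <;> fin_cases j <;> simp
    · right
      refine ⟨?_, ?_, ?_⟩
      · ext i j
        fin_cases i <;> fin_cases j <;>
          simp [Matrix.mul_apply, Fin.sum_univ_three, ea, eb, ec]
      · have hc' : c = a ^ 2 * b ^ 2 := by
          linear_combination a ^ 2 * b ^ 2 * hc3 - c * (a * b * c + 1) * hp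
        have hs : (a - b) * (a + b + c) = 0 := by
          rw [hc']
          linear_combination b ^ 2 * ha3 - a ^ 2 * hb3
        rw [Matrix.trace_fin_three]
        simp only [Matrix.of_apply, Matrix.cons_val', Matrix.cons_val_zero, Matrix.cons_val_one,
          Matrix.cons_val_two, Matrix.cons_val_fin_one]
        rcases mul_eq_zero.mp hs with h | h
        · exact absurd (sub_eq_zero.mp h) hab
        · simpa using h
      · rw [Matrix.det_fin_three]
        simp [hp]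
  · right
    refine ⟨?_, ?_, ?_⟩
    · ext i j
      fin_cases i <;> fin_cases j <;>
        simp [Matrix.mul_apply, Fin.sum_univ_three, ea, eb, ec]
    · rw [Matrix.trace_fin_three]
      simp
    · rw [Matrix.det_fin_three]
      simp [hp]
  · right
    refine ⟨?_, ?_, ?_⟩
    · ext i j
      fin_cases i <;> fin_cases j <;>
        simp [Matrix.mul_apply, Fin.sum_univ_three, ea, eb, ec]
    · rw [Matrix.trace_fin_three]
      simp
    · rw [Matrix.det_fin_three]
      simp [hp]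

/-- the description is invariant under unitary conjugation -/
theorem SNORM_inv (hF : Fintype.card F = 4) (g N : Matrix (Fin 3) (Fin 3) F)
    (hg : gᵀ * g.map (fun x : F => x ^ 2) = 1)
    (hN : Nᵀ * N.map (fun x : F => x ^ 2) = 1) (htr : N.trace = 0) (hdet : N.det = 1) :
    ∃ N' : Matrix (Fin 3) (Fin 3) F, N'ᵀ * N'.map (fun x : F => x ^ 2) = 1 ∧ N'.trace = 0 ∧
      N'.det = 1 ∧ g * N = N' * g := by
  have h2 := SNORM_two hF
  haveI : CharP F 2 := CharTwo.of_one_ne_zero_of_two_eq_zero one_ne_zero h2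
  have hσ : (fun x : F => x ^ 2) = ⇑(frobenius F 2) :=
    funext fun x => rfl
  have hσσ : ∀ A : Matrix (Fin 3) (Fin 3) F,
      (A.map (fun x : F => x ^ 2)).map (fun x : F => x ^ 2) = A := by
    intro A
    ext i j
    simp only [Matrix.map_apply]
    rw [← pow_mul]
    exact SNORM_frob hF _
  obtain ⟨L, hL⟩ : ∃ L : Matrix (Fin 3) (Fin 3) F, L = (g.map (fun x : F => x ^ 2))ᵀ := ⟨_, rfl⟩
  have hLg : L * g = 1 := by
    have h := congrArg Matrix.transpose hg
    rw [Matrix.transpose_mul, Matrix.transpose_transpose, Matrix.transpose_one] at h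
    rw [hL]
    exact h
  have hgL : g * L = 1 := mul_eq_one_comm.mp hLg
  have hgσ : g.map (fun x : F => x ^ 2) * gᵀ = 1 := mul_eq_one_comm.mp hg
  refine ⟨g * N * L, ?_, ?_, ?_, ?_⟩
  · have e1 : (g * N * L).map (fun x : F => x ^ 2) = g.map (fun x : F => x ^ 2) *
        N.map (fun x : F => x ^ 2) * L.map (fun x : F => x ^ 2) := by
      rw [hσ, Matrix.map_mul, Matrix.map_mul]
    have e2 : L.map (fun x : F => x ^ 2) = gᵀ := by
      rw [hL, Matrix.transpose_map, hσσ]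
    have e3 : Lᵀ = g.map (fun x : F => x ^ 2) := by rw [hL, Matrix.transpose_transpose]
    rw [e1, e2, Matrix.transpose_mul, Matrix.transpose_mul, e3]
    calc g.map (fun x : F => x ^ 2) * (Nᵀ * gᵀ) *
          (g.map (fun x : F => x ^ 2) * N.map (fun x : F => x ^ 2) * gᵀ)
        = g.map (fun x : F => x ^ 2) *
          (Nᵀ * (gᵀ * g.map (fun x : F => x ^ 2)) * N.map (fun x : F => x ^ 2)) * gᵀ := by
          simp only [Matrix.mul_assoc]
      _ = 1 := by rw [hg, Matrix.mul_one, hN, Matrix.mul_one, hgσ]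
  · rw [Matrix.trace_mul_comm, ← Matrix.mul_assoc, hLg, Matrix.one_mul, htr]
  · rw [Matrix.det_mul, Matrix.det_mul, hdet, mul_one, ← Matrix.det_mul, hgL, Matrix.det_one]
  · rw [Matrix.mul_assoc (g * N) L g, hLg, Matrix.mul_one]

theorem SNORM_col (hF : Fintype.card F = 4) (x y z : F)
    (h : x * x ^ 2 + y * y ^ 2 + z * z ^ 2 = 1) :
    (x ≠ 0 ∧ y = 0 ∧ z = 0) ∨ (x = 0 ∧ y ≠ 0 ∧ z = 0) ∨ (x = 0 ∧ y = 0 ∧ z ≠ 0) ∨
      (x ≠ 0 ∧ y ≠ 0 ∧ z ≠ 0) := by
  have c := SNORM_cube hF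
  by_cases hx : x = 0 <;> by_cases hy : y = 0 <;> by_cases hz : z = 0
  · exfalso
    rw [hx, hy, hz] at h
    simp at h
  · exact Or.inr (Or.inr (Or.inl ⟨hx, hy, hz⟩))
  · exact Or.inr (Or.inl ⟨hx, hy, hz⟩)
  · exfalso
    have hy3 := c y hy
    have hz3 := c z hz
    rw [hx] at h
    have h10 : (1 : F) = 0 := by linear_combination h - hy3 - hz3
    exact one_ne_zero h10
  · exact Or.inl ⟨hx, hy, hz⟩
  · exfalso
    have hx3 := c x hx
    have hz3 := c z hz
    rw [hy] at h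
    have h10 : (1 : F) = 0 := by linear_combination h - hx3 - hz3
    exact one_ne_zero h10
  · exfalso
    have hx3 := c x hx
    have hy3 := c y hy
    rw [hz] at h
    have h10 : (1 : F) = 0 := by linear_combination h - hx3 - hy3
    exact one_ne_zero h10
  · exact Or.inr (Or.inr (Or.inr ⟨hx, hy, hz⟩))

theorem SNORM_ent (N : Matrix (Fin 3) (Fin 3) F)
    (hN : Nᵀ * N.map (fun x : F => x ^ 2) = 1) (j k : Fin 3) :
    N 0 j * N 0 k ^ 2 + N 1 j * N 1 k ^ 2 + N 2 j * N 2 k ^ 2 = (1 : Matrix (Fin 3) (Fin 3) F) j k := by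
  have h := congrFun (congrFun hN j) k
  rw [Matrix.mul_apply, Fin.sum_univ_three] at h
  exact h

theorem SNORM_row (N : Matrix (Fin 3) (Fin 3) F)
    (hN : N.map (fun x : F => x ^ 2) * Nᵀ = 1) (j k : Fin 3) :
    N j 0 ^ 2 * N k 0 + N j 1 ^ 2 * N k 1 + N j 2 ^ 2 * N k 2 = (1 : Matrix (Fin 3) (Fin 3) F) j k := by
  have h := congrFun (congrFun hN j) k
  rw [Matrix.mul_apply, Fin.sum_univ_three] at h
  exact h

theorem SNORM_full (hF : Fintype.card F = 4) (N : Matrix (Fin 3) (Fin 3) F)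
    (hN : Nᵀ * N.map (fun x : F => x ^ 2) = 1) (htr : N.trace = 0) (hdet : N.det = 1)
    (h00 : N 0 0 ≠ 0) (h11 : N 1 1 ≠ 0) (h22 : N 2 2 ≠ 0) (h12 : N 1 2 ≠ 0) (h21 : N 2 1 ≠ 0) :
    False := by
  have h2 := SNORM_two hF
  have c := SNORM_cube hF
  have hN' := mul_eq_one_comm.mp hN
  have r0 := SNORM_row N hN' 0 0
  have r1 := SNORM_row N hN' 0 1
  have r2 := SNORM_row N hN' 0 2
  rw [Matrix.one_apply_eq] at r0
  rw [Matrix.one_apply_ne (by decide)] at r1 r2
  rw [Matrix.trace_fin_three] at htr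
  rw [Matrix.det_fin_three] at hdet
  have c0 := c _ h00
  have c1 := c _ h11
  have c2 := c _ h22
  have hprod : N 0 0 * N 1 1 * N 2 2 = 1 := by
    linear_combination (N 0 0 ^ 2 + N 1 1 ^ 2 + N 2 2 ^ 2 - N 0 0 * N 1 1 - N 1 1 * N 2 2
      - N 0 0 * N 2 2) * htr - c0 - c1 - c2 + (2 * (N 0 0 * N 1 1 * N 2 2 - 1)) * h2
  have hcof : N 1 1 * N 2 2 - N 1 2 * N 2 1 = N 0 0 ^ 2 := by
    linear_combination (-(N 1 1 * N 2 2 - N 1 2 * N 2 1)) * r0
      + (N 0 1 * N 2 2 - N 0 2 * N 2 1) * r1 + (-(N 0 1 * N 1 2 - N 0 2 * N 1 1)) * r2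
      + N 0 0 ^ 2 * hdet
  have hz : N 0 0 * N 1 2 * N 2 1 = 0 := by
    linear_combination hprod - c0 - N 0 0 * hcof
  rcases mul_eq_zero.mp hz with h | h
  · rcases mul_eq_zero.mp h with h | h
    · exact h00 h
    · exact h12 h
  · exact h21 h

/-- unitary matrices of trace `0` and determinant `1` belong to `bS` -/
theorem SNORM_class (hF : Fintype.card F = 4) (N : Matrix (Fin 3) (Fin 3) F)
    (hN : Nᵀ * N.map (fun x : F => x ^ 2) = 1) (htr : N.trace = 0) (hdet : N.det = 1) :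
    N ∈ bS F := by
  have n0 := SNORM_ent N hN 0 0
  have n1 := SNORM_ent N hN 1 1
  have n2 := SNORM_ent N hN 2 2
  have o01 := SNORM_ent N hN 0 1
  have o02 := SNORM_ent N hN 0 2
  have o12 := SNORM_ent N hN 1 2
  rw [Matrix.one_apply_eq] at n0 n1 n2
  rw [Matrix.one_apply_ne (by decide)] at o01 o02 o12
  have htr' := htr
  rw [Matrix.trace_fin_three] at htr'
  have hdet' := hdet
  rw [Matrix.det_fin_three] at hdet'
  rcases SNORM_col hF _ _ _ n0 with ⟨a0, a1, a2⟩ | ⟨a0, a1, a2⟩ | ⟨a0, a1, a2⟩ | ⟨a0, a1, a2⟩ <;>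
  rcases SNORM_col hF _ _ _ n1 with ⟨b0, b1, b2⟩ | ⟨b0, b1, b2⟩ | ⟨b0, b1, b2⟩ | ⟨b0, b1, b2⟩ <;>
  rcases SNORM_col hF _ _ _ n2 with ⟨c0, c1, c2⟩ | ⟨c0, c1, c2⟩ | ⟨c0, c1, c2⟩ | ⟨c0, c1, c2⟩ <;>
  first
  | (exfalso
     simp [a0, a1, a2, b0, b1, b2, c0, c1, c2] at o01 o02 o12 htr'
     done)
  | exact (SNORM_full hF N hN htr hdet a0 b1 c2 c1 b2).elim
  | (have hp : N 0 0 * N 1 1 * N 2 2 = 1 := by simpa [a1, a2, b0, b2, c0, c1] using hdet'
     have e : N = !![N 0 0, 0, 0; 0, N 1 1, 0; 0, 0, N 2 2] := by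
       ext i j
       fin_cases i <;> fin_cases j <;> simp [a1, a2, b0, b2, c0, c1]
     rw [e]
     exact (SNORM_shape hF _ _ _ a0 b1 c2 hp).1)
  | (have hp : N 0 2 * N 1 0 * N 2 1 = 1 := by simpa [a0, a2, b0, b1, c1, c2] using hdet'
     have e : N = !![0, 0, N 0 2; N 1 0, 0, 0; 0, N 2 1, 0] := by
       ext i j
       fin_cases i <;> fin_cases j <;> simp [a0, a2, b0, b1, c1, c2]
     rw [e]
     exact (SNORM_shape hF _ _ _ c0 a1 b2 hp).2.1)
  | (have hp : N 0 1 * N 1 2 * N 2 0 = 1 := by simpa [a0, a1, b1, b2, c0, c2] using hdet'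
     have e : N = !![0, N 0 1, 0; 0, 0, N 1 2; N 2 0, 0, 0] := by
       ext i j
       fin_cases i <;> fin_cases j <;> simp [a0, a1, b1, b2, c0, c2]
     rw [e]
     exact (SNORM_shape hF _ _ _ b0 c1 a2 hp).2.2)

/-- SNORM: every unitary matrix normalises `bS`. -/
theorem SNORM (hF : Fintype.card F = 4) : SNORMp F := by
  intro g hg M hM
  rcases SNORM_char hF M hM with ⟨s, rfl⟩ | ⟨hU, htr, hdet⟩
  · exact ⟨s • 1, hM, by rw [Matrix.mul_smul, Matrix.smul_mul, Matrix.mul_one, Matrix.one_mul]⟩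
  · obtain ⟨N', h1, h2, h3, h4⟩ := SNORM_inv hF g M hg hU htr hdet
    exact ⟨N', SNORM_class hF N' h1 h2 h3, h4⟩

end Cfsg.Agent.Lib.Helper44.BAD
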