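import Mathlib
import Cfsg.Prelude.Def_Blocks
import Cfsg.Agent.Lib.Helper83.Linear

/-!
# Brauer–Reynolds (S0999): foundation definitions

`DOut` bundles the conclusion of helper22's `DOne.core` (principal block of a group with a
Sylow `p`-subgroup of order `p`); `Pre` is the block-free reformulation for a simple group
(general `n`, `v`); `Tab` is the character-table data in the self-centralizing case
`C_G(P) = P`, `|G| = p (p - 1) (p - e)`.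
-/

set_option autoImplicit false

namespace Cfsg.Agent.Lib.Helper10.BR

open Cfsg
open Cfsg.Agent.Lib.Helper83 (trivIrr)

universe u

variable {G : Type u} [Group G]

/-- `psum P ψ y = Σ_{u ∈ P} ψ (y u)`. -/
noncomputable def psum (P : Subgroup G) (ψ : G → ℂ) (y : G) : ℂ :=
  ∑ᶠ u : P, ψ (y * (u : G))

theorem psum_eq_sum (P : Subgroup G) [Fintype P] (ψ : G → ℂ) (y : G) :
    psum P ψ y = ∑ u : P, ψ (y * (u : G)) :=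
  finsum_eq_sum_of_fintype _

/-- The conclusion of `Cfsg.Agent.Lib.Helper22.DOne.core`, bundled. -/
structure DOut (G : Type u) [Group G] (p : ℕ) (M : Ideal AlgInt) (P : Subgroup G) (e : ℕ)
    (X Y : Set (IrrCharacter G)) (εX : IrrCharacter G → ℤ) (ε : ℤ) : Prop where
  block : principalBlock M G = X ∪ Y
  disj : Disjoint X Y
  cardX : Nat.card X = e
  cardY : Nat.card Y = (p - 1) / e
  signX : ∀ χ ∈ X, εX χ = 1 ∨ εX χ = -1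
  degX : ∀ χ ∈ X, (charDegree (χ : G → ℂ) : ℤ) ≡ εX χ [ZMOD p]
  valX : ∀ χ ∈ X, ∀ x : G, x ∈ P → x ≠ 1 →
    ∀ y : G, y ∈ Subgroup.centralizer (P : Set G) → ¬ p ∣ orderOf y →
      (χ : G → ℂ) (x * y) = (εX χ : ℂ)
  signY : ε = 1 ∨ ε = -1
  degY : ∀ θ ∈ Y, (charDegree (θ : G → ℂ) : ℤ) ≡ ε * (e : ℤ) [ZMOD p]
  regY : ∀ θ ∈ Y, ∀ θ' ∈ Y, ∀ g : G, ¬ p ∣ orderOf g → (θ : G → ℂ) g = (θ' : G → ℂ) g
  t1 : ∀ θ ∈ Y, ∀ g : G, ¬ p ∣ orderOf g →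
    (ε : ℂ) * (θ : G → ℂ) g = ∑ᶠ χ ∈ X, (εX χ : ℂ) * (χ : G → ℂ) g

/-- Block-free reformulation of `DOut` for a simple group: the principal block is
`{1} ∪ A ∪ B ∪ Y`; members of `A` have degree `1 + n p` and value `1` on `P \ {1}`,
members of `B` have degree `p - 1` and value `-1` on `P \ {1}`, the `t` members of `Y`
have degree `x₀` and agree on `p`-regular elements. -/
structure Pre (G : Type u) [Group G] (p : ℕ) (M : Ideal AlgInt) (P : Subgroup G)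
    (e t n : ℕ) (ε : ℤ) (x₀ : ℕ) (A B Y : Finset (IrrCharacter G)) : Prop where
  block : principalBlock M G = {ψ | ψ = trivIrr G ∨ ψ ∈ A ∨ ψ ∈ B ∨ ψ ∈ Y}
  triv_nmem : trivIrr G ∉ A ∧ trivIrr G ∉ B ∧ trivIrr G ∉ Y
  disj : Disjoint A B ∧ Disjoint A Y ∧ Disjoint B Y
  degA : ∀ χ ∈ A, (χ : G → ℂ) 1 = ((1 + n * p : ℕ) : ℂ)
  valA : ∀ χ ∈ A, ∀ x ∈ P, x ≠ 1 → (χ : G → ℂ) x = 1
  degB : ∀ χ ∈ B, (χ : G → ℂ) 1 = ((p - 1 : ℕ) : ℂ)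
  valB : ∀ χ ∈ B, ∀ x ∈ P, x ≠ 1 → (χ : G → ℂ) x = -1
  nB : B.Nonempty → (n + 1) * e = p - 1
  cardAB : A.card + B.card = e - 1
  cardY : Y.card = t
  degY : ∀ θ ∈ Y, (θ : G → ℂ) 1 = (x₀ : ℂ)
  x₀_ge : 2 ≤ x₀
  regY : ∀ θ ∈ Y, ∀ θ' ∈ Y, ∀ g : G, ¬ p ∣ orderOf g → (θ : G → ℂ) g = (θ' : G → ℂ) g
  t1 : ∀ θ ∈ Y, ∀ g : G, ¬ p ∣ orderOf g →
    (ε : ℂ) * (θ : G → ℂ) g = 1 + ∑ χ ∈ A, (χ : G → ℂ) g - ∑ χ ∈ B, (χ : G → ℂ) g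
  hε : ε = 1 ∨ ε = -1
  modY : (x₀ : ℤ) ≡ ε * (e : ℤ) [ZMOD p]

/-- Character-table data in the self-centralizing case: `C_G(P) = P`, `|N_G(P)| = e p`,
`e t = p - 1`, `|G| = p (p - 1) (p - e)`; `Irr(G) = {1} ⊔ A ⊔ B ⊔ Y ⊔ D` with
`A`: degree `t (p - e)`, value `1` on `P \ {1}`; `B`: degree `p - 1`, value `-1` on `P \ {1}`;
`Y`: `t` characters of degree `x₀` agreeing on `p`-regular elements; `D`: degree divisible by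
`p`, vanishing on `P \ {1}`. -/
structure Tab (G : Type u) [Group G] (p e t : ℕ) (P : Subgroup G)
    (ε : ℤ) (x₀ : ℕ) (A B Y D : Finset (IrrCharacter G)) : Prop where
  hp : p.Prime
  hp5 : 5 ≤ p
  he : 2 ≤ e
  ht : 3 ≤ t
  het : e * t = p - 1
  cardP : Nat.card P = p
  cent : Subgroup.centralizer (P : Set G) = P
  cardN : Nat.card (Subgroup.normalizer (P : Set G)) = e * p
  cardG : Nat.card G = p * (p - 1) * (p - e)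
  part : ∀ ψ : IrrCharacter G, ψ = trivIrr G ∨ ψ ∈ A ∨ ψ ∈ B ∨ ψ ∈ Y ∨ ψ ∈ D
  triv_nmem : trivIrr G ∉ A ∧ trivIrr G ∉ B ∧ trivIrr G ∉ Y ∧ trivIrr G ∉ D
  disj : Disjoint A B ∧ Disjoint A Y ∧ Disjoint A D ∧ Disjoint B Y ∧ Disjoint B D ∧ Disjoint Y D
  degA : ∀ χ ∈ A, (χ : G → ℂ) 1 = ((t * (p - e) : ℕ) : ℂ)
  valA : ∀ χ ∈ A, ∀ x ∈ P, x ≠ 1 → (χ : G → ℂ) x = 1
  degB : ∀ χ ∈ B, (χ : G → ℂ) 1 = ((p - 1 : ℕ) : ℂ)
  valB : ∀ χ ∈ B, ∀ x ∈ P, x ≠ 1 → (χ : G → ℂ) x = -1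
  cardAB : A.card + B.card = e - 1
  posB : 1 ≤ B.card
  cardY : Y.card = t
  degY : ∀ θ ∈ Y, (θ : G → ℂ) 1 = (x₀ : ℂ)
  x₀_ge : 2 ≤ x₀
  regY : ∀ θ ∈ Y, ∀ θ' ∈ Y, ∀ g : G, ¬ p ∣ orderOf g → (θ : G → ℂ) g = (θ' : G → ℂ) g
  t1 : ∀ θ ∈ Y, ∀ g : G, ¬ p ∣ orderOf g →
    (ε : ℂ) * (θ : G → ℂ) g = 1 + ∑ χ ∈ A, (χ : G → ℂ) g - ∑ χ ∈ B, (χ : G → ℂ) g
  hε : ε = 1 ∨ ε = -1
  modY : (x₀ : ℤ) ≡ ε * (e : ℤ) [ZMOD p]
  degD : ∀ ψ ∈ D, ∃ k : ℕ, (ψ : G → ℂ) 1 = ((p * k : ℕ) : ℂ)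
  valD : ∀ ψ ∈ D, ∀ x ∈ P, x ≠ 1 → (ψ : G → ℂ) x = 0

/-- Splitting a sum over all irreducible characters along the partition of `Tab`. -/
theorem Tab.sum_split {p e t : ℕ} {P : Subgroup G} {ε : ℤ} {x₀ : ℕ}
    {A B Y D : Finset (IrrCharacter G)} (h : Tab G p e t P ε x₀ A B Y D)
    [Fintype (IrrCharacter G)] {R : Type*} [AddCommMonoid R] (f : IrrCharacter G → R) :
    ∑ ψ, f ψ = f (trivIrr G) + ∑ ψ ∈ A, f ψ + ∑ ψ ∈ B, f ψ + ∑ ψ ∈ Y, f ψ + ∑ ψ ∈ D, f ψ := by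
  classical
  obtain ⟨hA, hB, hY, hD⟩ := h.triv_nmem
  obtain ⟨hAB, hAY, hAD, hBY, hBD, hYD⟩ := h.disj
  have huniv : (Finset.univ : Finset (IrrCharacter G)) =
      insert (trivIrr G) (((A ∪ B) ∪ Y) ∪ D) := by
    ext ψ
    simp only [Finset.mem_univ, Finset.mem_insert, Finset.mem_union, true_iff]
    rcases h.part ψ with h1 | h1 | h1 | h1 | h1 <;> tauto
  rw [huniv, Finset.sum_insert (by simp [hA, hB, hY, hD]), Finset.sum_union, Finset.sum_union,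
    Finset.sum_union hAB]
  · simp only [add_assoc]
  · exact Finset.disjoint_union_left.mpr ⟨hAY, hBY⟩
  · exact Finset.disjoint_union_left.mpr ⟨Finset.disjoint_union_left.mpr ⟨hAD, hBD⟩, hYD⟩

end Cfsg.Agent.Lib.Helper10.BR
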