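import Mathlib
import Cfsg.Agent.Lib.Helper12.BRN5
import Cfsg.Agent.Lib.Helper18.BRX5
import Cfsg.Agent.Lib.Helper20.BRN3
import Cfsg.Agent.Lib.Helper20.BRN4
import Cfsg.Agent.Lib.Helper21.BRG6
import Cfsg.Agent.Lib.Helper28.BRG6a
import Cfsg.Agent.Lib.Helper29.BRT1
import Cfsg.Agent.Lib.Helper29.BRX9
import Cfsg.Agent.Lib.Helper30.BRII11
import Cfsg.Agent.Lib.Helper30.BRII5a
import Cfsg.Agent.Lib.Helper34.BRG4
import Cfsg.Agent.Lib.Helper34.BRII10
import Cfsg.Agent.Lib.Helper35.BRI2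
import Cfsg.Agent.Lib.Helper4.BRX7
import Cfsg.Agent.Lib.Helper43.BRT3
import Cfsg.Agent.Lib.Helper46.BRII7
import Cfsg.Agent.Lib.Helper46.BRII8
import Cfsg.Agent.Lib.Helper46.BRII9
import Cfsg.Agent.Lib.Helper5.BRL1
import Cfsg.Agent.Lib.Helper5.BRL4
import Cfsg.Agent.Lib.Helper54.BRN7
import Cfsg.Agent.Lib.Helper55.BRG6c
import Cfsg.Agent.Lib.Helper6.BRG8
import Cfsg.Agent.Lib.Helper6.BRT2
import Cfsg.Agent.Lib.Helper63.BRX3
import Cfsg.Agent.Lib.Helper64.BRG5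
import Cfsg.Agent.Lib.Helper64.BRG7
import Cfsg.Agent.Lib.Helper64.BRII5
import Cfsg.Agent.Lib.Helper64.BRII6
import Cfsg.Agent.Lib.Helper66.BRX4
import Cfsg.Agent.Lib.Helper73.BRI1
import Cfsg.Agent.Lib.Helper74.BRG3
import Cfsg.Agent.Lib.Helper74.BRII4
import Cfsg.Agent.Lib.Helper75.BRF1
import Cfsg.Agent.Lib.Helper78.BRF2
import Cfsg.Agent.Lib.Helper78.BRII1
import Cfsg.Agent.Lib.Helper8.BRII12
import Cfsg.Agent.Lib.Helper83.BRL2
import Cfsg.Agent.Lib.Helper83.BRL3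
import Cfsg.Agent.Lib.Helper85.BRG1
import Cfsg.Agent.Lib.Helper85.BRX8
import Cfsg.Agent.Lib.Helper87.BRN1
import Cfsg.Agent.Lib.Helper87.BRN2
import Cfsg.Agent.Lib.Helper88.BRN6
import Cfsg.Agent.Lib.Helper90.BRX1
import Cfsg.Agent.Lib.Helper92.BRX2

import Cfsg.Agent.Lib.Helper22.DOne2
import Cfsg.Agent.Lib.Helper82.PQ
import Cfsg.Agent.S0493

set_option autoImplicit false

namespace Cfsg.Agent.Lib.Helper10.BR

open Cfsg
open Cfsg.Agent.Lib.Helper83 (trivIrr)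
open scoped ComplexConjugate

theorem isChar_irr {G : Type*} [Group G] (χ : IrrCharacter G) : IsCharacter G (χ : G → ℂ) := by
  obtain ⟨n, ρ, -, h⟩ := χ.2
  exact ⟨n, ρ, h⟩

theorem isClass_irr {G : Type*} [Group G] (χ : IrrCharacter G) :
    IsClassFunction G (χ : G → ℂ) := by
  obtain ⟨n, ρ, -, h⟩ := χ.2
  rw [← h]
  exact fun g x => Representation.char_conj ρ g x

section T

variable {G : Type*} [Group G] [Fintype G] {p e t : ℕ} {P : Subgroup G} {ε : ℤ} {x₀ : ℕ}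
  {A B Y D : Finset (IrrCharacter G)}

theorem Tab.comm (h : Tab G p e t P ε x₀ A B Y D) : ∀ a ∈ P, ∀ b ∈ P, a * b = b * a := by
  intro a ha b hb
  have hle : P ≤ Subgroup.centralizer (P : Set G) := by rw [h.cent]
  exact (hle hb a ha)

theorem Tab.exists_ne_one (h : Tab G p e t P ε x₀ A B Y D) : ∃ x ∈ P, x ≠ 1 := by
  have h5 := h.hp5
  have hc : 1 < Nat.card P := by rw [h.cardP]; omega
  haveI : Finite P := Nat.finite_of_card_ne_zero (by omega)
  haveI : Nontrivial P := Finite.one_lt_card_iff_nontrivial.mp hc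
  obtain ⟨⟨x, hx⟩, hx1⟩ := exists_ne (1 : P)
  exact ⟨x, hx, fun h1 => hx1 (Subtype.ext h1)⟩

theorem Tab.invol_not_mem (h : Tab G p e t P ε x₀ A B Y D) (τ : G) (hτ2 : orderOf τ = 2) :
    τ ∉ P := by
  intro hτ
  have h5 := h.hp5
  have hdvd : orderOf (⟨τ, hτ⟩ : P) ∣ Nat.card P := orderOf_dvd_natCard _
  rw [Subgroup.orderOf_mk, hτ2, h.cardP] at hdvd
  have := (Nat.prime_dvd_prime_iff_eq Nat.prime_two h.hp).mp hdvd
  omega

/-- Stage T: the table forces `e = 2` and a subgroup of index `p`. -/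
theorem tab_main (h : Tab G p e t P ε x₀ A B Y D) : e = 2 ∧ ∃ H : Subgroup G, H.index = p := by
  have hF1 := fun x hx hx1 => sumY h x hx hx1
  have hdvd := x0_dvd_of h hF1
  obtain ⟨hlA, hlB, hlY, hlD⟩ := lin_vals_of h hF1
  rcases config_of h hdvd with ⟨hε, hx, ha⟩ | ⟨hε, hx, ha⟩
  · exfalso
    have hab : ∀ θ ∈ Y, ((θ : G → ℂ) 1).re * (Nat.card P : ℝ) ≤
        (psum P (fun g => (θ : G → ℂ) g * conj ((θ : G → ℂ) g)) 1).re :=
      fun θ _ => abelian_norm_ge P h.comm θ (isChar_irr θ)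
    exact config_I_false_of h hε hx hlA hlB hlD (linY_I_of h hε hx hF1 hlY hab)
  · have hp0 : (p : ℂ) ≠ 0 := by
      have := h.hp.pos
      exact_mod_cast this.ne'
    have hBv : ∀ χ ∈ B, ∀ y ∈ Subgroup.normalizer (P : Set G), y ∉ P → (χ : G → ℂ) y = 0 := by
      intro χ hχ y hy hyP
      have h0 := psum_zero P χ (isChar_irr χ) (hlB χ hχ) y
      rw [psum_outer h χ (isClass_irr χ) y hy hyP] at h0
      exact (mul_eq_zero.mp h0).resolve_left hp0
    have hreg := fun y hy hyP => pregular_outer h y hy hyP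
    have hY1 := linY_II_of h hε hx ha hlA hlY hBv hreg
    have hhom : ∀ θ ∈ Y, ∃ lam : Subgroup.normalizer (P : Set G) →* ℂˣ,
        ∀ y : Subgroup.normalizer (P : Set G),
          psum P (θ : G → ℂ) (y : G) = (Nat.card P : ℂ) * ((lam y : ℂˣ) : ℂ) :=
      fun θ hθ => psum_hom P θ (isChar_irr θ) (by rw [(hY1 θ hθ).1, h.cardP])
    have hout : ∀ θ ∈ Y, ∀ y ∈ Subgroup.normalizer (P : Set G), y ∉ P →
        psum P (θ : G → ℂ) y = (p : ℂ) * (θ : G → ℂ) y :=
      fun θ _ y hy hyP => psum_outer h θ (isClass_irr θ) y hy hyP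
    have hAconj := A_conj_closed h hε hx
    obtain ⟨⟨τ, hτ, hτ2⟩, hθpm⟩ := exists_invol_of h hε hx hY1 hhom hout hBv hreg hAconj
    have hτP : τ ∉ P := h.invol_not_mem τ hτ2
    have hs := invol_struct h τ hτ hτ2
    obtain ⟨x, hxP, hx1⟩ := h.exists_ne_one
    have hcount := count_x_of h τ hτ hτ2 hs x hxP hx1
    have hE := cent_N_of h τ hτ hτ2 hs
    have hBτ : ∀ χ ∈ B, (χ : G → ℂ) τ = 0 := fun χ hχ => hBv χ hχ τ hτ hτP
    have hθτ := hθpm τ hτ hτ2
    have h1 := class_eq1_of h hε hx τ hτ2 x hxP hx1 hcount (hF1 x hxP hx1) hBτ hθτ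
    have h2 := col_tau_of h hε hx τ hτ2 hBτ
    have h3 := deg_sq h hε hx ha
    have h4 := orth_tau_of h τ hτ2 hBτ hθτ
    have h5 : ∀ χ ∈ A, ‖(χ : G → ℂ) τ‖ ≤ (t : ℝ) := by
      intro χ hχ
      have hb := psum_bound P χ (isChar_irr χ) τ hτ
      rw [psum_outer h χ (isClass_irr χ) τ hτ hτP, hlA χ hχ, norm_mul, Complex.norm_natCast,
        Complex.natCast_re] at hb
      have hpp : (0 : ℝ) < p := by exact_mod_cast h.hp.pos
      push_cast at hb
      nlinarith [norm_nonneg ((χ : G → ℂ) τ)]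
    have hez : e ∣ Nat.card (Subgroup.centralizer ({τ} : Set G)) := by
      rw [← hE.1]
      exact Subgroup.card_dvd_of_le inf_le_right
    obtain ⟨hz, hAτ, hDτ⟩ := z_eq_of h ha τ hτ2 hez h1 h2 h3 h4 h5
    obtain ⟨hθm, hA0⟩ := theta_tau_of h hε τ hτ2 hBτ hθτ hAτ
    have hcnt := count_tau_of h hε hx ha τ hτ2 hz hBτ hAτ hA0 hθm hDτ h3
    obtain ⟨he2, hconj⟩ := e_eq_two_of h τ hτ hτ2 hz hE hcnt
    exact ⟨he2, index_p_of h he2 τ hτ2 hz hconj⟩

end T

/-- Brauer–Reynolds. -/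
theorem main {G : Type*} [Group G] [Finite G] [IsSimpleGroup G] (hG : ¬ IsCyclic G) (p : ℕ)
    (hp : p.Prime) (hdvd : p ∣ Nat.card G) (hbig : Nat.card G < p ^ 3) :
    (∃ (F : Type) (_ : Field F) (_ : Fintype F), Fintype.card F = p ∧ 3 < p ∧
      Nonempty (G ≃* Matrix.ProjectiveSpecialLinearGroup (Fin 2) F)) ∨
    (∃ (m : ℕ) (F : Type) (_ : Field F) (_ : Fintype F), Fintype.card F = 2 ^ m ∧
      p = 2 ^ m + 1 ∧ 3 < p ∧
      Nonempty (G ≃* Matrix.ProjectiveSpecialLinearGroup (Fin 2) F)) := by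
  classical
  haveI : Fact p.Prime := ⟨hp⟩
  letI : Fintype G := Fintype.ofFinite G
  -- p ≥ 5
  have hp5 : 5 ≤ p := by
    by_contra hlt
    have hp2 := hp.two_le
    have hle : Nat.card G ≤ 100 := by
      have : p ^ 3 ≤ 4 ^ 3 := Nat.pow_le_pow_left (by omega) 3
      omega
    have h60 := Cfsg.Agent.S0493.result hG hle
    have : p ^ 3 ≤ 3 ^ 3 := by
      have h4 : p ≠ 4 := by rintro rfl; exact absurd hp (by decide)
      exact Nat.pow_le_pow_left (by omega) 3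
    omega
  obtain ⟨P⟩ : Nonempty (Sylow p G) := inferInstance
  have hP := sylow_card hG p hdvd hbig P
  obtain ⟨n, v, hS, hv, hCc, hNc, hidx, hcard⟩ := card_decomp p P hP
  have he1' := relIndex_ne_one hG p P hP
  have hedvd' := relIndex_dvd p P hP
  obtain ⟨e, hedef⟩ : ∃ e, (Subgroup.centralizer ((P : Subgroup G) : Set G)).relIndex
      (Subgroup.normalizer ((P : Subgroup G) : Set G)) = e := ⟨_, rfl⟩
  rw [hedef] at hNc hidx hcard he1' hedvd'
  have he1 : e ≠ 1 := he1'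
  have hedvd : e ∣ p - 1 := hedvd'
  have hn0 : n ≠ 0 := by
    rintro rfl
    exact card_sylow_ne_one hG p P hP (by simpa using hS)
  have he0 : e ≠ 0 := by
    rintro h0
    rw [h0] at hedvd
    have := Nat.eq_zero_of_zero_dvd hedvd
    omega
  have he2 : 2 ≤ e := by omega
  obtain ⟨t, ht⟩ := hedvd
  have het : e * t = p - 1 := ht.symm
  -- n * e * v < p
  have hnev : n * e * v < p := by
    rw [hcard] at hbig
    have hpos := hp.pos
    by_contra hge
    rw [not_lt] at hge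
    have h1 : p ^ 3 ≤ (1 + n * p) * (e * (p * v)) := by
      calc p ^ 3 = p * p * p := by ring
        _ ≤ (n * e * v) * p * p := by gcongr
        _ = (n * p) * (e * (p * v)) := by ring
        _ ≤ (1 + n * p) * (e * (p * v)) := by gcongr; omega
    exact absurd hbig (not_lt.mpr h1)
  rcases Nat.lt_or_ge n 2 with hn1 | hn2
  · -- n = 1
    have hn : n = 1 := by omega
    subst hn
    left
    have hd : e * v < p := by simpa using hnev
    have hcard' : Nat.card G = (1 + 1 * p) * (p * (e * v)) := by rw [hcard]; ring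
    obtain ⟨f⟩ := case_one_of hG p hp5 hS (e * v) hcard' hd
      (fun f => not_pgl hG p (by omega) f)
      (fun q Γ hq hΓ f => not_semiaffine hG q hq Γ hΓ f)
    exact ⟨ZMod p, inferInstance, inferInstance, ZMod.card p, by omega, ⟨f⟩⟩
  · -- n ≥ 2
    right
    have hv0 : 0 < v := hv
    have hne : n * e < p := by
      have : n * e ≤ n * e * v := Nat.le_mul_of_pos_right _ hv0
      omega
    have ht2 : 2 ≤ (p - 1) / e := by
      rw [← het, Nat.mul_div_cancel_left _ (by omega : 0 < e)]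
      by_contra hlt
      have ht1 : t ≤ 1 := by omega
      have : e * t ≤ e := by nlinarith
      have : 2 * e ≤ n * e := Nat.mul_le_mul_right e hn2
      omega
    obtain ⟨M, hM⟩ := Cfsg.Agent.Lib.Helper82.exists_isPModular p
    obtain ⟨X, Y, hblock, hdisj, hcX, hcY, εX, ε, hX, hε, hdY, hregY, ht1⟩ :=
      Cfsg.Agent.Lib.Helper22.DOne.core p M hM P hP e hedef
    have hD : DOut G p M (P : Subgroup G) e X Y εX ε :=
      ⟨hblock, hdisj, hcX, hcY, fun χ hχ => (hX χ hχ).1, fun χ hχ => (hX χ hχ).2.1,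
        fun χ hχ => (hX χ hχ).2.2, hε, hdY, hregY, ht1⟩
    have htriv := triv_mem hG p M hM (P : Subgroup G) hP e X Y εX ε hD ht2
    have hdeg : ∀ χ ∈ X, charDegree (χ : G → ℂ) ∣ (1 + n * p) * e := by
      intro χ hχ
      rw [← hidx]
      refine deg_dvd p hp (P : Subgroup G) hP χ (εX χ) (hX χ hχ).1 ?_
      intro x hx hx1
      have := (hX χ hχ).2.2 x hx hx1 1 (Subgroup.one_mem _) (by simp [hp.ne_one])
      simpa using this
    have harith : ∀ (d : ℕ) (s : ℤ), 2 ≤ d → d ∣ (1 + n * p) * e → (s = 1 ∨ s = -1) →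
        (d : ℤ) ≡ s [ZMOD p] →
        (s = 1 ∧ d = 1 + n * p) ∨ (s = -1 ∧ d = p - 1 ∧ (n + 1) * e = p - 1) :=
      fun d s hd2 hdd hs hmod => arith_X p e n d s hp hp5 he2 hn2 hne hd2 hdd hs hmod
    obtain ⟨x₀, A, B, Yf, hPre⟩ := exists_pre_of hG p hp5 M hM P hP e t n he2 het hn2 hne
      X Y εX ε hD htriv hdeg harith
    obtain ⟨hB1, hnt, hv1, ht3⟩ := pre_numeric p hp hp5 M (P : Subgroup G) e t n v ε x₀ A B Yf
      hPre he2 het hn2 hnev hv hcard
    subst hv1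
    have hCP : Subgroup.centralizer ((P : Subgroup G) : Set G) = (P : Subgroup G) :=
      cent_eq p P hP (by simpa using hCc)
    have hNc' : Nat.card (Subgroup.normalizer ((P : Subgroup G) : Set G)) = e * p := by
      simpa using hNc
    have hcard' : Nat.card G = (1 + n * p) * (e * p) := by simpa using hcard
    obtain ⟨D, hTab⟩ := exists_tab_of p hp5 M hM P hP e t n ε x₀ A B Yf hPre he2 het ht3 hnt hB1
      hCP hNc' hcard'
      (fun ψ hψ => mem_principal_of_self_centralizing p M hM P hP hCP ψ hψ)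
      (fun ψ hψ x hx => vanish_of_dvd p P hP ψ hψ x hx)
    obtain ⟨he, H, hH⟩ := tab_main hTab
    have hN2 : Nat.card (Subgroup.normalizer ((P : Subgroup G) : Set G)) = 2 * p := by
      rw [hNc', he]
    obtain ⟨m, F, iF, iF', hF, hpm, hiso⟩ := final_of hG p hp5 P hP hN2 H hH
      (fun F _ _ a ha => sl_equiv_psl F a ha)
    exact ⟨m, F, iF, iF', hF, hpm, by omega, hiso⟩

end Cfsg.Agent.Lib.Helper10.BR
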