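import Mathlib
import Cfsg.Agent.Lib.Helper10.BTX1
import Cfsg.Agent.Lib.Helper16.BTV1
import Cfsg.Agent.Lib.Helper16.BTX2
import Cfsg.Agent.Lib.Helper20.BTL0
import Cfsg.Agent.Lib.Helper20.BTL3
import Cfsg.Agent.Lib.Helper29.BTP3
import Cfsg.Agent.Lib.Helper34.BTK5
import Cfsg.Agent.Lib.Helper35.BTT3
import Cfsg.Agent.Lib.Helper36.BTT2
import Cfsg.Agent.Lib.Helper36.BTX3
import Cfsg.Agent.Lib.Helper4.BTP2
import Cfsg.Agent.Lib.Helper4.BTR3
import Cfsg.Agent.Lib.Helper4.BTV2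
import Cfsg.Agent.Lib.Helper46.BTA4
import Cfsg.Agent.Lib.Helper46.BTA5
import Cfsg.Agent.Lib.Helper46.BTR4
import Cfsg.Agent.Lib.Helper46.BTR5
import Cfsg.Agent.Lib.Helper46.BTT1
import Cfsg.Agent.Lib.Helper46.BTT4
import Cfsg.Agent.Lib.Helper62.BTL1
import Cfsg.Agent.Lib.Helper62.BTL2
import Cfsg.Agent.Lib.Helper62.BTP1
import Cfsg.Agent.Lib.Helper62.BTR1
import Cfsg.Agent.Lib.Helper62.BTR2
import Cfsg.Agent.Lib.Helper62.BTV3
import Cfsg.Agent.Lib.Helper74.BTP4
import Cfsg.Agent.Lib.Helper74.BTP5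
import Cfsg.Agent.Lib.Helper79.BTA1
import Cfsg.Agent.Lib.Helper79.BTA2
import Cfsg.Agent.Lib.Helper79.BTA3
import Cfsg.Agent.Lib.Helper81.BTL4
import Cfsg.Agent.Lib.Helper81.BTL5
import Cfsg.Agent.Lib.Helper82.BTK3
import Cfsg.Agent.Lib.Helper83.BTK2
import Cfsg.Agent.Lib.Helper83.BTK4
import Cfsg.Agent.Lib.Helper10.BR1

set_option autoImplicit false
set_option linter.style.haveILetI false

namespace Cfsg.Agent.Lib.Helper10.BT

open Cfsg
open Cfsg.Agent.Lib.Helper83 (trivIrr)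
open Cfsg.Agent.Lib.Helper10.BR (psum DOut Tab)
open scoped ComplexConjugate

/-- The rank argument: `(n + 1) ∣ (1 + n p) p`. -/
theorem rank_dvd {G : Type*} [Group G] [Fintype G] (p : ℕ) [Fact p.Prime] (P : Sylow p G)
    {e t n : ℕ} {ε : ℤ} {x₀ : ℕ} {A B Y D : Finset (IrrCharacter G)}
    (h : GTab G p e t n (P : Subgroup G) ε x₀ A B Y D) (hx : n < x₀)
    (hsq : ∑ ψ ∈ D, (ψ : G → ℂ) 1 * (ψ : G → ℂ) 1 = ((n * p ^ 2 : ℕ) : ℂ))
    (hS : Nat.card (Sylow p G) = 1 + n * p) : (n + 1) ∣ (1 + n * p) * p := by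
  classical
  haveI : Finite (IrrCharacter G) := Cfsg.Agent.Lib.Helper82.finite_irrCharacter G
  letI : Fintype (IrrCharacter G) := Fintype.ofFinite _
  choose c hc using fun ψ : IrrCharacter G =>
    BR.BRI1aux.psum_nat (Subgroup.normalizer ((P : Subgroup G) : Set G)) ψ
  have hK2 := perm_deg (G := G) (Subgroup.normalizer ((P : Subgroup G) : Set G))
  have hK4 := fun ψ : IrrCharacter G => perm_le (P : Subgroup G)
    (Subgroup.normalizer ((P : Subgroup G) : Set G)) Subgroup.le_normalizer le_rfl ψ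
  have hr := rank_count h hx hsq c hc hK2 hK4
  have hK3 := perm_sq (Subgroup.normalizer ((P : Subgroup G) : Set G)) c hc
  rw [hr, h.cardN] at hK3
  have hT := inter_card p P h.cardP e n h.cardN h.cardG hK3.symm
  have hall := fun P₁ : Sylow p G => conj_all p P e h.cent h.cardN P₁
  have hPall : ∀ P₁ : Sylow p G, Nat.card P₁ = p := by
    intro P₁
    have h1 := P₁.card_eq_multiplicity
    have h2 := P.card_eq_multiplicity
    have h3 : Nat.card (P : Subgroup G) = p := h.cardP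
    rw [h1, ← h2]
    exact h3
  have he : e ∣ p - 1 := ⟨t, h.het.symm⟩
  have hone := fun (P₁ P' : Sylow p G) (hne : P' ≠ P₁) (y u : G) hy hyP hu h1 h2 =>
    fix_le_one p e he hPall (fun Q => (hall Q).1) hT P₁ P' hne y u hy hyP hu h1 h2
  have hF := fun (P₁ : Sylow p G) (y : G) hy hyP =>
    fix_count_elt p e n he h.he hS hPall (fun Q => (hall Q).2) hT hone P₁ y hy hyP
  have hF2 := fun (P₁ P₂ : Sylow p G) (h12 : P₁ ≠ P₂) =>
    fix_sub p e n he h.he hPall (fun Q => (hall Q).1) (fun Q => (hall Q).2) hT hF P₁ P₂ h12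
  exact line_count p e n h.hn hS hT hF2

/-- Brauer–Reynolds Theorem 1 for a perfect group with `O_{p'} = 1` when (III) fails. -/
theorem core_thm {S : Type*} [Group S] [Finite S] (hperf : commutator S = ⊤) (p : ℕ)
    [Fact p.Prime]
    (hcore : ∀ M : Subgroup S, M.Normal → (Nat.card M).Coprime p → M = ⊥)
    (P : Sylow p S) (hP : Nat.card P = p) (n : ℕ) (hn : Nat.card (Sylow p S) = 1 + n * p)
    (h3 : ¬ III n p) :
    (∃ (F : Type) (_ : Field F) (_ : Fintype F), Fintype.card F = p ∧ 3 < p ∧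
      Nonempty (S ≃* Matrix.ProjectiveSpecialLinearGroup (Fin 2) F)) ∨
    (∃ (m : ℕ) (F : Type) (_ : Field F) (_ : Fintype F), Fintype.card F = 2 ^ m ∧
      p = 2 ^ m + 1 ∧ 3 < p ∧ Nonempty (S ≃* Matrix.SpecialLinearGroup (Fin 2) F)) := by
  classical
  have hp : p.Prime := Fact.out
  letI : Fintype S := Fintype.ofFinite S
  obtain ⟨n', v, hS, hv, hCc, hNc, hidx, hcard⟩ := BR.card_decomp p P hP
  have hnn : n' = n := by
    have h1 : 1 + n' * p = 1 + n * p := by rw [← hS, hn]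
    have h2 : n' * p = n * p := by omega
    exact Nat.eq_of_mul_eq_mul_right hp.pos h2
  rw [hnn] at hidx hcard
  obtain ⟨he1', hS1⟩ := perf_basic hperf p P hP
  have hedvd' := BR.relIndex_dvd p P hP
  obtain ⟨e, hedef⟩ : ∃ e, (Subgroup.centralizer ((P : Subgroup S) : Set S)).relIndex
      (Subgroup.normalizer ((P : Subgroup S) : Set S)) = e := ⟨_, rfl⟩
  rw [hedef] at hNc hidx hcard he1' hedvd'
  have he1 : e ≠ 1 := he1'
  have hedvd : e ∣ p - 1 := hedvd'
  have hn1 : 1 ≤ n := by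
    rcases Nat.eq_zero_or_pos n with h0 | h0
    · exfalso
      rw [h0] at hn
      exact hS1 (by simpa using hn)
    · exact h0
  have hp2 := hp.two_le
  have he0 : e ≠ 0 := by
    rintro h0
    rw [h0] at hedvd
    have := Nat.eq_zero_of_zero_dvd hedvd
    omega
  have he2 : 2 ≤ e := by omega
  obtain ⟨t, ht⟩ := hedvd
  have het : e * t = p - 1 := ht.symm
  have ht1 : 1 ≤ t := by
    rcases Nat.eq_zero_or_pos t with h0 | h0
    · rw [h0] at het
      have hle : e ≤ p - 1 := Nat.le_of_dvd (by omega) ⟨t, ht⟩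
      omega
    · exact h0
  have hdivt : (p - 1) / e = t := by
    rw [← het, Nat.mul_div_cancel_left _ (by omega : 0 < e)]
  have hep : e < p := by
    have : e * 1 ≤ e * t := Nat.mul_le_mul_left e ht1
    omega
  obtain ⟨M, hM⟩ := Cfsg.Agent.Lib.Helper82.exists_isPModular p
  obtain ⟨X0, Y0, hblock, hdisj, hcX, hcY, εX0, ε0, hX, hε, hdY, hregY, ht1'⟩ :=
    Cfsg.Agent.Lib.Helper22.DOne.core p M hM P hP e hedef
  have hD0 : DOut S p M (P : Subgroup S) e X0 Y0 εX0 ε0 :=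
    ⟨hblock, hdisj, hcX, hcY, fun χ hχ => (hX χ hχ).1, fun χ hχ => (hX χ hχ).2.1,
      fun χ hχ => (hX χ hχ).2.2, hε, hdY, hregY, ht1'⟩
  obtain ⟨X, Y, εX, ε, hD, htrivX, htrivs⟩ :=
    triv_norm hperf p M hM (P : Subgroup S) hP e ⟨t, ht⟩ he2 X0 Y0 εX0 ε0 hD0
  have hdiv := nonIII_dvd p n hp h3
  have hdegX : ∀ χ ∈ X, charDegree (χ : S → ℂ) ∣ (1 + n * p) * e := by
    intro χ hχ
    rw [← hidx]
    refine BR.deg_dvd p hp (P : Subgroup S) hP χ (εX χ) (hD.signX χ hχ) ?_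
    intro x hx hx1
    have := hD.valX χ hχ x hx hx1 1 (Subgroup.one_mem _) (by simp [hp.ne_one])
    simpa using this
  have hY1 : 1 ≤ (p - 1) / e := by rw [hdivt]; exact ht1
  have hsumY := fun (x : S) (hx : x ∈ (P : Subgroup S)) (hx1 : x ≠ 1) =>
    exc_sum p M hM (P : Subgroup S) hP e X Y εX ε hD hY1 x hx hx1
  have hdegY : ∀ θ ∈ Y, charDegree (θ : S → ℂ) ∣ (1 + n * p) * e := by
    rw [← hidx]
    exact exc_dvd p M hM (P : Subgroup S) hP e X Y εX ε hD hY1 hsumY
  have harith := fun (d : ℕ) (s : ℤ) hd2 hdd hs hmod =>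
    arith_deg p e t n d s hp he2 het hdiv hd2 hdd hs hmod
  obtain ⟨x₀, A, B, C, Yf, hPre⟩ := exists_preC p M hM P hP e t n he2 het X Y εX ε hD
    ⟨htrivX, htrivs⟩ (deg_ge_two hperf) hdegX hdegY hsumY harith
  have heq := preC_eq p hp M (P : Subgroup S) e t n ε x₀ A B C Yf hPre ht1
  obtain ⟨hc0, hb1, hcfg⟩ := config_arith p e t n A.card B.card C.card x₀ ε hp he2 het hn1
    hdiv hPre.cardABC (fun h => hPre.tC (Finset.card_pos.mp (Nat.pos_of_ne_zero h)))
    hPre.hε hPre.x₀_ge hPre.modY hPre.dvdY heq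
  have hCe : C = ∅ := Finset.card_eq_zero.mp hc0
  subst hCe
  -- kill V
  obtain ⟨χ, hχ⟩ : B.Nonempty := Finset.card_pos.mp hb1
  have hker := fun (y : S) hy hyp =>
    ker_val p hp (P : Subgroup S) hP χ (hPre.degB χ hχ) (hPre.valB χ hχ) y hy hyp
  have hne : ∀ x ∈ (P : Subgroup S), x ≠ 1 → (χ : S → ℂ) x ≠ (χ : S → ℂ) 1 := by
    intro x hx hx1 heq'
    have h1 := hPre.valB χ hχ x hx hx1 1 (Subgroup.one_mem _) (by simp [hp.ne_one])
    rw [mul_one] at h1
    rw [h1, hPre.degB χ hχ] at heq'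
    have h2 : ((p - 1 : ℕ) : ℂ) = ((p : ℕ) : ℂ) - 1 := by
      rw [Nat.cast_sub hp.one_lt.le]; simp
    rw [h2] at heq'
    have h3 : ((p : ℕ) : ℂ) = 0 := by linear_combination -heq'
    exact hp.ne_zero (by exact_mod_cast h3)
  have hCP := cent_of_ker p P hP hcore χ hne hker
  obtain ⟨hsimp, hncyc⟩ := simple_of hperf p hcore P hP hCP
  haveI := hsimp
  have hv1 : v = 1 := by
    rw [hCP, hP] at hCc
    have : p * 1 = p * v := by omega
    exact (Nat.eq_of_mul_eq_mul_left hp.pos this).symm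
  subst hv1
  have hNc' : Nat.card (Subgroup.normalizer ((P : Subgroup S) : Set S)) = e * p := by
    simpa using hNc
  have hcard' : Nat.card S = (1 + n * p) * (e * p) := by simpa using hcard
  obtain ⟨D, hT⟩ := exists_gtab p M hM P hP e t n ε x₀ A B Yf hPre he2 het ht1 hn1 hCP hNc'
    hcard'
    (fun ψ hψ => BR.mem_principal_of_self_centralizing p M hM P hP hCP ψ hψ)
    (fun ψ hψ x hx => BR.vanish_of_dvd p P hP ψ hψ x hx)
  have hsq := sumsq hT hcfg
  -- the two endgames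
  have endI : 5 ≤ p → n = 1 →
      ∃ (F : Type) (_ : Field F) (_ : Fintype F), Fintype.card F = p ∧ 3 < p ∧
        Nonempty (S ≃* Matrix.ProjectiveSpecialLinearGroup (Fin 2) F) := by
    intro hp5 hn1'
    subst hn1'
    have hcard'' : Nat.card S = (1 + 1 * p) * (p * e) := by rw [hcard']; ring
    obtain ⟨f⟩ := BR.case_one_of hncyc p hp5 hn e hcard'' hep
      (fun f => BR.not_pgl hncyc p (by omega) f)
      (fun q Γ hq hΓ f => BR.not_semiaffine hncyc q hq Γ hΓ f)
    exact ⟨ZMod p, inferInstance, inferInstance, ZMod.card p, by omega, ⟨f⟩⟩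
  rcases hcfg with ⟨hε1, hx, hb, ha⟩ | ⟨hε1, h1, h2⟩
  · -- configuration (I)
    have hxn : n < x₀ := by
      rw [hx, ← ha]
      have : 1 ≤ A.card := by
        rcases Nat.eq_zero_or_pos A.card with h0 | h0
        · rw [h0] at ha; omega
        · exact h0
      nlinarith
    have hdvd := rank_dvd p P hT hxn hsq hn
    rcases Nat.lt_or_ge t 2 with ht2 | ht2
    · have ht1'' : t = 1 := by omega
      subst ht1''
      exact (arith_I1 p e n A.card hp he2 het hn1 ha hdvd).elim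
    · obtain ⟨hn1', ht2'⟩ := cfgI_g hT hε1 hx ha ht2 (linY_I_g hT hε1 hx)
      left
      exact endI (by subst ht2'; omega) hn1'
  · -- configuration (II)
    have hxn : n < x₀ := by
      by_contra hcon
      rw [not_lt] at hcon
      have h4 : t * x₀ ≤ t * n := Nat.mul_le_mul_left t hcon
      have htp : t ≤ p := by
        have : 1 * t ≤ e * t := Nat.mul_le_mul_right t (by omega)
        omega
      have h5 : t * n ≤ n * p := by
        rw [Nat.mul_comm t n]
        exact Nat.mul_le_mul_left n htp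
      omega
    have hdvd := rank_dvd p P hT hxn hsq hn
    have hmod : (x₀ : ℤ) ≡ -(e : ℤ) [ZMOD p] := by
      have := hT.modY
      rw [hε1] at this
      simpa using this
    have hnt := arith_II p e t n A.card B.card x₀ hp he2 het hn1 hT.cardAB hmod h1 h2 hdvd
    rcases Nat.lt_or_ge t 3 with ht3 | ht3
    · left
      exact endI (by have : t = 2 := by omega
                     subst this; omega) (by omega)
    · right
      have hTab := tab_of_gtab hT hnt ht3 hb1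
      have hp5 : 5 ≤ p := by
        have : 2 * 3 ≤ e * t := Nat.mul_le_mul he2 ht3
        omega
      obtain ⟨he, H, hH⟩ := BR.tab_main hTab
      have hN2 : Nat.card (Subgroup.normalizer ((P : Subgroup S) : Set S)) = 2 * p := by
        rw [hNc', he]
      obtain ⟨m, F, iF, iF', hF, hpm, ⟨f⟩⟩ := BR.final_of hncyc p hp5 P hP hN2 H hH
        (fun F _ _ a ha => BR.sl_equiv_psl F a ha)
      obtain ⟨g⟩ := @BR.sl_equiv_psl F iF iF' m hF
      exact ⟨m, F, iF, iF', hF, hpm, by omega, ⟨f.trans g.symm⟩⟩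

/-- Brauer–Reynolds Theorem 1 (S4700). -/
theorem main {G : Type*} [Group G] [Finite G] (hperf : commutator G = ⊤) (p : ℕ)
    [Fact p.Prime] (P : Sylow p G) (hP : Nat.card P = p) (n : ℕ)
    (hn : Nat.card (Sylow p G) = 1 + n * p) :
    (∃ (F : Type) (_ : Field F) (_ : Fintype F), Fintype.card F = p ∧ 3 < p ∧
      Nonempty (G ⧸ Cfsg.pPrimeCore p G ≃* Matrix.ProjectiveSpecialLinearGroup (Fin 2) F)) ∨
    (∃ (m : ℕ) (F : Type) (_ : Field F) (_ : Fintype F), Fintype.card F = 2 ^ m ∧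
      p = 2 ^ m + 1 ∧ 3 < p ∧
      Nonempty (G ⧸ Cfsg.pPrimeCore p G ≃* Matrix.SpecialLinearGroup (Fin 2) F)) ∨
    (∃ h u : ℕ, 0 < h ∧ 0 < u ∧ n * (u + 1) = h * u * p + u ^ 2 + u + h) := by
  have hp : p.Prime := Fact.out
  by_cases h3 : III n p
  · exact Or.inr (Or.inr h3)
  · have hperfS := commutator_quot (pPrimeCore p G) hperf
    obtain ⟨Q⟩ : Nonempty (Sylow p (G ⧸ pPrimeCore p G)) := inferInstance
    have hQ := sylow_quot_card p P hP Q
    obtain ⟨k, hk⟩ := sylow_count_quot (G := G) p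
    obtain ⟨nbar, v, hSbar, -⟩ := BR.card_decomp p Q hQ
    have h3' : ¬ III nbar p := fun h =>
      h3 (III_mul p nbar n k hp.pos h (by rw [← hn, hk, hSbar]))
    rcases core_thm hperfS p (fun M hM hc => core_quot_trivial p M hM hc) Q hQ nbar hSbar h3'
      with h | h
    · exact Or.inl h
    · exact Or.inr (Or.inl h)

end Cfsg.Agent.Lib.Helper10.BT
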