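import Mathlib
import Cfsg.Prelude.Def_Blocks
import Cfsg.Agent.Lib.Helper10.BR0

/-!
# S0997, case B2 (project BW): foundation definitions

`om P ψ g = (1/|P|) Σ_{u ∈ P} ψ (g u)` (the trace of `g` on the `P`-fixed space, for a
character `ψ`), `cv P ψ g = om P ψ g⁻¹ * om P ψ g`, `pc φ ψ = φ · conj ψ`, and `VTab`: the
character-table data of case B2 (`p = 2e + 1`, `C_G(P) = P`, `|N_G(P)| = e p`, two exceptional
characters `θ, θ'` of degree `e + 1`, every other irreducible character is constant `1`, `-1`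
or `0` on `P \ {1}`).
-/

set_option autoImplicit false

namespace Cfsg.Agent.Lib.Helper10.BW

open Cfsg
open Cfsg.Agent.Lib.Helper83 (trivIrr)
open Cfsg.Agent.Lib.Helper10.BR (psum)
open scoped ComplexConjugate

universe u

variable {G : Type u} [Group G]

/-- `om P ψ g = (1/|P|) Σ_{u ∈ P} ψ (g u)`. -/
noncomputable def om (P : Subgroup G) (ψ : G → ℂ) (g : G) : ℂ :=
  psum P ψ g / (Nat.card P : ℂ)

/-- `cv P ψ g = om P ψ g⁻¹ * om P ψ g`. -/
noncomputable def cv (P : Subgroup G) (ψ : G → ℂ) (g : G) : ℂ :=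
  om P ψ g⁻¹ * om P ψ g

/-- `pc φ ψ = φ · conj ψ`. -/
noncomputable def pc (φ ψ : G → ℂ) : G → ℂ := fun g => φ g * conj (ψ g)

/-- Character-table data of case B2. -/
structure VTab (G : Type u) [Group G] (p e : ℕ) (P : Subgroup G)
    (θ θ' : IrrCharacter G) (Xp Xm D : Finset (IrrCharacter G)) : Prop where
  hp : p.Prime
  hpe : p = 2 * e + 1
  he2 : 2 ≤ e
  heven : Even e
  cardP : Nat.card P = p
  cent : Subgroup.centralizer (P : Set G) = P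
  cardN : Nat.card (Subgroup.normalizer (P : Set G)) = e * p
  cardG : ∃ b : ℕ, Nat.card G = p * 2 ^ b * (e + 1)
  ne : θ ≠ θ'
  part : ∀ ψ : IrrCharacter G, ψ = θ ∨ ψ = θ' ∨ ψ ∈ Xp ∨ ψ ∈ Xm ∨ ψ ∈ D
  valXp : ∀ χ ∈ Xp, ∀ x ∈ P, x ≠ 1 → (χ : G → ℂ) x = 1
  valXm : ∀ χ ∈ Xm, ∀ x ∈ P, x ≠ 1 → (χ : G → ℂ) x = -1
  valD : ∀ ψ ∈ D, ∀ x ∈ P, x ≠ 1 → (ψ : G → ℂ) x = 0
  degθ : (θ : G → ℂ) 1 = (e : ℂ) + 1
  degθ' : (θ' : G → ℂ) 1 = (e : ℂ) + 1
  reg : ∀ g : G, ¬ p ∣ orderOf g → (θ : G → ℂ) g = (θ' : G → ℂ) g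
  sumθ : ∀ x ∈ P, x ≠ 1 → (θ : G → ℂ) x + (θ' : G → ℂ) x = 1
  sq : ∀ x ∈ P, x ≠ 1 → (2 * (θ : G → ℂ) x - 1) ^ 2 = (p : ℂ)

/-- The data is symmetric in the two exceptional characters. -/
theorem VTab.symm {p e : ℕ} {P : Subgroup G} {θ θ' : IrrCharacter G}
    {Xp Xm D : Finset (IrrCharacter G)} (h : VTab G p e P θ θ' Xp Xm D) :
    VTab G p e P θ' θ Xp Xm D where
  hp := h.hp
  hpe := h.hpe
  he2 := h.he2
  heven := h.heven
  cardP := h.cardP
  cent := h.cent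
  cardN := h.cardN
  cardG := h.cardG
  ne := h.ne.symm
  part := fun ψ => by rcases h.part ψ with h1 | h1 | h1 | h1 | h1 <;> tauto
  valXp := h.valXp
  valXm := h.valXm
  valD := h.valD
  degθ := h.degθ'
  degθ' := h.degθ
  reg := fun g hg => (h.reg g hg).symm
  sumθ := fun x hx hx1 => by rw [add_comm]; exact h.sumθ x hx hx1
  sq := fun x hx hx1 => by
    have h1 := h.sumθ x hx hx1
    have h2 := h.sq x hx hx1
    have h3 : (θ' : G → ℂ) x = 1 - (θ : G → ℂ) x := by linear_combination h1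
    rw [h3, ← h2]
    ring

end Cfsg.Agent.Lib.Helper10.BW
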