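import Mathlib
import Cfsg.Prelude.Def_Spor_Conway

set_option autoImplicit false

namespace Cfsg.Agent.Lib.Helper10

open Cfsg

/-- The family of supports of code words. -/
abbrev gsup : Set (Finset GolayPt) := supports (golayCode : Set (GolayPt → ZMod 2))

theorem symmDiff_mem_gsup {S T : Finset GolayPt} (hS : S ∈ gsup) (hT : T ∈ gsup) :
    symmDiff S T ∈ gsup := by
  obtain ⟨w, hw, rfl⟩ := hS
  obtain ⟨w', hw', rfl⟩ := hT
  refine ⟨w + w', golayCode.add_mem hw hw', ?_⟩
  ext i
  simp only [support₂, Finset.mem_filter, Finset.mem_univ, true_and, Finset.mem_symmDiff,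
    Pi.add_apply]
  generalize w i = a
  generalize w' i = b
  revert a b
  decide

theorem compl_mem_gsup {S : Finset GolayPt} (hS : S ∈ gsup) : Sᶜ ∈ gsup := by
  have h := symmDiff_mem_gsup hS Spor.univ_mem_supports_golayCode
  have h2 : symmDiff S (Finset.univ : Finset GolayPt) = Sᶜ := symmDiff_top S
  rwa [h2] at h

/-- The set of positions where `x` is congruent to `k` modulo 4. -/
def resSet (x : GolayPt → ℤ) (k : ℤ) : Finset GolayPt :=
  Finset.univ.filter fun i => x i ≡ k [ZMOD 4]

theorem mem_resSet (x : GolayPt → ℤ) (k : ℤ) (i : GolayPt) :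
    i ∈ resSet x k ↔ x i % 4 = k % 4 := by
  unfold resSet
  rw [Finset.mem_filter]
  simp only [Finset.mem_univ, true_and, Int.ModEq]

theorem mem_leechSet_iff (x : GolayPt → ℤ) :
    x ∈ leechSet ↔ ∃ m : ℤ, (∀ i, x i % 2 = m % 2) ∧ ((∑ i, x i) % 8 = (4 * m) % 8) ∧
      ∀ k : ℤ, resSet x k ∈ gsup := Iff.rfl

theorem zero_mem_leechSet : (0 : GolayPt → ℤ) ∈ leechSet :=
  Spor.mem_leechSet_of_const_mod_four 0 0 0 (by decide) (fun _ => rfl) (by simp)

theorem neg_mem_leechSet {x : GolayPt → ℤ} (hx : x ∈ leechSet) : -x ∈ leechSet := by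
  rw [mem_leechSet_iff] at hx ⊢
  obtain ⟨m, h1, h2, h3⟩ := hx
  refine ⟨-m, fun i => ?_, ?_, fun k => ?_⟩
  · have := h1 i
    simp only [Pi.neg_apply]
    omega
  · simp only [Pi.neg_apply, Finset.sum_neg_distrib]
    omega
  · have : resSet (-x) k = resSet x (-k) := by
      ext i
      rw [mem_resSet, mem_resSet]
      simp only [Pi.neg_apply]
      omega
    rw [this]
    exact h3 (-k)

theorem add_mem_leechSet {x y : GolayPt → ℤ} (hx : x ∈ leechSet) (hy : y ∈ leechSet) :
    x + y ∈ leechSet := by
  rw [mem_leechSet_iff] at hx hy ⊢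
  obtain ⟨m, h1, h2, h3⟩ := hx
  obtain ⟨m', h1', h2', h3'⟩ := hy
  refine ⟨m + m', fun i => ?_, ?_, fun k => ?_⟩
  · have := h1 i
    have := h1' i
    simp only [Pi.add_apply]
    omega
  · simp only [Pi.add_apply, Finset.sum_add_distrib]
    omega
  · by_cases hk : k % 2 = (m + m') % 2
    · have : resSet (x + y) k = (symmDiff (resSet x m) (resSet y (k - m)))ᶜ := by
        ext i
        rw [Finset.mem_compl, Finset.mem_symmDiff, mem_resSet, mem_resSet, mem_resSet]
        have := h1 i
        have := h1' i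
        simp only [Pi.add_apply]
        omega
      rw [this]
      exact compl_mem_gsup (symmDiff_mem_gsup (h3 m) (h3' (k - m)))
    · have : resSet (x + y) k = ∅ := by
        ext i
        rw [mem_resSet]
        have := h1 i
        have := h1' i
        simp only [Pi.add_apply, Finset.notMem_empty, iff_false]
        omega
      rw [this]
      exact Spor.empty_mem_supports_golayCode

/-- `leechSet` as an additive subgroup. -/
def leechSub : AddSubgroup (GolayPt → ℤ) where
  carrier := leechSet
  zero_mem' := zero_mem_leechSet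
  add_mem' := add_mem_leechSet
  neg_mem' := neg_mem_leechSet

theorem coe_leechSub : (leechSub : Set (GolayPt → ℤ)) = leechSet := rfl

theorem leechLattice_eq : leechLattice = leechSub := by
  apply le_antisymm
  · exact (AddSubgroup.closure_le leechSub).2 (fun _ h => h)
  · exact AddSubgroup.subset_closure

theorem mem_leechLattice_iff (x : GolayPt → ℤ) : x ∈ leechLattice ↔ x ∈ leechSet := by
  rw [leechLattice_eq]; rfl

end Cfsg.Agent.Lib.Helper10
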