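import Mathlib
import Cfsg.Agent.Lib.Helper10.LeechClosed

set_option autoImplicit false

namespace Cfsg.Agent.Lib.Helper10

open Cfsg

/-- The dot product over `ZMod 2`. -/
def dot2 (v w : GolayPt → ZMod 2) : ZMod 2 := ∑ i, v i * w i

theorem dot2_add_left (v v' w : GolayPt → ZMod 2) : dot2 (v + v') w = dot2 v w + dot2 v' w := by
  simp only [dot2, Pi.add_apply, add_mul, Finset.sum_add_distrib]

theorem dot2_smul_left (a : ZMod 2) (v w : GolayPt → ZMod 2) : dot2 (a • v) w = a * dot2 v w := by
  simp only [dot2, Pi.smul_apply, smul_eq_mul, mul_assoc, Finset.mul_sum]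

theorem dot2_comm (v w : GolayPt → ZMod 2) : dot2 v w = dot2 w v := by
  simp only [dot2, mul_comm]

theorem dot2_zero_left (w : GolayPt → ZMod 2) : dot2 0 w = 0 := by
  simp [dot2]

set_option maxRecDepth 1000000 in
theorem qr_orth : ∀ s t : ZMod 23, dot2 (qrWord s) (qrWord t) = 0 := by
  unfold dot2
  decide

set_option maxRecDepth 1000000 in
theorem qr_orth_one : ∀ s : ZMod 23, dot2 (qrWord s) 1 = 0 := by
  unfold dot2
  decide

theorem one_orth_one : dot2 (1 : GolayPt → ZMod 2) 1 = 0 := by
  unfold dot2
  decide

set_option maxRecDepth 1000000 in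
theorem qr_card : ∀ t : ZMod 23, (support₂ (qrWord t)).card = 12 := by
  unfold support₂
  decide

theorem one_card : (support₂ (1 : GolayPt → ZMod 2)).card = 24 := by
  unfold support₂
  decide

theorem gen_orth {g g' : GolayPt → ZMod 2} (hg : g ∈ Set.range qrWord ∪ {1})
    (hg' : g' ∈ Set.range qrWord ∪ {1}) : dot2 g g' = 0 := by
  rcases hg with ⟨s, rfl⟩ | hg
  · rcases hg' with ⟨t, rfl⟩ | hg'
    · exact qr_orth s t
    · rw [Set.mem_singleton_iff.1 hg']
      exact qr_orth_one s
  · rw [Set.mem_singleton_iff.1 hg]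
    rcases hg' with ⟨t, rfl⟩ | hg'
    · rw [dot2_comm]
      exact qr_orth_one t
    · rw [Set.mem_singleton_iff.1 hg']
      exact one_orth_one

theorem golay_orth_gen {v g : GolayPt → ZMod 2} (hv : v ∈ golayCode)
    (hg : g ∈ Set.range qrWord ∪ {1}) : dot2 v g = 0 := by
  unfold golayCode at hv
  induction hv using Submodule.span_induction with
  | mem x hx => exact gen_orth hx hg
  | zero => exact dot2_zero_left g
  | add x y _ _ hx hy => rw [dot2_add_left, hx, hy, add_zero]
  | smul a x _ hx => rw [dot2_smul_left, hx, mul_zero]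

/-- The code is self-orthogonal. -/
theorem golay_orth {v w : GolayPt → ZMod 2} (hv : v ∈ golayCode) (hw : w ∈ golayCode) :
    dot2 v w = 0 := by
  unfold golayCode at hw
  induction hw using Submodule.span_induction with
  | mem x hx => exact golay_orth_gen hv hx
  | zero => rw [dot2_comm]; exact dot2_zero_left v
  | add x y _ _ hx hy => rw [dot2_comm, dot2_add_left, dot2_comm, hx, dot2_comm, hy, add_zero]
  | smul a x _ hx => rw [dot2_comm, dot2_smul_left, dot2_comm, hx, mul_zero]

theorem support₂_add (v w : GolayPt → ZMod 2) :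
    support₂ (v + w) = symmDiff (support₂ v) (support₂ w) := by
  ext i
  simp only [support₂, Finset.mem_filter, Finset.mem_univ, true_and, Finset.mem_symmDiff,
    Pi.add_apply]
  generalize v i = a
  generalize w i = b
  revert a b
  decide

theorem dot2_eq_card (v w : GolayPt → ZMod 2) :
    dot2 v w = ((support₂ v ∩ support₂ w).card : ZMod 2) := by
  unfold dot2
  rw [Finset.card_eq_sum_ones, Nat.cast_sum, ← Finset.sum_subset (Finset.subset_univ _)]
  · apply Finset.sum_congr rfl
    intro i hi
    simp only [support₂, Finset.mem_inter, Finset.mem_filter, Finset.mem_univ, true_and] at hi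
    obtain ⟨h1, h2⟩ := hi
    generalize v i = a at h1
    generalize w i = b at h2
    revert a b
    decide
  · intro i _ hi
    simp only [support₂, Finset.mem_inter, Finset.mem_filter, Finset.mem_univ, true_and] at hi
    generalize v i = a at hi
    generalize w i = b at hi
    revert a b
    decide

theorem card_symmDiff_add (S T : Finset GolayPt) :
    (symmDiff S T).card + 2 * (S ∩ T).card = S.card + T.card := by
  have h1 : symmDiff S T = (S \ T) ∪ (T \ S) := rfl
  have h2 : Disjoint (S \ T) (T \ S) := by
    rw [Finset.disjoint_left]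
    intro x hx hx'
    rw [Finset.mem_sdiff] at hx hx'
    exact hx.2 hx'.1
  rw [h1, Finset.card_union_of_disjoint h2]
  have h3 := Finset.card_sdiff_add_card_inter S T
  have h4 := Finset.card_sdiff_add_card_inter T S
  rw [Finset.inter_comm T S] at h4
  omega

/-- Supports of two code words meet evenly. -/
theorem inter_even {S T : Finset GolayPt} (hS : S ∈ gsup) (hT : T ∈ gsup) :
    2 ∣ (S ∩ T).card := by
  obtain ⟨v, hv, rfl⟩ := hS
  obtain ⟨w, hw, rfl⟩ := hT
  have h := golay_orth hv hw
  rw [dot2_eq_card] at h
  exact (ZMod.natCast_eq_zero_iff _ 2).1 h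

theorem support₂_zero : support₂ (0 : GolayPt → ZMod 2) = ∅ := by
  ext i
  simp [support₂]

/-- The code is doubly even. -/
theorem golay_doubly_even {S : Finset GolayPt} (hS : S ∈ gsup) : 4 ∣ S.card := by
  obtain ⟨v, hv, rfl⟩ := hS
  have hv' := hv
  unfold golayCode at hv'
  induction hv' using Submodule.span_induction with
  | mem x hx =>
    rcases hx with ⟨s, rfl⟩ | hx
    · rw [qr_card]; decide
    · rw [Set.mem_singleton_iff.1 hx, one_card]; decide
  | zero => rw [support₂_zero]; simp
  | add x y hx hy ihx ihy =>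
    have hx' : x ∈ golayCode := hx
    have hy' : y ∈ golayCode := hy
    have h1 := card_symmDiff_add (support₂ x) (support₂ y)
    have h2 := inter_even ⟨x, hx', rfl⟩ ⟨y, hy', rfl⟩
    have h3 := ihx hx'
    have h4 := ihy hy'
    rw [support₂_add]
    omega
  | smul a x hx ihx =>
    have hx' : x ∈ golayCode := hx
    have ha : ∀ b : ZMod 2, b = 0 ∨ b = 1 := by decide
    rcases ha a with rfl | rfl
    · rw [zero_smul, support₂_zero]; simp
    · rw [one_smul]; exact ihx hx'

end Cfsg.Agent.Lib.Helper10
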