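import Mathlib
import Cfsg.Agent.Lib.Helper10.GolayBasic

set_option autoImplicit false

namespace Cfsg.Agent.Lib.Helper10

open Cfsg

/-- Translation by `a` on the residues, fixing the extra point. -/
def shiftPt (a : ZMod 23) : Equiv.Perm GolayPt := Equiv.optionCongr (Equiv.addRight a)

theorem shiftPt_none (a : ZMod 23) : shiftPt a none = none := rfl

theorem shiftPt_some (a x : ZMod 23) : shiftPt a (some x) = some (x + a) := rfl

theorem qrWord_shift (t a : ZMod 23) (p : GolayPt) :
    qrWord t (shiftPt a p) = qrWord (t - a) p := by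
  cases p with
  | none => rfl
  | some x =>
    rw [shiftPt_some]
    show (if ∃ r : ZMod 23, x + a = r ^ 2 + t then (1 : ZMod 2) else 0) =
      if ∃ r : ZMod 23, x = r ^ 2 + (t - a) then (1 : ZMod 2) else 0
    apply if_congr _ rfl rfl
    constructor
    · rintro ⟨r, hr⟩
      exact ⟨r, by linear_combination hr⟩
    · rintro ⟨r, hr⟩
      exact ⟨r, by linear_combination hr⟩

theorem comp_shift_mem {w : GolayPt → ZMod 2} (hw : w ∈ golayCode) (a : ZMod 23) :
    (fun p => w (shiftPt a p)) ∈ golayCode := by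
  unfold golayCode at hw
  induction hw using Submodule.span_induction with
  | mem x hx =>
    rcases hx with ⟨t, rfl⟩ | hx
    · have : (fun p => qrWord t (shiftPt a p)) = qrWord (t - a) := funext (qrWord_shift t a)
      rw [this]
      exact Submodule.subset_span (Set.mem_union_left _ ⟨t - a, rfl⟩)
    · rw [Set.mem_singleton_iff.1 hx]
      exact Submodule.subset_span (Set.mem_union_right _ rfl)
  | zero => exact golayCode.zero_mem
  | add x y _ _ hx hy => exact golayCode.add_mem hx hy
  | smul c x _ hx => exact golayCode.smul_mem c hx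

theorem shift_mem_gsup {S : Finset GolayPt} (hS : S ∈ gsup) (a : ZMod 23) :
    (Finset.univ.filter fun p => shiftPt a p ∈ S) ∈ gsup := by
  obtain ⟨w, hw, rfl⟩ := hS
  refine ⟨fun p => w (shiftPt a p), comp_shift_mem hw a, ?_⟩
  ext p
  simp [support₂]

theorem card_shift (S : Finset GolayPt) (a : ZMod 23) :
    (Finset.univ.filter fun p => shiftPt a p ∈ S).card = S.card := by
  have : (Finset.univ.filter fun p => shiftPt a p ∈ S) = S.map (shiftPt a).symm.toEmbedding := by
    ext p
    simp only [Finset.mem_filter, Finset.mem_univ, true_and, Finset.mem_map,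
      Equiv.coe_toEmbedding]
    constructor
    · intro h
      exact ⟨shiftPt a p, h, by simp⟩
    · rintro ⟨q, hq, rfl⟩
      simpa using hq
  rw [this, Finset.card_map]

theorem card_inter_support₂ (S : Finset GolayPt) (w : GolayPt → ZMod 2) :
    ((S ∩ support₂ w).card : ZMod 2) = ∑ i ∈ S, w i := by
  have h1 : S ∩ support₂ w = S.filter fun i => w i ≠ 0 := by
    ext i
    simp [support₂]
  rw [h1, Finset.card_filter, Nat.cast_sum]
  apply Finset.sum_congr rfl
  intro i _
  generalize w i = b
  revert b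
  decide

set_option maxRecDepth 1000000 in
theorem w4_aux : ∀ p q r : GolayPt, p ≠ q → p ≠ r → q ≠ r → p ≠ some 0 → q ≠ some 0 →
    r ≠ some 0 →
    ∃ t : ZMod 23, qrWord t (some 0) + qrWord t p + qrWord t q + qrWord t r = 1 := by
  decide

/-- The code has no word of weight 4. -/
theorem no_weight4 {S : Finset GolayPt} (hS : S ∈ gsup) : S.card ≠ 4 := by
  intro h4
  obtain ⟨p0, hp0, hne⟩ := Finset.exists_mem_ne (by omega : 1 < S.card) none
  obtain ⟨x, rfl⟩ : ∃ x, p0 = some x := Option.ne_none_iff_exists'.1 hne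
  set S' : Finset GolayPt := Finset.univ.filter fun p => shiftPt x p ∈ S with hS'
  have hS'g : S' ∈ gsup := shift_mem_gsup hS x
  have hS'c : S'.card = 4 := by rw [hS', card_shift, h4]
  have h0 : (some 0 : GolayPt) ∈ S' := by
    rw [hS', Finset.mem_filter]
    refine ⟨Finset.mem_univ _, ?_⟩
    rw [shiftPt_some, zero_add]
    exact hp0
  have h3 : (S'.erase (some 0)).card = 3 := by
    rw [Finset.card_erase_of_mem h0, hS'c]
  obtain ⟨p, q, r, hpq, hpr, hqr, hE⟩ := Finset.card_eq_three.1 h3
  have hp : p ∈ S'.erase (some 0) := by rw [hE]; simp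
  have hq : q ∈ S'.erase (some 0) := by rw [hE]; simp
  have hr : r ∈ S'.erase (some 0) := by rw [hE]; simp
  have hp0' : p ≠ some 0 := (Finset.mem_erase.1 hp).1
  have hq0' : q ≠ some 0 := (Finset.mem_erase.1 hq).1
  have hr0' : r ≠ some 0 := (Finset.mem_erase.1 hr).1
  have hS'eq : S' = insert (some 0) {p, q, r} := by
    rw [← hE, Finset.insert_erase h0]
  obtain ⟨t, ht⟩ := w4_aux p q r hpq hpr hqr hp0' hq0' hr0'
  have hev := inter_even hS'g (⟨qrWord t, Submodule.subset_span (Set.mem_union_left _ ⟨t, rfl⟩),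
    rfl⟩ : support₂ (qrWord t) ∈ gsup)
  have hz : ((S' ∩ support₂ (qrWord t)).card : ZMod 2) = 0 :=
    (ZMod.natCast_eq_zero_iff _ 2).2 hev
  rw [card_inter_support₂, hS'eq, Finset.sum_insert, Finset.sum_insert, Finset.sum_insert,
    Finset.sum_singleton] at hz
  · rw [← add_assoc, ← add_assoc] at hz
    rw [hz] at ht
    exact absurd ht (by decide)
  · simp [hqr]
  · simp [hpq, hpr]
  · simp [hp0'.symm, hq0'.symm, hr0'.symm]

end Cfsg.Agent.Lib.Helper10
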