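import Mathlib
import Cfsg.Agent.Lib.Helper10.GolayW4

set_option autoImplicit false

namespace Cfsg.Agent.Lib.Helper10

open Cfsg

/-- Change the signs of the coordinates in `c`. -/
def signVec (c : Finset GolayPt) (x : GolayPt → ℤ) : GolayPt → ℤ :=
  fun i => if i ∈ c then -x i else x i

theorem signVec_apply (c : Finset GolayPt) (x : GolayPt → ℤ) (i : GolayPt) :
    signVec c x i = if i ∈ c then -x i else x i := rfl

theorem signVec_signVec (c : Finset GolayPt) (x : GolayPt → ℤ) : signVec c (signVec c x) = x := by
  funext i
  simp only [signVec_apply]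
  split_ifs <;> simp

theorem signVec_add (c : Finset GolayPt) (x y : GolayPt → ℤ) :
    signVec c (x + y) = signVec c x + signVec c y := by
  funext i
  simp only [signVec_apply, Pi.add_apply]
  split_ifs <;> ring

theorem sqNorm_signVec (c : Finset GolayPt) (x : GolayPt → ℤ) : sqNorm (signVec c x) = sqNorm x := by
  unfold sqNorm
  apply Finset.sum_congr rfl
  intro i _
  simp only [signVec_apply]
  split_ifs <;> ring

theorem sum_signVec (c : Finset GolayPt) (x : GolayPt → ℤ) :
    ∑ i, signVec c x i = ∑ i, x i - 2 * ∑ i ∈ c, x i := by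
  have h : ∀ i, signVec c x i = x i - 2 * (if i ∈ c then x i else 0) := by
    intro i
    simp only [signVec_apply]
    split_ifs <;> ring
  simp only [h, Finset.sum_sub_distrib, ← Finset.mul_sum, Finset.sum_ite_mem, Finset.univ_inter]

theorem card_inter_resSet (c : Finset GolayPt) (x : GolayPt → ℤ) (k : ℤ) :
    ((c ∩ resSet x k).card : ℤ) = ∑ i ∈ c, (if x i % 4 = k % 4 then (1 : ℤ) else 0) := by
  have h1 : c ∩ resSet x k = c.filter fun i => x i % 4 = k % 4 := by
    ext i
    simp [mem_resSet]
  rw [h1, Finset.card_filter]
  push_cast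
  rfl

theorem signVec_mem_leechSet {c : Finset GolayPt} (hc : c ∈ gsup) {x : GolayPt → ℤ}
    (hx : x ∈ leechSet) : signVec c x ∈ leechSet := by
  rw [mem_leechSet_iff] at hx ⊢
  obtain ⟨m, h1, h2, h3⟩ := hx
  have hc4 := golay_doubly_even hc
  rcases Int.emod_two_eq_zero_or_one m with hm | hm
  · have hev := inter_even hc (h3 2)
    have hsum : (4 : ℤ) ∣ (∑ i ∈ c, x i) - 2 * ((c ∩ resSet x 2).card : ℤ) := by
      rw [card_inter_resSet, Finset.mul_sum, ← Finset.sum_sub_distrib]
      apply Finset.dvd_sum
      intro i _
      have := h1 i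
      split_ifs <;> omega
    refine ⟨m, fun i => ?_, ?_, fun k => ?_⟩
    · have := h1 i
      simp only [signVec_apply]
      split_ifs <;> omega
    · rw [sum_signVec]
      obtain ⟨e, he⟩ := hev
      rw [he] at hsum
      push_cast at hsum
      omega
    · have : resSet (signVec c x) k = resSet x k := by
        ext i
        rw [mem_resSet, mem_resSet]
        have := h1 i
        simp only [signVec_apply]
        split_ifs <;> omega
      rw [this]
      exact h3 k
  · have hev := inter_even hc (h3 1)
    have hsum : (4 : ℤ) ∣ (∑ i ∈ c, x i) - (3 * (c.card : ℤ) - 2 * ((c ∩ resSet x 1).card : ℤ)) := by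
      have hcard : (c.card : ℤ) = ∑ _i ∈ c, (1 : ℤ) := by simp
      rw [card_inter_resSet, hcard, Finset.mul_sum, Finset.mul_sum, ← Finset.sum_sub_distrib,
        ← Finset.sum_sub_distrib]
      apply Finset.dvd_sum
      intro i _
      have := h1 i
      split_ifs <;> omega
    refine ⟨m, fun i => ?_, ?_, fun k => ?_⟩
    · have := h1 i
      simp only [signVec_apply]
      split_ifs <;> omega
    · rw [sum_signVec]
      obtain ⟨e, he⟩ := hev
      obtain ⟨e', he'⟩ := hc4
      rw [he, he'] at hsum
      push_cast at hsum
      omega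
    · by_cases hk : k % 2 = 1
      · have : resSet (signVec c x) k = symmDiff (resSet x k) c := by
          ext i
          rw [Finset.mem_symmDiff, mem_resSet, mem_resSet]
          have := h1 i
          simp only [signVec_apply]
          split_ifs with hi <;> simp only [hi, not_true_eq_false, not_false_eq_true, and_true,
            and_false, or_false, false_or, true_and, false_and] <;> omega
        rw [this]
        exact symmDiff_mem_gsup (h3 k) hc
      · have : resSet (signVec c x) k = ∅ := by
          ext i
          rw [mem_resSet]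
          have := h1 i
          simp only [signVec_apply, Finset.notMem_empty, iff_false]
          split_ifs <;> omega
        rw [this]
        exact Spor.empty_mem_supports_golayCode

/-- Permute coordinates by a translation. -/
def shiftVec (a : ZMod 23) (x : GolayPt → ℤ) : GolayPt → ℤ := fun i => x (shiftPt a i)

theorem shiftVec_apply (a : ZMod 23) (x : GolayPt → ℤ) (i : GolayPt) :
    shiftVec a x i = x (shiftPt a i) := rfl

theorem shiftVec_mem_leechSet (a : ZMod 23) {x : GolayPt → ℤ} (hx : x ∈ leechSet) :
    shiftVec a x ∈ leechSet := by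
  rw [mem_leechSet_iff] at hx ⊢
  obtain ⟨m, h1, h2, h3⟩ := hx
  refine ⟨m, fun i => h1 _, ?_, fun k => ?_⟩
  · have : ∑ i, shiftVec a x i = ∑ i, x i := Equiv.sum_comp (shiftPt a) x
    rw [this]
    exact h2
  · have : resSet (shiftVec a x) k = Finset.univ.filter fun p => shiftPt a p ∈ resSet x k := by
      ext i
      simp only [mem_resSet, Finset.mem_filter, Finset.mem_univ, true_and, shiftVec_apply]
    rw [this]
    exact shift_mem_gsup (h3 k) a

end Cfsg.Agent.Lib.Helper10
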