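import Mathlib
import Cfsg.Agent.Lib.Helper10.LeechAut

set_option autoImplicit false

namespace Cfsg.Agent.Lib.Helper10

open Cfsg

theorem mem_LL_of {x : GolayPt → ℤ} (hx : x ∈ leechSet) : x ∈ leechLattice :=
  (mem_leechLattice_iff x).2 hx

theorem mem_set_of_LL (v : leechLattice) : (v : GolayPt → ℤ) ∈ leechSet :=
  (mem_leechLattice_iff _).1 v.2

/-- Sign change on a code set, as a permutation of the lattice. -/
def signPerm (c : Finset GolayPt) (hc : c ∈ gsup) : Equiv.Perm leechLattice where
  toFun v := ⟨signVec c v.1, mem_LL_of (signVec_mem_leechSet hc (mem_set_of_LL v))⟩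
  invFun v := ⟨signVec c v.1, mem_LL_of (signVec_mem_leechSet hc (mem_set_of_LL v))⟩
  left_inv v := Subtype.ext (signVec_signVec c v.1)
  right_inv v := Subtype.ext (signVec_signVec c v.1)

theorem signPerm_apply (c : Finset GolayPt) (hc : c ∈ gsup) (v : leechLattice) :
    ((signPerm c hc v : leechLattice) : GolayPt → ℤ) = signVec c v.1 := rfl

theorem signPerm_mem (c : Finset GolayPt) (hc : c ∈ gsup) : signPerm c hc ∈ Co0 :=
  ⟨fun v w => Subtype.ext (signVec_add c v.1 w.1), fun v => sqNorm_signVec c v.1⟩

theorem shiftPt_neg_shiftPt (a : ZMod 23) (i : GolayPt) : shiftPt (-a) (shiftPt a i) = i := by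
  cases i with
  | none => rfl
  | some x => rw [shiftPt_some, shiftPt_some]; simp

theorem shiftPt_shiftPt_neg (a : ZMod 23) (i : GolayPt) : shiftPt a (shiftPt (-a) i) = i := by
  cases i with
  | none => rfl
  | some x => rw [shiftPt_some, shiftPt_some]; simp

/-- Translation of coordinates, as a permutation of the lattice. -/
def shiftPerm (a : ZMod 23) : Equiv.Perm leechLattice where
  toFun v := ⟨shiftVec a v.1, mem_LL_of (shiftVec_mem_leechSet a (mem_set_of_LL v))⟩
  invFun v := ⟨shiftVec (-a) v.1, mem_LL_of (shiftVec_mem_leechSet (-a) (mem_set_of_LL v))⟩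
  left_inv v := Subtype.ext (funext fun i => by
    show v.1 (shiftPt a (shiftPt (-a) i)) = v.1 i
    rw [shiftPt_shiftPt_neg])
  right_inv v := Subtype.ext (funext fun i => by
    show v.1 (shiftPt (-a) (shiftPt a i)) = v.1 i
    rw [shiftPt_neg_shiftPt])

theorem shiftPerm_apply (a : ZMod 23) (v : leechLattice) (i : GolayPt) :
    ((shiftPerm a v : leechLattice) : GolayPt → ℤ) i = v.1 (shiftPt a i) := rfl

theorem shiftPerm_mem (a : ZMod 23) : shiftPerm a ∈ Co0 :=
  ⟨fun _ _ => rfl, fun v => Equiv.sum_comp (shiftPt a) (fun i => v.1 i ^ 2)⟩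

/-- Negation, as a permutation of the lattice. -/
def negPerm : Equiv.Perm leechLattice := Equiv.neg _

theorem negPerm_apply (v : leechLattice) : negPerm v = -v := rfl

theorem negPerm_mem : negPerm ∈ Co0 :=
  ⟨fun v w => neg_add v w, fun v => by
    show sqNorm (-(v : GolayPt → ℤ)) = sqNorm (v : GolayPt → ℤ)
    simp [sqNorm]⟩

theorem co0_map_zero {f : Equiv.Perm leechLattice} (hf : f ∈ Co0) : f 0 = 0 := by
  have h := hf.1 0 0
  rw [add_zero] at h
  exact left_eq_add.1 h

theorem co0_map_neg {f : Equiv.Perm leechLattice} (hf : f ∈ Co0) (v : leechLattice) :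
    f (-v) = -f v := by
  have h := hf.1 v (-v)
  rw [add_neg_cancel, co0_map_zero hf] at h
  exact (neg_eq_of_add_eq_zero_right h.symm).symm

theorem sqNorm_add (a b : GolayPt → ℤ) : sqNorm (a + b) = sqNorm a + 2 * dotInt a b + sqNorm b := by
  simp only [sqNorm, dotInt, Pi.add_apply, Finset.mul_sum, ← Finset.sum_add_distrib]
  apply Finset.sum_congr rfl
  intro i _
  ring

theorem co0_dot {f : Equiv.Perm leechLattice} (hf : f ∈ Co0) (u v : leechLattice) :
    dotInt (f u : GolayPt → ℤ) (f v : GolayPt → ℤ) = dotInt (u : GolayPt → ℤ) (v : GolayPt → ℤ) := by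
  have h := hf.2 (u + v)
  rw [hf.1 u v] at h
  have h1 : ((f u + f v : leechLattice) : GolayPt → ℤ) = (f u : GolayPt → ℤ) + (f v : GolayPt → ℤ) := rfl
  have h2 : ((u + v : leechLattice) : GolayPt → ℤ) = (u : GolayPt → ℤ) + (v : GolayPt → ℤ) := rfl
  rw [h1, h2, sqNorm_add, sqNorm_add, hf.2 u, hf.2 v] at h
  linarith

/-- The vector `8 e_j`. -/
def axisVec (j : GolayPt) : leechLattice :=
  ⟨Pi.single j 8, mem_LL_of (Spor.mem_leechSet_of_const_mod_four _ 0 0 (by decide)
    (fun i => by
      by_cases h : i = j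
      · subst h; rw [Pi.single_eq_same]; decide
      · rw [Pi.single_eq_of_ne h])
    (by rw [Finset.sum_pi_single']; simp))⟩

theorem axisVec_apply (j i : GolayPt) : (axisVec j : GolayPt → ℤ) i = if i = j then 8 else 0 := by
  show (Pi.single j (8 : ℤ) : GolayPt → ℤ) i = _
  rw [Pi.single_apply]

set_option maxRecDepth 1000000 in
theorem sep_aux : ∀ i j : GolayPt, i ≠ j → ∃ t : ZMod 23, qrWord t i ≠ qrWord t j := by
  decide

theorem sep_gsup {i j : GolayPt} (h : i ≠ j) :
    ∃ c ∈ gsup, (i ∈ c ∧ j ∉ c) ∨ (i ∉ c ∧ j ∈ c) := by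
  obtain ⟨t, ht⟩ := sep_aux i j h
  refine ⟨support₂ (qrWord t), ⟨qrWord t, Submodule.subset_span (Set.mem_union_left _ ⟨t, rfl⟩),
    rfl⟩, ?_⟩
  simp only [support₂, Finset.mem_filter, Finset.mem_univ, true_and]
  generalize qrWord t i = a at ht
  generalize qrWord t j = b at ht
  revert a b
  decide

theorem center_cases {f : Equiv.Perm leechLattice} (hf : f ∈ Co0)
    (hcomm : ∀ g ∈ Co0, f * g = g * f) : f = 1 ∨ f = negPerm := by
  have hsupp : ∀ j i : GolayPt, i ≠ j → (f (axisVec j) : GolayPt → ℤ) i = 0 := by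
    intro j i hij
    obtain ⟨c, hc, hsep⟩ := sep_gsup hij
    have hcm := hcomm (signPerm c hc) (signPerm_mem c hc)
    have hcm' : f (signPerm c hc (axisVec j)) = signPerm c hc (f (axisVec j)) := by
      have := congrArg (fun g : Equiv.Perm leechLattice => g (axisVec j)) hcm
      simpa [Equiv.Perm.mul_apply] using this
    rcases hsep with ⟨hic, hjc⟩ | ⟨hic, hjc⟩
    · have h1 : signPerm c hc (axisVec j) = axisVec j := by
        apply Subtype.ext
        funext k
        rw [signPerm_apply, signVec_apply, axisVec_apply]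
        by_cases hk : k = j
        · subst hk
          rw [if_neg hjc]
        · rw [if_neg hk]
          split_ifs <;> simp
      rw [h1] at hcm'
      have h2 := congrArg (fun v : leechLattice => (v : GolayPt → ℤ) i) hcm'
      simp only [signPerm_apply, signVec_apply, if_pos hic] at h2
      omega
    · have h1 : signPerm c hc (axisVec j) = -axisVec j := by
        apply Subtype.ext
        funext k
        rw [signPerm_apply, signVec_apply]
        show _ = -((axisVec j : GolayPt → ℤ) k)
        rw [axisVec_apply]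
        by_cases hk : k = j
        · subst hk
          rw [if_pos hjc]
        · rw [if_neg hk]
          split_ifs <;> simp
      rw [h1, co0_map_neg hf] at hcm'
      have h2 := congrArg (fun v : leechLattice => (v : GolayPt → ℤ) i) hcm'
      simp only [signPerm_apply, signVec_apply, if_neg hic] at h2
      have h3 : ((-(f (axisVec j)) : leechLattice) : GolayPt → ℤ) i =
          -((f (axisVec j) : GolayPt → ℤ) i) := rfl
      rw [h3] at h2
      omega
  have hval : ∀ j, (f (axisVec j) : GolayPt → ℤ) j = 8 ∨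
      (f (axisVec j) : GolayPt → ℤ) j = -8 := by
    intro j
    have h := hf.2 (axisVec j)
    have h1 : sqNorm (f (axisVec j) : GolayPt → ℤ) = ((f (axisVec j) : GolayPt → ℤ) j) ^ 2 := by
      unfold sqNorm
      apply Finset.sum_eq_single j
      · intro i _ hij
        rw [hsupp j i hij]; ring
      · intro h; exact absurd (Finset.mem_univ j) h
    have h2 : sqNorm (axisVec j : GolayPt → ℤ) = 64 := by
      unfold sqNorm
      rw [Finset.sum_eq_single j]
      · rw [axisVec_apply, if_pos rfl]; norm_num
      · intro i _ hij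
        rw [axisVec_apply, if_neg hij]; ring
      · intro h; exact absurd (Finset.mem_univ j) h
    rw [h1, h2] at h
    have h3 : ((f (axisVec j) : GolayPt → ℤ) j - 8) * ((f (axisVec j) : GolayPt → ℤ) j + 8) = 0 := by
      ring_nf; omega
    rcases mul_eq_zero.1 h3 with h | h
    · left; omega
    · right; omega
  have hcoord : ∀ j (v : leechLattice),
      (f v : GolayPt → ℤ) j * (f (axisVec j) : GolayPt → ℤ) j = 8 * (v : GolayPt → ℤ) j := by
    intro j v
    have h := co0_dot hf v (axisVec j)
    have h1 : dotInt (f v : GolayPt → ℤ) (f (axisVec j) : GolayPt → ℤ) =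
        (f v : GolayPt → ℤ) j * (f (axisVec j) : GolayPt → ℤ) j := by
      unfold dotInt
      apply Finset.sum_eq_single j
      · intro i _ hij
        rw [hsupp j i hij]; ring
      · intro h; exact absurd (Finset.mem_univ j) h
    have h2 : dotInt (v : GolayPt → ℤ) (axisVec j : GolayPt → ℤ) = 8 * (v : GolayPt → ℤ) j := by
      unfold dotInt
      rw [Finset.sum_eq_single j]
      · rw [axisVec_apply, if_pos rfl]; ring
      · intro i _ hij
        rw [axisVec_apply, if_neg hij]; ring
      · intro h; exact absurd (Finset.mem_univ j) h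
    rw [h1, h2] at h
    exact h
  have hPN : ∀ j, (∀ v : leechLattice, (f v : GolayPt → ℤ) j = (v : GolayPt → ℤ) j) ∨
      (∀ v : leechLattice, (f v : GolayPt → ℤ) j = -(v : GolayPt → ℤ) j) := by
    intro j
    rcases hval j with h | h
    · left; intro v; have := hcoord j v; rw [h] at this; omega
    · right; intro v; have := hcoord j v; rw [h] at this; omega
  have hshift : ∀ (a : ZMod 23) (v : leechLattice) (i : GolayPt),
      (f (shiftPerm a v) : GolayPt → ℤ) i = (f v : GolayPt → ℤ) (shiftPt a i) := by
    intro a v i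
    have hcm := hcomm (shiftPerm a) (shiftPerm_mem a)
    have := congrArg (fun g : Equiv.Perm leechLattice => (g v : GolayPt → ℤ) i) hcm
    simpa [Equiv.Perm.mul_apply, shiftPerm_apply] using this
  have hP : (∀ v : leechLattice, (f v : GolayPt → ℤ) (some 0) = (v : GolayPt → ℤ) (some 0)) →
      ∀ (x : ZMod 23) (v : leechLattice),
        (f v : GolayPt → ℤ) (some x) = (v : GolayPt → ℤ) (some x) := by
    intro h x v
    have h1 := hshift x v (some 0)
    rw [shiftPt_some, zero_add] at h1
    rw [← h1, h (shiftPerm x v), shiftPerm_apply, shiftPt_some, zero_add]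
  have hN : (∀ v : leechLattice, (f v : GolayPt → ℤ) (some 0) = -(v : GolayPt → ℤ) (some 0)) →
      ∀ (x : ZMod 23) (v : leechLattice),
        (f v : GolayPt → ℤ) (some x) = -(v : GolayPt → ℤ) (some x) := by
    intro h x v
    have h1 := hshift x v (some 0)
    rw [shiftPt_some, zero_add] at h1
    rw [← h1, h (shiftPerm x v), shiftPerm_apply, shiftPt_some, zero_add]
  have hV0 : (Spor.leechV : GolayPt → ℤ) none = -5 := rfl
  have hV1 : ∀ x : ZMod 23, (Spor.leechV : GolayPt → ℤ) (some x) = -1 := fun _ => rfl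
  rcases hPN (some 0) with h0 | h0 <;> rcases hPN none with hn | hn
  · left
    apply Equiv.ext
    intro v
    apply Subtype.ext
    funext i
    cases i with
    | none => exact hn v
    | some x => exact hP h0 x v
  · exfalso
    obtain ⟨m, h1, h2, h3⟩ := (mem_leechSet_iff _).1 (mem_set_of_LL (f Spor.leechV))
    have hm := h1 (some 0)
    rw [h0 Spor.leechV, hV1] at hm
    rw [Fintype.sum_option, hn Spor.leechV, hV0] at h2
    have hs : ∑ x : ZMod 23, (f Spor.leechV : GolayPt → ℤ) (some x) = -23 := by
      rw [Finset.sum_congr rfl (fun x _ => (hP h0 x Spor.leechV).trans (hV1 x))]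
      simp [Finset.card_univ, ZMod.card]
    rw [hs] at h2
    omega
  · exfalso
    obtain ⟨m, h1, h2, h3⟩ := (mem_leechSet_iff _).1 (mem_set_of_LL (f Spor.leechV))
    have hm := h1 (some 0)
    rw [h0 Spor.leechV, hV1] at hm
    rw [Fintype.sum_option, hn Spor.leechV, hV0] at h2
    have hs : ∑ x : ZMod 23, (f Spor.leechV : GolayPt → ℤ) (some x) = 23 := by
      rw [Finset.sum_congr rfl (fun x _ => (hN h0 x Spor.leechV).trans (by rw [hV1]))]
      simp [Finset.card_univ, ZMod.card]
    rw [hs] at h2
    omega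
  · right
    apply Equiv.ext
    intro v
    apply Subtype.ext
    funext i
    cases i with
    | none => exact hn v
    | some x => exact hN h0 x v

theorem card_center_co0 : Nat.card (Subgroup.center Co0) = 2 := by
  have hN0 : (⟨negPerm, negPerm_mem⟩ : Co0) ∈ Subgroup.center Co0 := by
    rw [Subgroup.mem_center_iff]
    intro g
    apply Subtype.ext
    apply Equiv.ext
    intro v
    show (g : Equiv.Perm leechLattice) (negPerm v) = negPerm ((g : Equiv.Perm leechLattice) v)
    rw [negPerm_apply, negPerm_apply, co0_map_neg g.2]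
  have hne : (1 : Subgroup.center Co0) ≠ ⟨⟨negPerm, negPerm_mem⟩, hN0⟩ := by
    intro h
    have h1 : (1 : Equiv.Perm leechLattice) = negPerm :=
      congrArg (fun z : Subgroup.center Co0 => ((z : Co0) : Equiv.Perm leechLattice)) h
    have h2 := congrArg (fun g : Equiv.Perm leechLattice => (g Spor.leechU : GolayPt → ℤ) none) h1
    have h3 : (Spor.leechU : GolayPt → ℤ) none = 4 := rfl
    have h4 : ((negPerm Spor.leechU : leechLattice) : GolayPt → ℤ) none = -4 := rfl
    simp only [Equiv.Perm.coe_one, id_eq] at h2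
    rw [h3, h4] at h2
    omega
  rw [Nat.card_eq_two_iff]
  refine ⟨1, ⟨⟨negPerm, negPerm_mem⟩, hN0⟩, hne, ?_⟩
  apply Set.eq_univ_of_forall
  intro z
  have hz := z.2
  rw [Subgroup.mem_center_iff] at hz
  have hc : ∀ g ∈ Co0, ((z : Co0) : Equiv.Perm leechLattice) * g =
      g * ((z : Co0) : Equiv.Perm leechLattice) := by
    intro g hg
    exact (congrArg Subtype.val (hz ⟨g, hg⟩)).symm
  rcases center_cases (z : Co0).2 hc with h | h
  · left
    apply Subtype.ext
    apply Subtype.ext
    exact h
  · right
    rw [Set.mem_singleton_iff]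
    apply Subtype.ext
    apply Subtype.ext
    exact h

end Cfsg.Agent.Lib.Helper10
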