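import Mathlib

set_option autoImplicit false

namespace Cfsg.Agent.Lib.Helper10

/-! ### Index of a subgroup of `ι → ℤ` with triangular generators -/

/-- Reduction along a triangular family. -/
theorem tri_span {n : ℕ} {ι : Type*} (e : Fin n ≃ ι) (r : ι → ι → ℤ) (L : AddSubgroup (ι → ℤ))
    (htri : ∀ k l : Fin n, l < k → r (e k) (e l) = 0) (hmem : ∀ i, r i ∈ L)
    (hdiv : ∀ x ∈ L, ∀ k : Fin n, (∀ l, l < k → x (e l) = 0) → r (e k) (e k) ∣ x (e k)) :
    ∀ x ∈ L, x ∈ AddSubgroup.closure (Set.range r) := by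
  have key : ∀ m : ℕ, m ≤ n → ∀ x ∈ L, (∀ l : Fin n, (l : ℕ) + m < n → x (e l) = 0) →
      x ∈ AddSubgroup.closure (Set.range r) := by
    intro m
    induction m with
    | zero =>
      intro _ x _ hx
      have h0 : x = 0 := by
        funext i
        have h1 := hx (e.symm i) (by simp)
        simpa using h1
      rw [h0]
      exact AddSubgroup.zero_mem _
    | succ m ih =>
      intro hm x hxL hx
      have hkn : n - (m + 1) < n := by omega
      have hk : ∀ l : Fin n, l < (⟨n - (m + 1), hkn⟩ : Fin n) → x (e l) = 0 := fun l hl =>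
        hx l (by
          have h1 : (l : ℕ) < n - (m + 1) := hl
          omega)
      obtain ⟨q, hq⟩ := hdiv x hxL ⟨n - (m + 1), hkn⟩ hk
      have hx' : x - q • r (e ⟨n - (m + 1), hkn⟩) ∈ L :=
        L.sub_mem hxL (L.zsmul_mem (hmem _) q)
      have h1 := ih (by omega) (x - q • r (e ⟨n - (m + 1), hkn⟩)) hx' (by
        intro l hl
        simp only [Pi.sub_apply, Pi.smul_apply, smul_eq_mul]
        by_cases hlk : l < (⟨n - (m + 1), hkn⟩ : Fin n)
        · rw [hk l hlk, htri _ l hlk]
          ring
        · have h2 : l = ⟨n - (m + 1), hkn⟩ := by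
            apply Fin.ext
            have h3 : ¬ ((l : ℕ) < n - (m + 1)) := hlk
            show (l : ℕ) = n - (m + 1)
            omega
          rw [h2, hq]
          ring)
      have h2 : x = (x - q • r (e ⟨n - (m + 1), hkn⟩)) + q • r (e ⟨n - (m + 1), hkn⟩) := by
        abel
      rw [h2]
      exact AddSubgroup.add_mem _ h1
        (AddSubgroup.zsmul_mem _ (AddSubgroup.subset_closure (Set.mem_range_self _)) q)
  intro x hx
  exact key n le_rfl x hx (fun l hl => absurd hl (by omega))

/-- The index of a subgroup of `ι → ℤ` spanned by a triangular family is the product of the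
diagonal entries. -/
theorem tri_index {n : ℕ} {ι : Type*} [Fintype ι] [DecidableEq ι] (e : Fin n ≃ ι)
    (r : ι → ι → ℤ) (L : AddSubgroup (ι → ℤ))
    (htri : ∀ k l : Fin n, l < k → r (e k) (e l) = 0) (hmem : ∀ i, r i ∈ L)
    (hspan : ∀ x ∈ L, x ∈ AddSubgroup.closure (Set.range r)) (hd : ∀ i, r i i ≠ 0) :
    L.index = (∏ i, r i i).natAbs := by
  have hdet : (Matrix.of r).det = ∏ i, r i i := by
    rw [← Matrix.det_reindex_self e.symm (Matrix.of r), Matrix.det_of_isUpperTriangular]
    · simp only [Matrix.reindex_apply, Matrix.submatrix_apply, Equiv.symm_symm, Matrix.of_apply]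
      exact Equiv.prod_comp e (fun i => r i i)
    · intro k l hlk
      exact htri k l hlk
  have hdet' : (Matrix.of r).transpose.det ≠ 0 := by
    rw [Matrix.det_transpose, hdet]
    exact Finset.prod_ne_zero_iff.mpr (fun i _ => hd i)
  have hΦ : ∀ c : ι → ℤ, Matrix.toLin' (Matrix.of r).transpose c = ∑ i, c i • r i := by
    intro c
    funext j
    simp only [Matrix.toLin'_apply, Matrix.mulVec, dotProduct, Matrix.transpose_apply,
      Matrix.of_apply, Finset.sum_apply, Pi.smul_apply, smul_eq_mul]
    exact Finset.sum_congr rfl (fun i _ => mul_comm _ _)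
  have hΦmem : ∀ c : ι → ℤ, Matrix.toLin' (Matrix.of r).transpose c ∈ L.toIntSubmodule := by
    intro c
    rw [hΦ]
    exact Submodule.sum_mem _ (fun i _ => L.zsmul_mem (hmem i) (c i))
  have hinj : Function.Injective
      ((Matrix.toLin' (Matrix.of r).transpose).codRestrict L.toIntSubmodule hΦmem) := by
    rw [injective_iff_map_eq_zero]
    intro c hc
    have h1 : Matrix.toLin' (Matrix.of r).transpose c = 0 := congrArg Subtype.val hc
    rw [Matrix.toLin'_apply] at h1
    exact Matrix.eq_zero_of_mulVec_eq_zero hdet' h1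
  have hsurj : Function.Surjective
      ((Matrix.toLin' (Matrix.of r).transpose).codRestrict L.toIntSubmodule hΦmem) := by
    rintro ⟨x, hx⟩
    have h1 : AddSubgroup.closure (Set.range r) ≤
        (LinearMap.range (Matrix.toLin' (Matrix.of r).transpose)).toAddSubgroup := by
      rw [AddSubgroup.closure_le]
      rintro _ ⟨i, rfl⟩
      refine ⟨Pi.single i 1, ?_⟩
      rw [hΦ]
      rw [Finset.sum_eq_single i]
      · simp
      · intro j _ hji
        simp [hji]
      · intro h
        exact absurd (Finset.mem_univ i) h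
    obtain ⟨c, hc⟩ := h1 (hspan x hx)
    exact ⟨c, Subtype.ext hc⟩
  have h := Submodule.natAbs_det_equiv L.toIntSubmodule
    (LinearEquiv.ofBijective _ ⟨hinj, hsurj⟩)
  have h2 : L.toIntSubmodule.subtype ∘ₗ AddMonoidHom.toIntLinearMap
      ((LinearEquiv.ofBijective _ ⟨hinj, hsurj⟩ : (ι → ℤ) ≃ₗ[ℤ] L.toIntSubmodule) :
        (ι → ℤ) →+ L.toIntSubmodule) = Matrix.toLin' (Matrix.of r).transpose := by
    ext c j
    rfl
  rw [h2, LinearMap.det_toLin', Matrix.det_transpose, hdet] at h
  rw [h]
  rfl

end Cfsg.Agent.Lib.Helper10
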