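import Mathlib
import Cfsg.Prelude.Def_Sporadic_a
import Cfsg.Prelude.Def_Spor_Conway
import Cfsg.Agent.Lib.Helper9.Golay
import Cfsg.Agent.Lib.Helper10.LeechClosed
import Cfsg.Agent.Lib.Helper10.TriIndex

set_option autoImplicit false

namespace Cfsg.Agent.Lib.Helper10

open Cfsg Cfsg.Agent.Lib.Helper9

/-! ### The index of the lattice -/

/-- The points in decreasing order of index. -/
def revEnum : Fin 24 ≃ GolayPt where
  toFun k := pt (23 - (k : ℕ))
  invFun p := ⟨23 - idx p, by have := idx_lt p; omega⟩
  left_inv k := by
    apply Fin.ext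
    show 23 - idx (pt (23 - (k : ℕ))) = (k : ℕ)
    rw [idx_pt (by omega)]
    omega
  right_inv p := by
    show pt (23 - (23 - idx p)) = p
    have h := idx_lt p
    rw [show 23 - (23 - idx p) = idx p by omega, pt_idx]

theorem revEnum_apply (k : Fin 24) : revEnum k = pt (23 - (k : ℕ)) := rfl

/-- The basis mask with pivot `k`. -/
def pivMask (k : ℕ) : ℕ := (gBP.lookup k).getD 0

/-- Entries of a triangular basis: row `k`, column `c`. -/
def rowN (k c : ℕ) : ℤ :=
  if k = 23 then (if c = 0 then -3 else 1)
  else if 12 ≤ k then (if (pivMask k).testBit c then 2 else 0)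
  else if k = 0 then (if c = 0 then 8 else 0)
  else (if c = k then 4 else if c = 0 then 4 else 0)

/-- The triangular basis. -/
def leechRow (i j : GolayPt) : ℤ := rowN (idx i) (idx j)

theorem rowN_tri : ∀ k l : Fin 24, l < k → rowN (23 - (k : ℕ)) (23 - (l : ℕ)) = 0 := by
  decide +kernel

theorem rowN_diag : ∀ c < 24, rowN c c ≠ 0 := by decide +kernel

theorem rowN_diag2 : ∀ c < 23, 12 ≤ c → rowN c c = 2 := by decide +kernel

theorem rowN_diag4 : ∀ c < 12, 1 ≤ c → rowN c c = 4 := by decide +kernel

theorem rowN_prod : ∏ k : Fin 24, rowN (23 - (k : ℕ)) (23 - (k : ℕ)) = 2 ^ 36 := by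
  decide +kernel

theorem leechRow_tri : ∀ k l : Fin 24, l < k → leechRow (revEnum k) (revEnum l) = 0 := by
  intro k l hlk
  rw [leechRow, revEnum_apply, revEnum_apply, idx_pt (by omega), idx_pt (by omega)]
  exact rowN_tri k l hlk

theorem leechRow_diag (i : GolayPt) : leechRow i i ≠ 0 := rowN_diag _ (idx_lt i)

theorem leechRow_prod : ∏ i, leechRow i i = 2 ^ 36 := by
  rw [← Equiv.prod_comp revEnum (fun i => leechRow i i), ← rowN_prod]
  apply Finset.prod_congr rfl
  intro k _
  rw [leechRow, revEnum_apply, idx_pt (by omega)]

/-- Twice the indicator of a code word is in the lattice. -/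
theorem two_mask_mem {μ : ℕ} (hμ : μ ∈ sums gB) :
    (fun j : GolayPt => if μ.testBit (idx j) then (2 : ℤ) else 0) ∈ leechSet := by
  have hsup : support₂ (dec μ) ∈ gsup := ⟨dec μ, dec_mem_golay hμ, rfl⟩
  rw [mem_leechSet_iff]
  refine ⟨0, fun i => ?_, ?_, fun k => ?_⟩
  · split_ifs <;> rfl
  · have h1 : (∑ j : GolayPt, if μ.testBit (idx j) then (2 : ℤ) else 0) =
        2 * ((support₂ (dec μ)).card : ℤ) := by
      have hf : Finset.univ.filter (fun j : GolayPt => μ.testBit (idx j) = true) =
          support₂ (dec μ) := by
        ext j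
        simp only [Finset.mem_filter, Finset.mem_univ, true_and, mem_support₂, dec_ne_zero_iff]
      rw [← Finset.sum_filter, Finset.sum_const, nsmul_eq_mul, mul_comm, hf]
    rw [h1, card_support₂, hammingNorm_dec]
    have h2 := popc_mod_four hμ
    omega
  · have hk : k % 4 = 0 ∨ k % 4 = 1 ∨ k % 4 = 2 ∨ k % 4 = 3 := by omega
    rcases hk with hk | hk | hk | hk
    · have h1 : resSet (fun j : GolayPt => if μ.testBit (idx j) then (2 : ℤ) else 0) k =
          (support₂ (dec μ))ᶜ := by
        ext j
        rw [mem_resSet, Finset.mem_compl, mem_support₂, dec_ne_zero_iff]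
        split_ifs with h
        · simp only [h, not_true_eq_false, iff_false]
          omega
        · simp only [h, Bool.false_eq_true, not_false_eq_true, iff_true]
          omega
      rw [h1]
      exact compl_mem_gsup hsup
    · have h1 : resSet (fun j : GolayPt => if μ.testBit (idx j) then (2 : ℤ) else 0) k = ∅ := by
        ext j
        rw [mem_resSet]
        simp only [Finset.notMem_empty, iff_false]
        split_ifs <;> omega
      rw [h1]
      exact Spor.empty_mem_supports_golayCode
    · have h1 : resSet (fun j : GolayPt => if μ.testBit (idx j) then (2 : ℤ) else 0) k =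
          support₂ (dec μ) := by
        ext j
        rw [mem_resSet, mem_support₂, dec_ne_zero_iff]
        split_ifs with h
        · simp only [h, iff_true]
          omega
        · simp only [h, Bool.false_eq_true, iff_false]
          omega
      rw [h1]
      exact hsup
    · have h1 : resSet (fun j : GolayPt => if μ.testBit (idx j) then (2 : ℤ) else 0) k = ∅ := by
        ext j
        rw [mem_resSet]
        simp only [Finset.notMem_empty, iff_false]
        split_ifs <;> omega
      rw [h1]
      exact Spor.empty_mem_supports_golayCode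

theorem pivMask_mem : ∀ c < 23, 12 ≤ c → inCode (pivMask c) = true := by decide +kernel

theorem row_const_odd : (∀ j : GolayPt, rowN 23 (idx j) ≡ 1 [ZMOD 4]) ∧
    (∑ j : GolayPt, rowN 23 (idx j)) ≡ 4 * 1 [ZMOD 8] := by decide +kernel

theorem row_const_even : ∀ c < 12, (∀ j : GolayPt, rowN c (idx j) ≡ 0 [ZMOD 4]) ∧
    (∑ j : GolayPt, rowN c (idx j)) ≡ 4 * 0 [ZMOD 8] := by decide +kernel

theorem leechRow_mem (i : GolayPt) : leechRow i ∈ leechLattice := by
  rw [mem_leechLattice_iff]
  have hi := idx_lt i
  show (fun j => rowN (idx i) (idx j)) ∈ leechSet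
  generalize idx i = c at hi
  by_cases h23 : c = 23
  · subst h23
    exact Spor.mem_leechSet_of_const_mod_four _ 1 1 (by decide) row_const_odd.1 row_const_odd.2
  · by_cases h12 : 12 ≤ c
    · have h1 : (fun j => rowN c (idx j)) =
          (fun j : GolayPt => if (pivMask c).testBit (idx j) then (2 : ℤ) else 0) := by
        funext j
        rw [rowN, if_neg h23, if_pos h12]
      rw [h1]
      exact two_mask_mem (mem_sums_of_inCode (pivMask_mem c (by omega) h12))
    · have h1 := row_const_even c (by omega)
      exact Spor.mem_leechSet_of_const_mod_four _ 0 0 (by decide) h1.1 h1.2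

/-- A code word without pivot bits is zero. -/
theorem mask_eq_zero_of_high {μ : ℕ} (hμ : μ ∈ sums gB)
    (h : ∀ p, 12 ≤ p → p < 24 → μ.testBit p = false) : μ = 0 := by
  have h1 := inCode_of_mem_sums hμ
  rw [inCode, beq_iff_eq] at h1
  rw [← h1]
  simp only [gBP, red, h 12 (by norm_num) (by norm_num), h 13 (by norm_num) (by norm_num),
    h 14 (by norm_num) (by norm_num), h 15 (by norm_num) (by norm_num),
    h 16 (by norm_num) (by norm_num), h 17 (by norm_num) (by norm_num),
    h 18 (by norm_num) (by norm_num), h 19 (by norm_num) (by norm_num),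
    h 20 (by norm_num) (by norm_num), h 21 (by norm_num) (by norm_num),
    h 22 (by norm_num) (by norm_num), h 23 (by norm_num) (by norm_num),
    Bool.false_eq_true, if_false, Nat.xor_self]

theorem leechRow_dvd : ∀ x ∈ leechLattice, ∀ k : Fin 24, (∀ l, l < k → x (revEnum l) = 0) →
    leechRow (revEnum k) (revEnum k) ∣ x (revEnum k) := by
  intro x hx k hk
  rw [mem_leechLattice_iff, mem_leechSet_iff] at hx
  obtain ⟨m, h1, h2, h3⟩ := hx
  have H : ∀ c', 23 - (k : ℕ) < c' → c' < 24 → x (pt c') = 0 := by
    intro c' hc1 hc2
    have h4 := hk ⟨23 - c', by omega⟩ (by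
      show 23 - c' < (k : ℕ)
      omega)
    rw [revEnum_apply] at h4
    have h5 : 23 - (23 - c') = c' := by omega
    rw [show 23 - ((⟨23 - c', by omega⟩ : Fin 24) : ℕ) = c' from h5] at h4
    exact h4
  rw [leechRow, revEnum_apply, idx_pt (by omega)]
  have hc : 23 - (k : ℕ) < 24 := by omega
  generalize 23 - (k : ℕ) = c at H hc
  by_cases h23 : c = 23
  · subst h23
    have : rowN 23 23 = 1 := by decide +kernel
    rw [this]
    exact one_dvd _
  · have hm : m % 2 = 0 := by
      have h4 := h1 (pt 23)
      rw [H 23 (by omega) (by norm_num)] at h4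
      omega
    by_cases h12 : 12 ≤ c
    · rw [rowN_diag2 c (by omega) h12]
      have h4 := h1 (pt c)
      omega
    · have hT : resSet x 2 = ∅ := by
        obtain ⟨w, hw, hwT⟩ := h3 2
        obtain ⟨μ, hμ, rfl⟩ := (mem_golayCode_iff w).mp hw
        have h0 : μ = 0 := by
          apply mask_eq_zero_of_high hμ
          intro p hp1 hp2
          by_contra hb
          rw [Bool.not_eq_false] at hb
          have h4 : pt p ∈ support₂ (dec μ) := by
            rw [mem_support₂, dec_ne_zero_iff, idx_pt hp2]
            exact hb
          rw [hwT, mem_resSet, H p (by omega) hp2] at h4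
          omega
        rw [← hwT, h0]
        ext j
        simp [mem_support₂, dec]
      by_cases h0 : c = 0
      · subst h0
        have : rowN 0 0 = 8 := by decide +kernel
        rw [this]
        have h4 : ∑ i, x i = x (pt 0) := by
          apply Finset.sum_eq_single (pt 0)
          · intro j _ hj
            have h5 : idx j ≠ 0 := by
              intro h6
              apply hj
              rw [← h6, pt_idx]
            have h6 := H (idx j) (by omega) (idx_lt j)
            rwa [pt_idx] at h6
          · intro h
            exact absurd (Finset.mem_univ _) h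
        rw [h4] at h2
        omega
      · rw [rowN_diag4 c (by omega) (by omega)]
        have h4 := h1 (pt c)
        have h5 : pt c ∉ resSet x 2 := by
          rw [hT]
          exact Finset.notMem_empty _
        rw [mem_resSet] at h5
        omega

theorem leech_index : leechLattice.index = 2 ^ 36 := by
  rw [tri_index revEnum leechRow leechLattice leechRow_tri leechRow_mem
    (tri_span revEnum leechRow leechLattice leechRow_tri leechRow_mem leechRow_dvd)
    leechRow_diag, leechRow_prod]
  rfl

end Cfsg.Agent.Lib.Helper10
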