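import Mathlib
import Cfsg.Prelude.Def_Sporadic_a
import Cfsg.Prelude.Def_Spor_Conway
import Cfsg.Agent.Lib.Helper9.Golay
import Cfsg.Agent.Lib.Helper10.LeechClosed

set_option autoImplicit false

namespace Cfsg.Agent.Lib.Helper10

open Cfsg Cfsg.Agent.Lib.Helper9

/-! ### Lattice vectors by parity and code word -/

/-- The bit of the mask `μ` at the point `i`, as an integer. -/
def bitZ (μ : ℕ) (i : GolayPt) : ℤ := if μ.testBit (idx i) then 1 else 0

theorem bitZ_cases (μ : ℕ) (i : GolayPt) :
    (μ.testBit (idx i) = true ∧ bitZ μ i = 1) ∨ (μ.testBit (idx i) = false ∧ bitZ μ i = 0) := by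
  unfold bitZ
  cases h : μ.testBit (idx i) <;> simp

theorem mem_supp_dec (μ : ℕ) (i : GolayPt) : i ∈ support₂ (dec μ) ↔ μ.testBit (idx i) = true := by
  rw [mem_support₂, dec_ne_zero_iff]

/-- A vector is in the lattice iff its coordinates are congruent modulo 4 to `par + 2 * bit`
for a parity `par` and the bits of a code word, with coordinate sum `4 * par` modulo 8. -/
theorem mem_leechSet_struct (x : GolayPt → ℤ) :
    x ∈ leechSet ↔ ∃ par : ℕ, par < 2 ∧ ∃ μ ∈ sums gB,
      (∀ i, x i % 4 = (par : ℤ) + 2 * bitZ μ i) ∧ (∑ i, x i) % 8 = 4 * (par : ℤ) := by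
  rw [mem_leechSet_iff]
  constructor
  · rintro ⟨m, h1, h2, h3⟩
    rcases Int.emod_two_eq_zero_or_one m with hm | hm
    · obtain ⟨w, hw, hT⟩ := h3 2
      obtain ⟨μ, hμ, rfl⟩ := (mem_golayCode_iff w).mp hw
      refine ⟨0, by norm_num, μ, hμ, fun i => ?_, ?_⟩
      · have h4 := h1 i
        have h5 : i ∈ support₂ (dec μ) ↔ x i % 4 = 2 % 4 := by rw [hT, mem_resSet]
        rw [mem_supp_dec] at h5
        rcases bitZ_cases μ i with ⟨hb, hz⟩ | ⟨hb, hz⟩
        · rw [hz]
          have := h5.mp hb
          push_cast
          omega
        · rw [hz]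
          have h6 : ¬ (x i % 4 = 2 % 4) := fun h => by
            have := h5.mpr h
            rw [hb] at this
            exact absurd this (by decide)
          push_cast
          omega
      · push_cast
        omega
    · obtain ⟨w, hw, hT⟩ := h3 3
      obtain ⟨μ, hμ, rfl⟩ := (mem_golayCode_iff w).mp hw
      refine ⟨1, by norm_num, μ, hμ, fun i => ?_, ?_⟩
      · have h4 := h1 i
        have h5 : i ∈ support₂ (dec μ) ↔ x i % 4 = 3 % 4 := by rw [hT, mem_resSet]
        rw [mem_supp_dec] at h5
        rcases bitZ_cases μ i with ⟨hb, hz⟩ | ⟨hb, hz⟩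
        · rw [hz]
          have := h5.mp hb
          push_cast
          omega
        · rw [hz]
          have h6 : ¬ (x i % 4 = 3 % 4) := fun h => by
            have := h5.mpr h
            rw [hb] at this
            exact absurd this (by decide)
          push_cast
          omega
      · push_cast
        omega
  · rintro ⟨par, hpar, μ, hμ, h1, h2⟩
    have hsup : support₂ (dec μ) ∈ gsup := ⟨dec μ, dec_mem_golay hμ, rfl⟩
    refine ⟨par, fun i => ?_, ?_, fun k => ?_⟩
    · have h4 := h1 i
      rcases bitZ_cases μ i with ⟨hb, hz⟩ | ⟨hb, hz⟩ <;> rw [hz] at h4 <;> omega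
    · omega
    · by_cases hA : (k - par) % 4 = 2
      · have e1 : resSet x k = support₂ (dec μ) := by
          ext i
          rw [mem_resSet, mem_supp_dec]
          have h4 := h1 i
          rcases bitZ_cases μ i with ⟨hb, hz⟩ | ⟨hb, hz⟩ <;> rw [hz] at h4 <;> rw [hb]
          · simp only [iff_true]
            omega
          · simp only [Bool.false_eq_true, iff_false]
            omega
        rw [e1]
        exact hsup
      · by_cases hB : (k - par) % 4 = 0
        · have e1 : resSet x k = (support₂ (dec μ))ᶜ := by
            ext i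
            rw [mem_resSet, Finset.mem_compl, mem_supp_dec]
            have h4 := h1 i
            rcases bitZ_cases μ i with ⟨hb, hz⟩ | ⟨hb, hz⟩ <;> rw [hz] at h4 <;> rw [hb]
            · simp only [not_true_eq_false, iff_false]
              omega
            · simp only [Bool.false_eq_true, not_false_eq_true, iff_true]
              omega
          rw [e1]
          exact compl_mem_gsup hsup
        · have e1 : resSet x k = ∅ := by
            ext i
            rw [mem_resSet]
            simp only [Finset.notMem_empty, iff_false]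
            have h4 := h1 i
            rcases bitZ_cases μ i with ⟨hb, hz⟩ | ⟨hb, hz⟩ <;> rw [hz] at h4 <;> omega
          rw [e1]
          exact Spor.empty_mem_supports_golayCode

end Cfsg.Agent.Lib.Helper10
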