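import Mathlib
import Cfsg.Prelude.Def_Sporadic_a
import Cfsg.Agent.Lib.Helper9.Golay
import Cfsg.Agent.Lib.Helper10.LeechStruct
import Cfsg.Agent.Lib.Helper10.LeechIndex
import Cfsg.Agent.Lib.Helper10.Co0Center

set_option autoImplicit false

namespace Cfsg.Agent.Lib.Helper10

open Cfsg Cfsg.Agent.Lib.Helper9

/-! ### An automorphism of the lattice outside the monomial group

For the sextet with tetrads `{0,1,2,∞}`, `{3,5,14,17}`, `{4,13,16,22}`, `{6,7,19,21}`,
`{8,11,12,18}`, `{9,10,15,20}`, the map subtracting from each coordinate half the sum of the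
coordinates of its tetrad, followed by the sign change on the first tetrad. -/

/-- The tetrad of each index. -/
def tetTab : List (List ℕ) :=
  [[0, 1, 2, 23], [0, 1, 2, 23], [0, 1, 2, 23], [3, 5, 14, 17], [4, 13, 16, 22], [3, 5, 14, 17],
   [6, 7, 19, 21], [6, 7, 19, 21], [8, 11, 12, 18], [9, 10, 15, 20], [9, 10, 15, 20],
   [8, 11, 12, 18], [8, 11, 12, 18], [4, 13, 16, 22], [3, 5, 14, 17], [9, 10, 15, 20],
   [4, 13, 16, 22], [3, 5, 14, 17], [8, 11, 12, 18], [6, 7, 19, 21], [9, 10, 15, 20],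
   [6, 7, 19, 21], [4, 13, 16, 22], [0, 1, 2, 23]]

/-- The tetrad containing the index `c`. -/
def tetL (c : ℕ) : List ℕ := tetTab.getD c []

/-- The sign: `-1` on the first tetrad. -/
def sgnN (c : ℕ) : ℤ := if c = 0 ∨ c = 1 ∨ c = 2 ∨ c = 23 then -1 else 1

/-- Twice the map, on functions of the index. -/
def xi2N (f : ℕ → ℤ) (c : ℕ) : ℤ := sgnN c * (2 * f c - ((tetL c).map f).sum)

/-- Twice the map, on vectors. -/
def xi2 (x : GolayPt → ℤ) : GolayPt → ℤ := fun p => xi2N (fun c => x (pt c)) (idx p)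

theorem tetL_lt : ∀ j < 24, ∀ c ∈ tetL j, c < 24 := by decide +kernel

theorem xi2N_xi2N (X : ℕ → ℤ) : ∀ j < 24, xi2N (xi2N X) j = 4 * X j := by
  intro j hj
  interval_cases j <;> simp [xi2N, tetL, tetTab, sgnN] <;> ring

theorem xi2N_norm (X : ℕ → ℤ) :
    ∑ c ∈ Finset.range 24, (xi2N X c) ^ 2 = 4 * ∑ c ∈ Finset.range 24, (X c) ^ 2 := by
  simp [Finset.sum_range_succ, xi2N, tetL, tetTab, sgnN]
  ring

theorem sum_idx (f : ℕ → ℤ) : ∑ p : GolayPt, f (idx p) = ∑ c ∈ Finset.range 24, f c := by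
  apply Finset.sum_nbij' (i := idx) (j := pt)
  · intro a _
    exact Finset.mem_range.mpr (idx_lt a)
  · intro a _
    exact Finset.mem_univ _
  · intro a _
    exact pt_idx a
  · intro a ha
    exact idx_pt (Finset.mem_range.mp ha)
  · intro a _
    rfl

theorem xi2N_congr {f g : ℕ → ℤ} (h : ∀ c < 24, f c = g c) : ∀ j < 24, xi2N f j = xi2N g j := by
  intro j hj
  unfold xi2N
  rw [h j hj, List.map_congr_left (fun c hc => h c (tetL_lt j hj c hc))]

/-- The map on a vector given by a function of the index. -/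
theorem xi2_idx (f : ℕ → ℤ) (p : GolayPt) : xi2 (fun q => f (idx q)) p = xi2N f (idx p) := by
  unfold xi2
  exact xi2N_congr (fun c hc => by
    show f (idx (pt c)) = f c
    rw [idx_pt hc]) (idx p) (idx_lt p)

theorem xi2_add (x y : GolayPt → ℤ) : xi2 (x + y) = xi2 x + xi2 y := by
  funext p
  simp only [xi2, xi2N, Pi.add_apply, List.sum_map_add]
  ring

theorem xi2_zero : xi2 0 = 0 := by
  funext p
  simp [xi2, xi2N]

theorem xi2_neg (x : GolayPt → ℤ) : xi2 (-x) = -xi2 x := by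
  have h := xi2_add x (-x)
  rw [add_neg_cancel, xi2_zero] at h
  exact eq_neg_of_add_eq_zero_right h.symm

theorem xi2_two_smul (x : GolayPt → ℤ) : xi2 ((2 : ℤ) • x) = (2 : ℤ) • xi2 x := by
  rw [two_smul ℤ, two_smul ℤ, xi2_add]

theorem xi2_xi2 (x : GolayPt → ℤ) : xi2 (xi2 x) = (4 : ℤ) • x := by
  funext p
  have h1 : xi2 (xi2 x) p = xi2N (xi2N (fun c => x (pt c))) (idx p) :=
    xi2_idx (xi2N (fun c => x (pt c))) p
  rw [h1, xi2N_xi2N _ _ (idx_lt p), pt_idx]
  simp

theorem sqNorm_xi2 (x : GolayPt → ℤ) : sqNorm (xi2 x) = 4 * sqNorm x := by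
  have h1 : sqNorm (xi2 x) = ∑ p : GolayPt, (xi2N (fun c => x (pt c)) (idx p)) ^ 2 := rfl
  have h2 : sqNorm x = ∑ p : GolayPt, ((fun c => x (pt c)) (idx p)) ^ 2 := by
    unfold sqNorm
    apply Finset.sum_congr rfl
    intro p _
    show x p ^ 2 = x (pt (idx p)) ^ 2
    rw [pt_idx]
  rw [h1, h2, sum_idx (fun c => (xi2N (fun c => x (pt c)) c) ^ 2),
    sum_idx (fun c => ((fun c => x (pt c)) c) ^ 2)]
  exact xi2N_norm _

/-- Parities of the images of the basis rows. -/
def xiPar : List ℤ :=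
  [0, 0, 0, 0, 0, 0, 0, 0, 0, 0, 0, 0, 1, 0, 0, 0, 0, 1, 0, 1, 1, 0, 1, 1]

/-- Code words of the images of the basis rows. -/
def xiMask : List ℕ :=
  [0, 0, 0, 8536111, 12656663, 8536111, 11010247, 11010247, 8657159, 9471495, 9471495, 8657159,
   16771936, 13062145, 12222476, 12325377, 13938692, 8369513, 11163650, 6290658, 8355404,
   2019456, 12580272, 16777215]

theorem xi_rows : ∀ k < 24,
    (∀ j : GolayPt, xi2N (rowN k) (idx j) = 2 * (xi2N (rowN k) (idx j) / 2)) ∧
    inCode (xiMask.getD k 0) = true ∧ (xiPar.getD k 0 = 0 ∨ xiPar.getD k 0 = 1) ∧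
    (∀ j : GolayPt, (xi2N (rowN k) (idx j) / 2) % 4 =
      xiPar.getD k 0 + 2 * bitZ (xiMask.getD k 0) j) ∧
    (∑ j : GolayPt, xi2N (rowN k) (idx j) / 2) % 8 = 4 * xiPar.getD k 0 := by
  decide +kernel

theorem xi2_row (i : GolayPt) : ∃ y ∈ leechLattice, xi2 (leechRow i) = (2 : ℤ) • y := by
  obtain ⟨h1, h2, h3, h4, h5⟩ := xi_rows (idx i) (idx_lt i)
  refine ⟨fun j => xi2N (rowN (idx i)) (idx j) / 2, ?_, ?_⟩
  · rw [mem_leechLattice_iff, mem_leechSet_struct]
    rcases h3 with h3 | h3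
    · refine ⟨0, by norm_num, xiMask.getD (idx i) 0, mem_sums_of_inCode h2, ?_, ?_⟩
      · intro j
        rw [h4 j, h3]
        rfl
      · rw [h5, h3]
        rfl
    · refine ⟨1, by norm_num, xiMask.getD (idx i) 0, mem_sums_of_inCode h2, ?_, ?_⟩
      · intro j
        rw [h4 j, h3]
        rfl
      · rw [h5, h3]
        rfl
  · funext p
    have h6 : xi2 (leechRow i) p = xi2N (rowN (idx i)) (idx p) := xi2_idx (rowN (idx i)) p
    rw [h6, h1 p]
    simp

theorem leech_closure : ∀ x ∈ leechLattice, x ∈ AddSubgroup.closure (Set.range leechRow) :=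
  tri_span revEnum leechRow leechLattice leechRow_tri leechRow_mem leechRow_dvd

/-- On the lattice, the doubled map takes values in twice the lattice. -/
theorem xi2_mem {x : GolayPt → ℤ} (hx : x ∈ leechLattice) : ∃ y ∈ leechLattice, xi2 x = (2 : ℤ) • y := by
  have h := leech_closure x hx
  clear hx
  induction h using AddSubgroup.closure_induction with
  | mem z hz =>
    obtain ⟨i, rfl⟩ := hz
    exact xi2_row i
  | zero => exact ⟨0, leechLattice.zero_mem, by rw [xi2_zero, smul_zero]⟩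
  | add a b _ _ iha ihb =>
    obtain ⟨ya, hya, ea⟩ := iha
    obtain ⟨yb, hyb, eb⟩ := ihb
    exact ⟨ya + yb, leechLattice.add_mem hya hyb, by rw [xi2_add, ea, eb, smul_add]⟩
  | neg a _ iha =>
    obtain ⟨ya, hya, ea⟩ := iha
    exact ⟨-ya, leechLattice.neg_mem hya, by rw [xi2_neg, ea, smul_neg]⟩

/-- The map itself. -/
def xiVec (x : GolayPt → ℤ) : GolayPt → ℤ := fun p => xi2 x p / 2

theorem two_smul_xiVec {x : GolayPt → ℤ} (hx : x ∈ leechLattice) : (2 : ℤ) • xiVec x = xi2 x := by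
  obtain ⟨y, -, hy⟩ := xi2_mem hx
  funext p
  simp only [xiVec, hy, Pi.smul_apply, smul_eq_mul]
  omega

theorem xiVec_mem {x : GolayPt → ℤ} (hx : x ∈ leechLattice) : xiVec x ∈ leechLattice := by
  obtain ⟨y, hy, hy'⟩ := xi2_mem hx
  have h : xiVec x = y := by
    funext p
    simp only [xiVec, hy', Pi.smul_apply, smul_eq_mul]
    omega
  rw [h]
  exact hy

theorem two_smul_inj {a b : GolayPt → ℤ} (h : (2 : ℤ) • a = (2 : ℤ) • b) : a = b := by
  funext p
  have h1 := congrFun h p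
  simp only [Pi.smul_apply, smul_eq_mul] at h1
  omega

theorem xiVec_xiVec {x : GolayPt → ℤ} (hx : x ∈ leechLattice) : xiVec (xiVec x) = x := by
  apply two_smul_inj
  rw [two_smul_xiVec (xiVec_mem hx)]
  apply two_smul_inj
  rw [← xi2_two_smul, two_smul_xiVec hx, xi2_xi2, smul_smul]
  norm_num

theorem xiVec_add {x y : GolayPt → ℤ} (hx : x ∈ leechLattice) (hy : y ∈ leechLattice) :
    xiVec (x + y) = xiVec x + xiVec y := by
  apply two_smul_inj
  rw [two_smul_xiVec (leechLattice.add_mem hx hy), xi2_add, smul_add, two_smul_xiVec hx,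
    two_smul_xiVec hy]

theorem sqNorm_two_smul (y : GolayPt → ℤ) : sqNorm ((2 : ℤ) • y) = 4 * sqNorm y := by
  unfold sqNorm
  rw [Finset.mul_sum]
  apply Finset.sum_congr rfl
  intro i _
  simp only [Pi.smul_apply, smul_eq_mul]
  ring

theorem sqNorm_xiVec {x : GolayPt → ℤ} (hx : x ∈ leechLattice) : sqNorm (xiVec x) = sqNorm x := by
  have h1 := sqNorm_two_smul (xiVec x)
  rw [two_smul_xiVec hx, sqNorm_xi2] at h1
  omega

/-- The automorphism of the lattice. -/
def xiPerm : Equiv.Perm leechLattice where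
  toFun v := ⟨xiVec v, xiVec_mem v.2⟩
  invFun v := ⟨xiVec v, xiVec_mem v.2⟩
  left_inv v := Subtype.ext (xiVec_xiVec v.2)
  right_inv v := Subtype.ext (xiVec_xiVec v.2)

theorem xiPerm_apply (v : leechLattice) : (xiPerm v : GolayPt → ℤ) = xiVec v := rfl

theorem xiPerm_mem : xiPerm ∈ Co0 :=
  ⟨fun v w => Subtype.ext (xiVec_add v.2 w.2), fun v => sqNorm_xiVec v.2⟩

/-- Evaluation on a vector given by a function of the index. -/
theorem xiVec_idx (f : ℕ → ℤ) (p : GolayPt) :
    xiVec (fun q => f (idx q)) p = xi2N f (idx p) / 2 := by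
  unfold xiVec
  rw [xi2_idx]

end Cfsg.Agent.Lib.Helper10
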