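import Mathlib
import Cfsg.Prelude.Def_Sporadic_a
import Cfsg.Agent.Lib.Helper10.Xi
import Cfsg.Agent.S0432
import Cfsg.Agent.S0366

set_option autoImplicit false

namespace Cfsg.Agent.Lib.Helper10

open Cfsg Cfsg.Agent.Lib.Helper9
open scoped Pointwise

/-! ### Coordinate permutations as lattice automorphisms, and orbits of the automorphism group -/

/-- The coordinate permutation of the lattice given by an element of the group of the code. -/
def permPerm (σ : Equiv.Perm GolayPt) (hσ : σ ∈ M24) : Equiv.Perm leechLattice where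
  toFun v := ⟨fun i => (v : GolayPt → ℤ) (σ.symm i),
    Cfsg.Agent.S0432.result σ⁻¹ (M24.inv_mem hσ) v v.2⟩
  invFun v := ⟨fun i => (v : GolayPt → ℤ) (σ i), Cfsg.Agent.S0432.result σ hσ v v.2⟩
  left_inv v := by
    apply Subtype.ext
    funext i
    show (v : GolayPt → ℤ) (σ.symm (σ i)) = (v : GolayPt → ℤ) i
    rw [Equiv.symm_apply_apply]
  right_inv v := by
    apply Subtype.ext
    funext i
    show (v : GolayPt → ℤ) (σ (σ.symm i)) = (v : GolayPt → ℤ) i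
    rw [Equiv.apply_symm_apply]

theorem permPerm_apply (σ : Equiv.Perm GolayPt) (hσ : σ ∈ M24) (v : leechLattice) (i : GolayPt) :
    (permPerm σ hσ v : GolayPt → ℤ) i = (v : GolayPt → ℤ) (σ.symm i) := rfl

theorem permPerm_mem (σ : Equiv.Perm GolayPt) (hσ : σ ∈ M24) : permPerm σ hσ ∈ Co0 := by
  refine ⟨fun v w => rfl, fun v => ?_⟩
  show ∑ i, ((v : GolayPt → ℤ) (σ.symm i)) ^ 2 = ∑ i, ((v : GolayPt → ℤ) i) ^ 2
  exact Equiv.sum_comp σ.symm (fun i => ((v : GolayPt → ℤ) i) ^ 2)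

/-- Two vectors of the lattice in the same orbit of the automorphism group. -/
def CoEq (x y : GolayPt → ℤ) : Prop :=
  ∃ (hx : x ∈ leechLattice) (g : Equiv.Perm leechLattice), g ∈ Co0 ∧
    ((g ⟨x, hx⟩ : leechLattice) : GolayPt → ℤ) = y

theorem CoEq.mem_left {x y : GolayPt → ℤ} (h : CoEq x y) : x ∈ leechLattice := h.1

theorem CoEq.mem_right {x y : GolayPt → ℤ} (h : CoEq x y) : y ∈ leechLattice := by
  obtain ⟨hx, g, -, rfl⟩ := h
  exact (g ⟨x, hx⟩).2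

theorem CoEq.refl {x : GolayPt → ℤ} (hx : x ∈ leechLattice) : CoEq x x :=
  ⟨hx, 1, Co0.one_mem, rfl⟩

theorem CoEq.symm {x y : GolayPt → ℤ} (h : CoEq x y) : CoEq y x := by
  have hy := h.mem_right
  obtain ⟨hx, g, hg, rfl⟩ := h
  refine ⟨hy, g⁻¹, Co0.inv_mem hg, ?_⟩
  have h1 : (⟨((g ⟨x, hx⟩ : leechLattice) : GolayPt → ℤ), hy⟩ : leechLattice) = g ⟨x, hx⟩ := rfl
  rw [h1]
  show ((g.symm (g ⟨x, hx⟩) : leechLattice) : GolayPt → ℤ) = x
  rw [Equiv.symm_apply_apply]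

theorem CoEq.trans {x y z : GolayPt → ℤ} (h : CoEq x y) (h' : CoEq y z) : CoEq x z := by
  obtain ⟨hx, g, hg, rfl⟩ := h
  obtain ⟨hy, g', hg', rfl⟩ := h'
  exact ⟨hx, g' * g, Co0.mul_mem hg' hg, rfl⟩

theorem CoEq.norm {x y : GolayPt → ℤ} (h : CoEq x y) : sqNorm y = sqNorm x := by
  obtain ⟨hx, g, hg, rfl⟩ := h
  exact hg.2 ⟨x, hx⟩

theorem coeq_perm {x : GolayPt → ℤ} (hx : x ∈ leechLattice) {σ : Equiv.Perm GolayPt}
    (hσ : σ ∈ M24) : CoEq x (fun i => x (σ.symm i)) :=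
  ⟨hx, permPerm σ hσ, permPerm_mem σ hσ, rfl⟩

theorem coeq_sign {x : GolayPt → ℤ} (hx : x ∈ leechLattice) {c : Finset GolayPt}
    (hc : c ∈ gsup) : CoEq x (signVec c x) :=
  ⟨hx, signPerm c hc, signPerm_mem c hc, rfl⟩

theorem coeq_xi {x : GolayPt → ℤ} (hx : x ∈ leechLattice) : CoEq x (xiVec x) :=
  ⟨hx, xiPerm, xiPerm_mem, rfl⟩

theorem coeq_iff (v w : leechLattice) :
    CoEq (v : GolayPt → ℤ) (w : GolayPt → ℤ) ↔ ∃ g : Co0, g • v = w := by
  constructor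
  · rintro ⟨hx, g, hg, h⟩
    exact ⟨⟨g, hg⟩, Subtype.ext h⟩
  · rintro ⟨g, rfl⟩
    exact ⟨v.2, g.1, g.2, rfl⟩

/-! ### Transitivity of the group of the code on points -/

theorem m24_trans_fin {n : ℕ} (hn : n ≤ 5) (x y : Fin n ↪ GolayPt) :
    ∃ σ ∈ M24, ∀ i, σ (x i) = y i := by
  have := Cfsg.Agent.S0366.result
  have hc : 5 ≤ Nat.card GolayPt := by
    rw [Nat.card_eq_fintype_card]
    decide
  have : MulAction.IsMultiplyPretransitive M24 GolayPt n :=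
    MulAction.isMultiplyPretransitive_of_le hn hc
  obtain ⟨g, hg⟩ := MulAction.exists_smul_eq M24 x y
  refine ⟨g.1, g.2, fun i => ?_⟩
  have h1 := congrArg (fun z : Fin n ↪ GolayPt => z i) hg
  exact h1

theorem m24_trans1 (p q : GolayPt) : ∃ σ ∈ M24, σ p = q := by
  obtain ⟨σ, hσ, h⟩ := m24_trans_fin (n := 1) (by norm_num)
    ⟨fun _ => p, fun i j _ => Subsingleton.elim i j⟩ ⟨fun _ => q, fun i j _ => Subsingleton.elim i j⟩
  exact ⟨σ, hσ, h 0⟩

theorem m24_trans2 {p p' q q' : GolayPt} (hp : p ≠ p') (hq : q ≠ q') :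
    ∃ σ ∈ M24, σ p = q ∧ σ p' = q' := by
  have hx : Function.Injective (![p, p'] : Fin 2 → GolayPt) := by
    intro i j h
    fin_cases i <;> fin_cases j <;> simp_all
  have hy : Function.Injective (![q, q'] : Fin 2 → GolayPt) := by
    intro i j h
    fin_cases i <;> fin_cases j <;> simp_all
  obtain ⟨σ, hσ, h⟩ := m24_trans_fin (n := 2) (by norm_num) ⟨_, hx⟩ ⟨_, hy⟩
  exact ⟨σ, hσ, h 0, h 1⟩

theorem m24_trans3 {p p' p'' q q' q'' : GolayPt} (hp : p ≠ p') (hp' : p ≠ p'') (hp'' : p' ≠ p'')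
    (hq : q ≠ q') (hq' : q ≠ q'') (hq'' : q' ≠ q'') :
    ∃ σ ∈ M24, σ p = q ∧ σ p' = q' ∧ σ p'' = q'' := by
  have hx : Function.Injective (![p, p', p''] : Fin 3 → GolayPt) := by
    intro i j h
    fin_cases i <;> fin_cases j <;> simp_all
  have hy : Function.Injective (![q, q', q''] : Fin 3 → GolayPt) := by
    intro i j h
    fin_cases i <;> fin_cases j <;> simp_all
  obtain ⟨σ, hσ, h⟩ := m24_trans_fin (n := 3) (by norm_num) ⟨_, hx⟩ ⟨_, hy⟩
  exact ⟨σ, hσ, h 0, h 1, h 2⟩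

end Cfsg.Agent.Lib.Helper10
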