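import Mathlib
import Cfsg.Prelude.Def_Sporadic_a
import Cfsg.Agent.Lib.Helper9.M24Enum
import Cfsg.Agent.S0367

set_option autoImplicit false

namespace Cfsg.Agent.Lib.Helper10

open Cfsg Cfsg.Agent.Lib.Helper9
open scoped Pointwise

/-! ### The pointwise stabiliser of an octad -/

/-- Mask of the reference octad `{0, 1, 2, 3, 5, 14, 17, ∞}`. -/
def O0 : ℕ := 8536111

/-- The reference octad. -/
def O0f : Finset GolayPt := support₂ (dec O0)

theorem O0f_mem : O0f ∈ octads :=
  (mem_octads_iff _).mpr ⟨O0, mem_sums_of_inCode (by decide), by decide, rfl⟩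

theorem mem_O0f {p : GolayPt} : p ∈ O0f ↔ O0.testBit (idx p) = true := by
  rw [O0f, mem_support₂, dec_ne_zero_iff]

/-- Indices of the reference octad. -/
def octL : List ℕ := [0, 1, 2, 3, 5, 14, 17, 23]

theorem octL_spec : ∀ i < 24, (O0.testBit i = true ↔ i ∈ octL) := by decide

theorem octL_lt : ∀ c ∈ octL, c < 24 := by decide

/-- The table fixes every index of the reference octad. -/
def octFix (T : List ℕ) : Bool := octL.all (fun c => T.getD c 0 == c)

/-- Words for the 16 elements fixing the reference octad pointwise. -/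
def W16 : List (List ℕ) :=
  [[], [24], [26], [28], [30], [24, 26], [24, 28], [24, 30], [26, 28], [26, 30], [28, 30],
   [24, 26, 28], [24, 26, 30], [24, 28, 30], [26, 28, 30], [24, 26, 28, 30]]

theorem W16_eq : words5.filter (fun w => octFix (prodT sgsTabs w)) = W16 := by decide +kernel

theorem W16_nodup : (W16.map (prodT sgsTabs)).Nodup := by decide +kernel

theorem W16_sq : W16.all (fun w => compT (prodT sgsTabs w) (prodT sgsTabs w) == idT) = true := by
  decide +kernel

theorem W16_fix : W16.all (fun w => octFix (prodT sgsTabs w)) = true := by decide +kernel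

/-- The pointwise stabiliser of the reference octad. -/
def K0 : Subgroup (Equiv.Perm GolayPt) :=
  M24 ⊓ fixingSubgroup (Equiv.Perm GolayPt) (O0f : Set GolayPt)

theorem exists_word16 {σ : Equiv.Perm GolayPt} (hσ : σ ∈ K0) :
    ∃ w ∈ W16, σ = prodW sgsEnv w ∧ HasTable σ (prodT sgsTabs w) := by
  have hfix : ∀ c ∈ octL, σ (pt c) = pt c := fun c hc => by
    have h1 : pt c ∈ O0f := by
      rw [mem_O0f, idx_pt (octL_lt c hc)]
      exact (octL_spec c (octL_lt c hc)).mpr hc
    exact (mem_fixingSubgroup_iff _).mp hσ.2 _ h1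
  have h5 : σ ∈ M24 ⊓ fixing [3, 2, 1, 0, 23] :=
    ⟨hσ.1, fun i hi => hfix i (by revert i; decide)⟩
  obtain ⟨w, hw, rfl, hT⟩ := exists_word5 h5
  refine ⟨w, ?_, rfl, hT⟩
  rw [← W16_eq, List.mem_filter]
  refine ⟨hw, ?_⟩
  rw [octFix, List.all_eq_true]
  intro c hc
  have h1 := hfix c hc
  rw [hT.apply_pt (octL_lt c hc)] at h1
  have h2 := congrArg idx h1
  rw [idx_pt (hT.getD_lt c), idx_pt (octL_lt c hc)] at h2
  rw [beq_iff_eq]
  exact h2

theorem word16_mem {w : List ℕ} (hw : w ∈ W16) : prodW sgsEnv w ∈ K0 := by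
  have h := good_sgs_M24.prod w
  refine ⟨h.1, (mem_fixingSubgroup_iff _).mpr fun p hp => ?_⟩
  rw [Equiv.Perm.smul_def, h.2.2 p]
  have hc : idx p ∈ octL := (octL_spec _ (idx_lt p)).mp (mem_O0f.mp hp)
  have h1 := List.all_eq_true.mp W16_fix w hw
  rw [octFix, List.all_eq_true] at h1
  rw [beq_iff_eq.mp (h1 (idx p) hc), pt_idx]

theorem card_K0 : Nat.card K0 = 16 := by
  have hinj : ∀ w ∈ W16, ∀ w' ∈ W16, prodW sgsEnv w = prodW sgsEnv w' → w = w' := by
    intro w hw w' hw' heq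
    apply List.inj_on_of_nodup_map W16_nodup hw hw'
    have h1 := (good_sgs_top.prod w).2
    have h2 := (good_sgs_top.prod w').2
    rw [heq] at h1
    exact h1.unique h2
  have hnd : (W16.map (prodW sgsEnv)).Nodup :=
    List.Nodup.map_on hinj (List.Nodup.of_map _ W16_nodup)
  have hset : (K0 : Set (Equiv.Perm GolayPt)) =
      (((W16.map (prodW sgsEnv)).toFinset : Finset (Equiv.Perm GolayPt)) :
        Set (Equiv.Perm GolayPt)) := by
    ext τ
    simp only [List.mem_toFinset, List.mem_map, SetLike.mem_coe]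
    constructor
    · intro h
      obtain ⟨w, hw, rfl, -⟩ := exists_word16 h
      exact ⟨w, hw, rfl⟩
    · rintro ⟨w, hw, rfl⟩
      exact word16_mem hw
  have h1 : Nat.card K0 = (K0 : Set (Equiv.Perm GolayPt)).ncard :=
    _root_.Nat.card_coe_set_eq _
  rw [h1, hset, Set.ncard_coe_finset, List.toFinset_card_of_nodup hnd, List.length_map]
  rfl

theorem sq_K0 {σ : Equiv.Perm GolayPt} (hσ : σ ∈ K0) : σ * σ = 1 := by
  obtain ⟨w, hw, -, hT⟩ := exists_word16 hσ
  have h1 := List.all_eq_true.mp W16_sq w hw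
  rw [beq_iff_eq] at h1
  have h2 := hasTable_mul hT hT
  rw [h1] at h2
  exact eq_one_of_hasTable_idT h2

/-- Conjugation carries the pointwise stabiliser of `γ • s` to that of `s`. -/
theorem mem_fix_smul_iff {γ : Equiv.Perm GolayPt} (hγ : γ ∈ M24) (s : Finset GolayPt)
    (g : Equiv.Perm GolayPt) :
    g ∈ M24 ⊓ fixingSubgroup (Equiv.Perm GolayPt) ((γ • s : Finset GolayPt) : Set GolayPt) ↔
      MulAut.conj γ⁻¹ g ∈ M24 ⊓ fixingSubgroup (Equiv.Perm GolayPt) (s : Set GolayPt) := by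
  rw [MulAut.conj_apply, inv_inv, Subgroup.mem_inf, Subgroup.mem_inf, mem_fixingSubgroup_iff,
    mem_fixingSubgroup_iff]
  have hγi : γ⁻¹ ∈ M24 := M24.inv_mem hγ
  constructor
  · rintro ⟨h1, h2⟩
    refine ⟨M24.mul_mem (M24.mul_mem hγi h1) hγ, fun p hp => ?_⟩
    have h3 : γ • p ∈ ((γ • s : Finset GolayPt) : Set GolayPt) :=
      Finset.smul_mem_smul_finset hp
    have h4 := h2 _ h3
    rw [Equiv.Perm.smul_def] at h4 ⊢
    rw [Equiv.Perm.mul_apply, Equiv.Perm.mul_apply, Equiv.Perm.inv_eq_iff_eq]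
    exact h4
  · rintro ⟨h1, h2⟩
    constructor
    · have h3 := M24.mul_mem (M24.mul_mem hγ h1) hγi
      have h4 : γ * (γ⁻¹ * g * γ) * γ⁻¹ = g := by group
      rwa [h4] at h3
    · intro q hq
      rw [Finset.mem_coe] at hq
      obtain ⟨p, hp, rfl⟩ := Finset.mem_smul_finset.mp hq
      have h4 := h2 p hp
      rw [Equiv.Perm.smul_def] at h4 ⊢
      rw [Equiv.Perm.mul_apply, Equiv.Perm.mul_apply, Equiv.Perm.inv_eq_iff_eq] at h4
      rw [Equiv.Perm.smul_def]
      exact h4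

theorem octad_pointwise (o : Finset GolayPt) (ho : o ∈ octads) :
    Nat.card ↥(M24 ⊓ fixingSubgroup (Equiv.Perm GolayPt) (o : Set GolayPt)) = 16 ∧
      ∀ g ∈ M24 ⊓ fixingSubgroup (Equiv.Perm GolayPt) (o : Set GolayPt), g * g = 1 := by
  obtain ⟨γ, hγ⟩ := Cfsg.Agent.S0367.result O0f o O0f_mem ho
  have hγ' : (γ : Equiv.Perm GolayPt) • O0f = o := hγ
  rw [← hγ']
  constructor
  · rw [← card_K0]
    exact Nat.card_congr (Equiv.subtypeEquiv (MulAut.conj (γ : Equiv.Perm GolayPt)⁻¹).toEquiv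
      (fun g => mem_fix_smul_iff γ.2 O0f g))
  · intro g hg
    have h1 := sq_K0 ((mem_fix_smul_iff γ.2 O0f g).mp hg)
    rw [MulAut.conj_apply, inv_inv] at h1
    have h2 : g * g = (γ : Equiv.Perm GolayPt) *
        ((γ : Equiv.Perm GolayPt)⁻¹ * g * γ * ((γ : Equiv.Perm GolayPt)⁻¹ * g * γ)) *
          (γ : Equiv.Perm GolayPt)⁻¹ := by group
    rw [h2, h1]
    group

end Cfsg.Agent.Lib.Helper10
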