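import Mathlib
import Cfsg.Prelude.Def_Sporadic_a
import Cfsg.Prelude.Def_Spor_Conway
import Cfsg.Agent.Lib.Helper10.Co0Perm
import Cfsg.Agent.Lib.Helper10.LeechStruct
import Cfsg.Agent.Lib.Helper10.LeechIndex
import Cfsg.Agent.Lib.Helper10.GolayW4
import Cfsg.Agent.Lib.Helper10.OctadStab
import Cfsg.Agent.S1555
import Cfsg.Agent.S0367

set_option autoImplicit false

namespace Cfsg.Agent.Lib.Helper10

open Cfsg Cfsg.Agent.Lib.Helper9
open scoped Pointwise

/-! ### The vectors of squared length 32 form one orbit -/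

theorem coeq_perm' {x y : GolayPt → ℤ} (hx : x ∈ leechLattice) {σ : Equiv.Perm GolayPt}
    (hσ : σ ∈ M24) (h : ∀ q, y (σ q) = x q) : CoEq x y := by
  have e : y = fun i => x (σ.symm i) := by
    funext i
    rw [← h (σ.symm i), Equiv.apply_symm_apply]
  rw [e]
  exact coeq_perm hx hσ

theorem coeq_sign' {x y : GolayPt → ℤ} (hx : x ∈ leechLattice) {c : Finset GolayPt}
    (hc : c ∈ gsup) (h : ∀ q, y q = if q ∈ c then -x q else x q) : CoEq x y := by
  have e : y = signVec c x := funext h
  rw [e]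
  exact coeq_sign hx hc

/-- If every pair of points of `D` is cut out of `D` by a code word, so is every even subset. -/
theorem exists_inter_eq_of_pairs {D : Finset GolayPt}
    (hpair : ∀ a ∈ D, ∀ b ∈ D, a ≠ b → ∃ c ∈ gsup, c ∩ D = {a, b}) :
    ∀ (n : ℕ) (E : Finset GolayPt), E ⊆ D → E.card = 2 * n → ∃ c ∈ gsup, c ∩ D = E := by
  intro n
  induction n with
  | zero =>
    intro E hE hc
    refine ⟨∅, Spor.empty_mem_supports_golayCode, ?_⟩
    rw [Finset.empty_inter]
    exact (Finset.card_eq_zero.mp (by omega)).symm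
  | succ n ih =>
    intro E hE hc
    have h2 : 1 < E.card := by omega
    obtain ⟨a, ha, b, hb, hab⟩ := Finset.one_lt_card.mp h2
    have hsub : ({a, b} : Finset GolayPt) ⊆ E := by
      intro z hz
      rw [Finset.mem_insert, Finset.mem_singleton] at hz
      rcases hz with rfl | rfl
      · exact ha
      · exact hb
    have hs2 : ({a, b} : Finset GolayPt).card = 2 := Finset.card_pair hab
    obtain ⟨o', ho', hoo⟩ := hpair a (hE ha) b (hE hb) hab
    have hE' : (E \ {a, b}) ⊆ D := fun z hz => hE (Finset.mem_sdiff.mp hz).1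
    have hc' : (E \ {a, b}).card = 2 * n := by
      rw [Finset.card_sdiff_of_subset hsub, hs2]
      omega
    obtain ⟨c', hc'g, hc'O⟩ := ih (E \ {a, b}) hE' hc'
    refine ⟨symmDiff c' o', symmDiff_mem_gsup hc'g ho', ?_⟩
    ext z
    have h1 : z ∈ c' ∩ D ↔ z ∈ E \ {a, b} := by rw [hc'O]
    have h3 : z ∈ o' ∩ D ↔ z ∈ ({a, b} : Finset GolayPt) := by rw [hoo]
    rw [Finset.mem_inter, Finset.mem_sdiff, Finset.mem_insert, Finset.mem_singleton] at h1
    rw [Finset.mem_inter, Finset.mem_insert, Finset.mem_singleton] at h3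
    rw [Finset.mem_inter, Finset.mem_symmDiff]
    have h4 : z ∈ E → z ∈ D := fun h => hE h
    have h5 : z = a → z ∈ E := fun h => h ▸ ha
    have h6 : z = b → z ∈ E := fun h => h ▸ hb
    tauto

/-- An even subset of an octad is cut out by a code word. -/
theorem exists_inter_eq {O : Finset GolayPt} (hO : O ∈ octads) :
    ∀ (n : ℕ) (E : Finset GolayPt), E ⊆ O → E.card = 2 * n → ∃ c ∈ gsup, c ∩ O = E := by
  apply exists_inter_eq_of_pairs
  intro a ha b hb hab
  have hs : ({a, b} : Finset GolayPt) ⊆ O := by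
    intro z hz
    rw [Finset.mem_insert, Finset.mem_singleton] at hz
    rcases hz with rfl | rfl
    · exact ha
    · exact hb
  have hs2 : ({a, b} : Finset GolayPt).card = 2 := Finset.card_pair hab
  have h16 := (Cfsg.Agent.S1555.result O hO {a, b} hs).1 hs2
  have hne : {o' : Finset GolayPt | o' ∈ octads ∧ O ∩ o' = {a, b}}.Nonempty := by
    apply Set.nonempty_of_ncard_ne_zero
    rw [h16]
    norm_num
  obtain ⟨o', ho', hoo⟩ := hne
  exact ⟨o', ho'.1, by rw [Finset.inter_comm]; exact hoo⟩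

theorem exists_sign_two {i j : GolayPt} (hij : i ≠ j) (a b : Prop) :
    ∃ c ∈ gsup, (i ∈ c ↔ a) ∧ (j ∈ c ↔ b) := by
  obtain ⟨c, hc, h⟩ := sep_gsup hij
  by_cases ha : a <;> by_cases hb : b
  · exact ⟨Finset.univ, Spor.univ_mem_supports_golayCode, by simp [ha], by simp [hb]⟩
  · rcases h with h | h
    · exact ⟨c, hc, by simp [ha, h.1], by simp [hb, h.2]⟩
    · exact ⟨cᶜ, compl_mem_gsup hc, by simp [ha, h.1], by simp [hb, h.2]⟩
  · rcases h with h | h
    · exact ⟨cᶜ, compl_mem_gsup hc, by simp [ha, h.1], by simp [hb, h.2]⟩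
    · exact ⟨c, hc, by simp [ha, h.1], by simp [hb, h.2]⟩
  · exact ⟨∅, Spor.empty_mem_supports_golayCode, by simp [ha], by simp [hb]⟩

/-- The vector with `4` at two points. -/
def twoVec (i j : GolayPt) : GolayPt → ℤ := fun q => if q = i ∨ q = j then 4 else 0

/-- The vector with `2` on a set of points. -/
def octRep (O : Finset GolayPt) : GolayPt → ℤ := fun q => if q ∈ O then 2 else 0

/-- The vector with `-3` at the extra point and `1` elsewhere. -/
def oddRep : GolayPt → ℤ := fun q => if q = none then -3 else 1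

theorem sq_ge_16 {a : ℤ} (h4 : a % 4 = 0) (h0 : a ≠ 0) : 16 ≤ a ^ 2 := by
  have h : a ≤ -4 ∨ 4 ≤ a := by omega
  rcases h with h | h <;> nlinarith

theorem card_golayPt : (Finset.univ : Finset GolayPt).card = 24 := by decide

theorem coeq_shape1 {x : GolayPt → ℤ} (hx : x ∈ leechLattice) (hn : sqNorm x = 32)
    (h4 : ∀ i, x i % 4 = 0) : CoEq x Spor.vecU := by
  classical
  set F : Finset GolayPt := Finset.univ.filter (fun i => x i ≠ 0) with hF
  have hmemF : ∀ i, i ∈ F ↔ x i ≠ 0 := fun i => by rw [hF, Finset.mem_filter]; simp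
  have hsum : ∑ i ∈ F, x i ^ 2 = 32 := by
    rw [← hn, sqNorm, hF]
    apply Finset.sum_filter_of_ne
    intro i _ h
    exact fun h0 => h (by rw [h0]; norm_num)
  have hge : ∀ i ∈ F, 16 ≤ x i ^ 2 := fun i hi => sq_ge_16 (h4 i) ((hmemF i).mp hi)
  have hcard := Finset.card_nsmul_le_sum F (fun i => x i ^ 2) 16 hge
  rw [hsum] at hcard
  have hc2 : F.card ≤ 2 := by
    have : (F.card : ℤ) * 16 ≤ 32 := by simpa [nsmul_eq_mul] using hcard
    omega
  have hc0 : F.card ≠ 0 := by
    intro h0
    rw [Finset.card_eq_zero] at h0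
    rw [h0, Finset.sum_empty] at hsum
    norm_num at hsum
  have hc1 : F.card ≠ 1 := by
    intro h1
    obtain ⟨j, hj⟩ := Finset.card_eq_one.mp h1
    rw [hj, Finset.sum_singleton] at hsum
    have hb1 : -6 < x j := by nlinarith
    have hb2 : x j < 6 := by nlinarith
    have h4j := h4 j
    generalize x j = t at hsum hb1 hb2 h4j
    interval_cases t <;> omega
  have hc : F.card = 2 := by omega
  obtain ⟨i, j, hij, hFe⟩ := Finset.card_eq_two.mp hc
  rw [hFe, Finset.sum_pair hij] at hsum
  have hi : 16 ≤ x i ^ 2 := hge i (by rw [hFe]; simp)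
  have hj : 16 ≤ x j ^ 2 := hge j (by rw [hFe]; simp)
  have hi' : x i = 4 ∨ x i = -4 := by
    have h : (x i - 4) * (x i + 4) = 0 := by nlinarith
    rcases mul_eq_zero.mp h with h | h
    · left; omega
    · right; omega
  have hj' : x j = 4 ∨ x j = -4 := by
    have h : (x j - 4) * (x j + 4) = 0 := by nlinarith
    rcases mul_eq_zero.mp h with h | h
    · left; omega
    · right; omega
  have h0 : ∀ q, q ≠ i → q ≠ j → x q = 0 := by
    intro q hqi hqj
    by_contra hq
    have : q ∈ F := (hmemF q).mpr hq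
    rw [hFe, Finset.mem_insert, Finset.mem_singleton] at this
    tauto
  obtain ⟨c, hc, hci, hcj⟩ := exists_sign_two hij (x i = -4) (x j = -4)
  have hy : CoEq x (twoVec i j) := by
    apply coeq_sign' hx hc
    intro q
    unfold twoVec
    by_cases hqi : q = i
    · subst hqi
      by_cases hm : q ∈ c
      · rw [if_pos (Or.inl rfl), if_pos hm, hci.mp hm]; norm_num
      · rw [if_pos (Or.inl rfl), if_neg hm]
        rcases hi' with h | h
        · exact h.symm
        · exact absurd (hci.mpr h) hm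
    · by_cases hqj : q = j
      · subst hqj
        by_cases hm : q ∈ c
        · rw [if_pos (Or.inr rfl), if_pos hm, hcj.mp hm]; norm_num
        · rw [if_pos (Or.inr rfl), if_neg hm]
          rcases hj' with h | h
          · exact h.symm
          · exact absurd (hcj.mpr h) hm
      · rw [if_neg (by tauto), h0 q hqi hqj]
        split_ifs <;> rfl
  obtain ⟨σ, hσ, h1, h2⟩ := m24_trans2 hij (show (none : GolayPt) ≠ some 0 by simp)
  refine hy.trans (coeq_perm' hy.mem_right hσ ?_)
  intro q
  unfold Spor.vecU twoVec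
  by_cases hqi : q = i
  · subst hqi
    rw [h1]
    simp
  · by_cases hqj : q = j
    · subst hqj
      rw [h2]
      simp
    · have e1 : σ q ≠ none := fun h => hqi (σ.injective (h.trans h1.symm))
      have e2 : σ q ≠ some 0 := fun h => hqj (σ.injective (h.trans h2.symm))
      rw [if_neg (by tauto), if_neg (by tauto)]

theorem coeq_shape3 {x : GolayPt → ℤ} (hx : x ∈ leechLattice) (hn : sqNorm x = 32)
    {i0 : GolayPt} (h1 : x i0 % 2 = 1) : CoEq x oddRep := by
  classical
  obtain ⟨par, hpar, μ, hμ, hmod, hsum8⟩ :=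
    (mem_leechSet_struct x).mp ((mem_leechLattice_iff x).mp hx)
  have hp1 : par = 1 := by
    have := hmod i0
    rcases bitZ_cases μ i0 with ⟨-, hz⟩ | ⟨-, hz⟩ <;> rw [hz] at this <;> omega
  subst hp1
  have hc : support₂ (dec μ) ∈ gsup := ⟨dec μ, dec_mem_golay hμ, rfl⟩
  have hxy : CoEq x (signVec (support₂ (dec μ)) x) := coeq_sign hx hc
  have hyn : sqNorm (signVec (support₂ (dec μ)) x) = 32 := by rw [sqNorm_signVec, hn]
  have hy1 : ∀ i, signVec (support₂ (dec μ)) x i % 4 = 1 := by
    intro i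
    rw [signVec_apply]
    have := hmod i
    rcases bitZ_cases μ i with ⟨hb, hz⟩ | ⟨hb, hz⟩
    · rw [if_pos ((mem_supp_dec μ i).mpr hb)]
      rw [hz] at this
      push_cast at this
      omega
    · rw [if_neg (fun h => by rw [(mem_supp_dec μ i).mp h] at hb; exact absurd hb (by decide))]
      rw [hz] at this
      push_cast at this
      omega
  generalize signVec (support₂ (dec μ)) x = y at hxy hyn hy1
  set F : Finset GolayPt := Finset.univ.filter (fun i => y i ≠ 1) with hF
  have hmemF : ∀ i, i ∈ F ↔ y i ≠ 1 := fun i => by rw [hF, Finset.mem_filter]; simp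
  have hsplit : ∑ i ∈ F, y i ^ 2 + ∑ i ∈ Fᶜ, y i ^ 2 = 32 := by
    rw [Finset.sum_add_sum_compl]
    exact hyn
  have hcompl : ∑ i ∈ Fᶜ, y i ^ 2 = (Fᶜ.card : ℤ) := by
    rw [Finset.sum_congr rfl (g := fun _ => (1 : ℤ))]
    · simp
    · intro i hi
      rw [Finset.mem_compl, hmemF, not_not] at hi
      rw [hi]
      norm_num
  have hge : ∀ i ∈ F, 9 ≤ y i ^ 2 := by
    intro i hi
    have h1 := hy1 i
    have h2 := (hmemF i).mp hi
    have h : y i ≤ -3 ∨ 5 ≤ y i := by omega
    rcases h with h | h <;> nlinarith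
  have hcard := Finset.card_nsmul_le_sum F (fun i => y i ^ 2) 9 hge
  have hcc : F.card + Fᶜ.card = 24 := by
    rw [Finset.card_add_card_compl]
    exact card_golayPt
  have hcard' : (F.card : ℤ) * 9 ≤ ∑ i ∈ F, y i ^ 2 := by simpa [nsmul_eq_mul] using hcard
  have hc1 : F.card ≤ 1 := by omega
  have hc0 : F.card ≠ 0 := by
    intro h0
    have h0' : ∑ i ∈ F, y i ^ 2 = 0 := by
      rw [Finset.card_eq_zero.mp h0, Finset.sum_empty]
    omega
  have hc : F.card = 1 := by omega
  obtain ⟨j, hj⟩ := Finset.card_eq_one.mp hc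
  have hFj : ∑ i ∈ F, y i ^ 2 = y j ^ 2 := by rw [hj, Finset.sum_singleton]
  have hyj : y j = -3 := by
    have h1 := hy1 j
    have h9 : y j ^ 2 = 9 := by omega
    have hb1 : -4 < y j := by nlinarith
    have hb2 : y j < 4 := by nlinarith
    generalize y j = t at h1 hb1 hb2 h9
    interval_cases t <;> omega
  have hyo : ∀ q, q ≠ j → y q = 1 := by
    intro q hq
    by_contra h
    have : q ∈ F := (hmemF q).mpr h
    rw [hj, Finset.mem_singleton] at this
    exact hq this
  obtain ⟨σ, hσ, h1⟩ := m24_trans1 j none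
  refine hxy.trans (coeq_perm' hxy.mem_right hσ ?_)
  intro q
  unfold oddRep
  by_cases hq : q = j
  · subst hq
    rw [h1, if_pos rfl, hyj]
  · have e1 : σ q ≠ none := fun h => hq (σ.injective (h.trans h1.symm))
    rw [if_neg e1, hyo q hq]

theorem coeq_shape2 {x : GolayPt → ℤ} (hx : x ∈ leechLattice) (hn : sqNorm x = 32)
    {i0 : GolayPt} (h2 : x i0 % 4 = 2) : CoEq x (octRep O0f) := by
  classical
  obtain ⟨par, hpar, μ, hμ, hmod, hsum8⟩ :=
    (mem_leechSet_struct x).mp ((mem_leechLattice_iff x).mp hx)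
  have hp0 : par = 0 := by
    have := hmod i0
    rcases bitZ_cases μ i0 with ⟨-, hz⟩ | ⟨-, hz⟩ <;> rw [hz] at this <;> omega
  subst hp0
  have hSg : support₂ (dec μ) ∈ gsup := ⟨dec μ, dec_mem_golay hμ, rfl⟩
  have hin : ∀ i ∈ support₂ (dec μ), x i % 4 = 2 := by
    intro i hi
    have := hmod i
    rcases bitZ_cases μ i with ⟨hb, hz⟩ | ⟨hb, hz⟩
    · rw [hz] at this
      push_cast at this
      omega
    · rw [mem_supp_dec, hb] at hi
      exact absurd hi (by decide)
  have hout : ∀ i, i ∉ support₂ (dec μ) → x i % 4 = 0 := by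
    intro i hi
    have := hmod i
    rcases bitZ_cases μ i with ⟨hb, hz⟩ | ⟨hb, hz⟩
    · exact absurd ((mem_supp_dec μ i).mpr hb) hi
    · rw [hz] at this
      push_cast at this
      omega
  generalize support₂ (dec μ) = S at hSg hin hout
  have hi0 : i0 ∈ S := by
    by_contra h
    have := hout i0 h
    omega
  have hcard8 : 8 ≤ S.card := by
    have h4 := golay_doubly_even hSg
    have hne := no_weight4 hSg
    have hpos : 0 < S.card := Finset.card_pos.mpr ⟨i0, hi0⟩
    omega
  have hsplit : ∑ i ∈ S, x i ^ 2 + ∑ i ∈ Sᶜ, x i ^ 2 = 32 := by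
    rw [Finset.sum_add_sum_compl]
    exact hn
  have hge : ∀ i ∈ S, 4 ≤ x i ^ 2 := by
    intro i hi
    have := hin i hi
    have h : x i ≤ -2 ∨ 2 ≤ x i := by omega
    rcases h with h | h <;> nlinarith
  have hcardS := Finset.card_nsmul_le_sum S (fun i => x i ^ 2) 4 hge
  have hcardS' : (S.card : ℤ) * 4 ≤ ∑ i ∈ S, x i ^ 2 := by simpa [nsmul_eq_mul] using hcardS
  have hnn : 0 ≤ ∑ i ∈ Sᶜ, x i ^ 2 := Finset.sum_nonneg (fun i _ => sq_nonneg _)
  have hS8 : S.card = 8 := by omega
  have hSsum : ∑ i ∈ S, x i ^ 2 = 32 := by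
    rw [hS8] at hcardS'
    push_cast at hcardS'
    omega
  have hCsum : ∑ i ∈ Sᶜ, x i ^ 2 = 0 := by omega
  have hzero : ∀ i, i ∉ S → x i = 0 := by
    intro i hi
    have h := (Finset.sum_eq_zero_iff_of_nonneg (fun i _ => sq_nonneg (x i))).mp hCsum i
      (Finset.mem_compl.mpr hi)
    exact pow_eq_zero_iff (two_ne_zero) |>.mp h
  have hfour : ∀ i ∈ S, x i ^ 2 = 4 := by
    have h0 : ∑ i ∈ S, (x i ^ 2 - 4) = 0 := by
      rw [Finset.sum_sub_distrib, hSsum, Finset.sum_const, hS8]
      norm_num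
    intro i hi
    have := (Finset.sum_eq_zero_iff_of_nonneg (fun i hi => by have := hge i hi; omega)).mp h0 i hi
    omega
  have hpm : ∀ i ∈ S, x i = 2 ∨ x i = -2 := by
    intro i hi
    have h : (x i - 2) * (x i + 2) = 0 := by
      have := hfour i hi
      nlinarith
    rcases mul_eq_zero.mp h with h | h
    · left; omega
    · right; omega
  have hoct : S ∈ octads := ⟨hSg, hS8⟩
  have hEsub : S.filter (fun i => x i = -2) ⊆ S := Finset.filter_subset _ _
  have hEeven : ∃ n, (S.filter (fun i => x i = -2)).card = 2 * n := by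
    have hs1 : ∑ i, x i = ∑ i ∈ S, x i := by
      rw [← Finset.sum_add_sum_compl S]
      rw [Finset.sum_eq_zero (s := Sᶜ) (fun i hi => hzero i (Finset.mem_compl.mp hi)), add_zero]
    have hs2 : ∑ i ∈ S, x i = ∑ i ∈ S, (2 - 4 * (if x i = -2 then (1 : ℤ) else 0)) := by
      apply Finset.sum_congr rfl
      intro i hi
      rcases hpm i hi with h | h <;> rw [h] <;> norm_num
    have hs3 : ∑ i ∈ S, (2 - 4 * (if x i = -2 then (1 : ℤ) else 0)) =
        16 - 4 * ((S.filter (fun i => x i = -2)).card : ℤ) := by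
      rw [Finset.sum_sub_distrib, Finset.sum_const, ← Finset.mul_sum, hS8, Finset.card_filter]
      push_cast
      norm_num
    rw [hs1, hs2, hs3] at hsum8
    refine ⟨(S.filter (fun i => x i = -2)).card / 2, ?_⟩
    omega
  obtain ⟨n, hn2⟩ := hEeven
  obtain ⟨c, hc, hcE⟩ := exists_inter_eq hoct n _ hEsub hn2
  have hy : CoEq x (octRep S) := by
    apply coeq_sign' hx hc
    intro q
    unfold octRep
    by_cases hq : q ∈ S
    · rw [if_pos hq]
      have hqc : q ∈ c ↔ x q = -2 := by
        have : q ∈ c ∩ S ↔ q ∈ S.filter (fun i => x i = -2) := by rw [hcE]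
        rw [Finset.mem_inter, Finset.mem_filter] at this
        tauto
      by_cases hm : q ∈ c
      · rw [if_pos hm, hqc.mp hm]
        norm_num
      · rw [if_neg hm]
        rcases hpm q hq with h | h
        · exact h.symm
        · exact absurd (hqc.mpr h) hm
    · rw [if_neg hq, hzero q hq]
      split_ifs <;> rfl
  obtain ⟨g, hg⟩ := Cfsg.Agent.S0367.result S O0f hoct O0f_mem
  refine hy.trans (coeq_perm' hy.mem_right g.2 ?_)
  intro q
  unfold octRep
  have hiff : (g : Equiv.Perm GolayPt) q ∈ O0f ↔ q ∈ S := by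
    rw [← hg]
    exact Finset.smul_mem_smul_finset_iff g
  by_cases hq : q ∈ S
  · rw [if_pos hq, if_pos (hiff.mpr hq)]
  · rw [if_neg hq, if_neg (fun h => hq (hiff.mp h))]

/-! ### Links between the three shapes -/

/-- `4` at the points `0` and `3`. -/
def linkA (c : ℕ) : ℤ := if c = 0 ∨ c = 3 then 4 else 0

/-- `2` on an octad meeting the first tetrad in three points. -/
def linkB (c : ℕ) : ℤ := if (8391797 : ℕ).testBit c then 2 else 0

theorem linkA_mem : (fun q : GolayPt => linkA (idx q)) ∈ leechLattice :=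
  mem_LL_of (Spor.mem_leechSet_of_const_mod_four _ 0 0 (by decide) (by decide +kernel)
    (by decide +kernel))

theorem linkB_mem : (fun q : GolayPt => linkB (idx q)) ∈ leechLattice :=
  mem_LL_of (two_mask_mem (μ := 8391797) (mem_sums_of_inCode (by decide +kernel)))

theorem linkA_norm : sqNorm (fun q : GolayPt => linkA (idx q)) = 32 := by decide +kernel

theorem linkB_norm : sqNorm (fun q : GolayPt => linkB (idx q)) = 32 := by decide +kernel

theorem link12 : CoEq Spor.vecU (octRep O0f) := by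
  have h1 : CoEq (fun q : GolayPt => linkA (idx q)) Spor.vecU :=
    coeq_shape1 linkA_mem linkA_norm (by decide +kernel)
  have h2 := coeq_xi linkA_mem
  have h3 : CoEq (xiVec (fun q : GolayPt => linkA (idx q))) (octRep O0f) := by
    apply coeq_shape2 h2.mem_right (by rw [h2.norm, linkA_norm]) (i0 := some 0)
    rw [xiVec_idx]
    decide +kernel
  exact h1.symm.trans (h2.trans h3)

theorem link23 : CoEq (octRep O0f) oddRep := by
  have h1 : CoEq (fun q : GolayPt => linkB (idx q)) (octRep O0f) :=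
    coeq_shape2 linkB_mem linkB_norm (i0 := some 0) (by decide +kernel)
  have h2 := coeq_xi linkB_mem
  have h3 : CoEq (xiVec (fun q : GolayPt => linkB (idx q))) oddRep := by
    apply coeq_shape3 h2.mem_right (by rw [h2.norm, linkB_norm]) (i0 := some 0)
    rw [xiVec_idx]
    decide +kernel
  exact h1.symm.trans (h2.trans h3)

/-- Every lattice vector of squared length 32 is in the orbit of `(4, 4, 0, …)`. -/
theorem coeq_norm32 {x : GolayPt → ℤ} (hx : x ∈ leechLattice) (hn : sqNorm x = 32) :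
    CoEq x Spor.vecU := by
  by_cases hodd : x none % 2 = 1
  · exact (coeq_shape3 hx hn hodd).trans (link12.trans link23).symm
  · by_cases h2 : ∃ i, x i % 4 = 2
    · obtain ⟨i0, hi0⟩ := h2
      exact (coeq_shape2 hx hn hi0).trans link12.symm
    · apply coeq_shape1 hx hn
      intro i
      obtain ⟨par, hpar, μ, hμ, hmod, -⟩ :=
        (mem_leechSet_struct x).mp ((mem_leechLattice_iff x).mp hx)
      have hp0 : par = 0 := by
        have := hmod none
        rcases bitZ_cases μ none with ⟨-, hz⟩ | ⟨-, hz⟩ <;> rw [hz] at this <;> omega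
      subst hp0
      have h3 : x i % 4 ≠ 2 := fun h => h2 ⟨i, h⟩
      have := hmod i
      rcases bitZ_cases μ i with ⟨-, hz⟩ | ⟨-, hz⟩ <;> rw [hz] at this <;> omega

theorem trans_norm32 (v w : leechLattice) (hv : sqNorm (v : GolayPt → ℤ) = 32)
    (hw : sqNorm (w : GolayPt → ℤ) = 32) : ∃ g : Co0, g • v = w :=
  (coeq_iff v w).mp ((coeq_norm32 v.2 hv).trans (coeq_norm32 w.2 hw).symm)

end Cfsg.Agent.Lib.Helper10
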