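import Mathlib
import Cfsg.Prelude.Def_Sporadic_a
import Cfsg.Prelude.Def_Spor_Conway
import Cfsg.Agent.Lib.Helper10.Lambda2
import Cfsg.Agent.Lib.Helper36.M24OctSplit
import Cfsg.Agent.Lib.Helper36.M24Dod

set_option autoImplicit false

namespace Cfsg.Agent.Lib.Helper10

open Cfsg Cfsg.Agent.Lib.Helper9
open scoped Pointwise

/-! ### Structure of even and odd lattice vectors -/

theorem smul_mem_gsup {σ : Equiv.Perm GolayPt} (hσ : σ ∈ M24) {c : Finset GolayPt}
    (hc : c ∈ gsup) : σ • c ∈ gsup := by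
  obtain ⟨w, hw, rfl⟩ := hc
  exact ⟨w ∘ ⇑σ⁻¹, comp_mem_of_mem_M24 (M24.inv_mem hσ) hw, (smul_support₂ σ w).symm⟩

theorem even_struct {x : GolayPt → ℤ} (hx : x ∈ leechLattice) {i0 : GolayPt}
    (h2 : x i0 % 4 = 2) :
    ∃ S ∈ gsup, i0 ∈ S ∧ 8 ≤ S.card ∧ (∀ i ∈ S, x i % 4 = 2) ∧ (∀ i, i ∉ S → x i % 4 = 0) ∧
      (∑ i, x i) % 8 = 0 := by
  obtain ⟨par, hpar, μ, hμ, hmod, hsum8⟩ :=
    (mem_leechSet_struct x).mp ((mem_leechLattice_iff x).mp hx)
  have hp0 : par = 0 := by
    have := hmod i0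
    rcases bitZ_cases μ i0 with ⟨-, hz⟩ | ⟨-, hz⟩ <;> rw [hz] at this <;> omega
  subst hp0
  have hSg : support₂ (dec μ) ∈ gsup := ⟨dec μ, dec_mem_golay hμ, rfl⟩
  have hin : ∀ i ∈ support₂ (dec μ), x i % 4 = 2 := by
    intro i hi
    have := hmod i
    rcases bitZ_cases μ i with ⟨hb, hz⟩ | ⟨hb, hz⟩
    · rw [hz] at this
      push_cast at this
      omega
    · rw [mem_supp_dec, hb] at hi
      exact absurd hi (by decide)
  have hout : ∀ i, i ∉ support₂ (dec μ) → x i % 4 = 0 := by
    intro i hi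
    have := hmod i
    rcases bitZ_cases μ i with ⟨hb, hz⟩ | ⟨hb, hz⟩
    · exact absurd ((mem_supp_dec μ i).mpr hb) hi
    · rw [hz] at this
      push_cast at this
      omega
  have hi0 : i0 ∈ support₂ (dec μ) := by
    by_contra h
    have := hout i0 h
    omega
  have hcard8 : 8 ≤ (support₂ (dec μ)).card := by
    have h4 := golay_doubly_even hSg
    have hne := no_weight4 hSg
    have hpos : 0 < (support₂ (dec μ)).card := Finset.card_pos.mpr ⟨i0, hi0⟩
    omega
  exact ⟨_, hSg, hi0, hcard8, hin, hout, by simpa using hsum8⟩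

theorem odd_struct {x : GolayPt → ℤ} (hx : x ∈ leechLattice) {i0 : GolayPt}
    (h1 : x i0 % 2 = 1) :
    ∃ y, CoEq x y ∧ (∀ i, y i % 4 = 1) ∧ (∀ i, y i ^ 2 = x i ^ 2) := by
  obtain ⟨par, hpar, μ, hμ, hmod, hsum8⟩ :=
    (mem_leechSet_struct x).mp ((mem_leechLattice_iff x).mp hx)
  have hp1 : par = 1 := by
    have := hmod i0
    rcases bitZ_cases μ i0 with ⟨-, hz⟩ | ⟨-, hz⟩ <;> rw [hz] at this <;> omega
  subst hp1
  have hc : support₂ (dec μ) ∈ gsup := ⟨dec μ, dec_mem_golay hμ, rfl⟩
  refine ⟨signVec (support₂ (dec μ)) x, coeq_sign hx hc, fun i => ?_, fun i => ?_⟩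
  · rw [signVec_apply]
    have := hmod i
    rcases bitZ_cases μ i with ⟨hb, hz⟩ | ⟨hb, hz⟩
    · rw [if_pos ((mem_supp_dec μ i).mpr hb)]
      rw [hz] at this
      push_cast at this
      omega
    · rw [if_neg (fun h => by rw [(mem_supp_dec μ i).mp h] at hb; exact absurd hb (by decide))]
      rw [hz] at this
      push_cast at this
      omega
  · rw [signVec_apply]
    split_ifs <;> ring

theorem zero_struct {x : GolayPt → ℤ} (hx : x ∈ leechLattice) (h : ∀ i, x i % 4 = 0) :
    (∑ i, x i) % 8 = 0 := by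
  obtain ⟨par, hpar, μ, hμ, hmod, hsum8⟩ :=
    (mem_leechSet_struct x).mp ((mem_leechLattice_iff x).mp hx)
  have hp0 : par = 0 := by
    have := hmod none
    have h0 := h none
    rcases bitZ_cases μ none with ⟨-, hz⟩ | ⟨-, hz⟩ <;> rw [hz] at this <;> omega
  subst hp0
  simpa using hsum8

/-- Sign changes on a set whose pairs are cut out by code words. -/
theorem coeq_two_of_pairs {D : Finset GolayPt}
    (hpair : ∀ a ∈ D, ∀ b ∈ D, a ≠ b → ∃ c ∈ gsup, c ∩ D = {a, b})
    {x : GolayPt → ℤ} (hx : x ∈ leechLattice) (hD : ∀ i ∈ D, x i = 2 ∨ x i = -2)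
    (h0 : ∀ i, i ∉ D → x i = 0) {n : ℕ} (hE : (D.filter (fun i => x i = -2)).card = 2 * n) :
    CoEq x (octRep D) := by
  obtain ⟨c, hc, hcE⟩ := exists_inter_eq_of_pairs hpair n _ (Finset.filter_subset _ _) hE
  apply coeq_sign' hx hc
  intro q
  unfold octRep
  by_cases hq : q ∈ D
  · rw [if_pos hq]
    have hqc : q ∈ c ↔ x q = -2 := by
      have : q ∈ c ∩ D ↔ q ∈ D.filter (fun i => x i = -2) := by rw [hcE]
      rw [Finset.mem_inter, Finset.mem_filter] at this
      tauto
    by_cases hm : q ∈ c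
    · rw [if_pos hm, hqc.mp hm]
      norm_num
    · rw [if_neg hm]
      rcases hD q hq with h | h
      · exact h.symm
      · exact absurd (hqc.mpr h) hm
  · rw [if_neg hq, h0 q hq]
    split_ifs <;> rfl

theorem exists_inter_eq_pt {O : Finset GolayPt} (hO : O ∈ octads) {j : GolayPt} (hj : j ∉ O)
    (n : ℕ) (E : Finset GolayPt) (hE : E ⊆ O) (hn : E.card = 2 * n) (b : Prop) :
    ∃ c ∈ gsup, c ∩ O = E ∧ (j ∈ c ↔ b) := by
  obtain ⟨c1, hc1, h1⟩ := exists_inter_eq hO n E hE hn
  by_cases h : (j ∈ c1 ↔ b)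
  · exact ⟨c1, hc1, h1, h⟩
  · refine ⟨symmDiff c1 Oᶜ, symmDiff_mem_gsup hc1 (compl_mem_gsup hO.1), ?_, ?_⟩
    · ext z
      rw [← h1, Finset.mem_inter, Finset.mem_inter, Finset.mem_symmDiff, Finset.mem_compl]
      tauto
    · rw [Finset.mem_symmDiff, Finset.mem_compl]
      tauto

/-! ### Transitivity on an octad with a point inside and a point outside -/

theorem oct_trans_pt {o : Finset GolayPt} (ho : o ∈ octads) {a a' j j' : GolayPt} (ha : a ∈ o)
    (ha' : a' ∈ o) (hj : j ∉ o) (hj' : j' ∉ o) :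
    ∃ σ ∈ M24, σ • o = o ∧ σ a = a' ∧ σ j = j' := by
  classical
  have h1 : ∃ g ∈ Cfsg.Agent.Lib.Helper36.stabIn o, g a = a' := by
    by_cases haa : a = a'
    · exact ⟨1, Subgroup.one_mem _, haa⟩
    · have hcard : 2 < o.card := by
        rw [ho.2]
        norm_num
      obtain ⟨b, hb, hba, hba'⟩ : ∃ b ∈ o, b ≠ a ∧ b ≠ a' := by
        by_contra hcon
        have hsub : o ⊆ {a, a'} := fun b hb => by
          rw [Finset.mem_insert, Finset.mem_singleton]
          by_cases h : b = a
          · exact Or.inl h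
          · by_cases h' : b = a'
            · exact Or.inr h'
            · exact absurd ⟨b, hb, h, h'⟩ hcon
        have h3 := Finset.card_le_card hsub
        have h2 : ({a, a'} : Finset GolayPt).card ≤ 2 := Finset.card_le_two
        omega
      have hAA' : (⟨a, ha⟩ : ↥o) ≠ ⟨a', ha'⟩ := fun h => haa (congrArg Subtype.val h)
      have hA'B : (⟨a', ha'⟩ : ↥o) ≠ ⟨b, hb⟩ := fun h => hba' (congrArg Subtype.val h).symm
      have hAB : (⟨a, ha⟩ : ↥o) ≠ ⟨b, hb⟩ := fun h => hba (congrArg Subtype.val h).symm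
      have he : Equiv.swap (⟨a, ha⟩ : ↥o) ⟨a', ha'⟩ * Equiv.swap (⟨a', ha'⟩ : ↥o) ⟨b, hb⟩ ∈
          alternatingGroup ↥o := by
        rw [Equiv.Perm.mem_alternatingGroup, Equiv.Perm.sign_mul, Equiv.Perm.sign_swap hAA',
          Equiv.Perm.sign_swap hA'B]
        rfl
      rw [← Cfsg.Agent.Lib.Helper36.range_octRes ho] at he
      obtain ⟨g, hg⟩ := he
      refine ⟨g.1, g.2, ?_⟩
      have h3 := congrArg (fun e : Equiv.Perm ↥o => ((e ⟨a, ha⟩ : ↥o) : GolayPt)) hg
      simp only [Cfsg.Agent.Lib.Helper36.octRes_apply] at h3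
      rw [h3, Equiv.Perm.mul_apply, Equiv.swap_apply_of_ne_of_ne hAA' hAB, Equiv.swap_apply_left]
  obtain ⟨g, hg, hga⟩ := h1
  obtain ⟨k, hk, hkj⟩ := Cfsg.Agent.Lib.Helper36.fix_trans ho
    (Cfsg.Agent.Lib.Helper36.fix_not_mem hg hj) hj'
  have hgs := Cfsg.Agent.Lib.Helper36.mem_stabIn.mp hg
  have hks := Cfsg.Agent.Lib.Helper36.mem_stabIn.mp (Cfsg.Agent.Lib.Helper36.fix_le_stabIn o hk)
  refine ⟨k * g, M24.mul_mem hks.1 hgs.1, ?_, ?_, ?_⟩
  · rw [mul_smul, hgs.2, hks.2]
  · rw [Equiv.Perm.mul_apply, hga]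
    exact (mem_fixingSubgroup_iff _).mp hk.2 a' (Finset.mem_coe.mpr ha')
  · rw [Equiv.Perm.mul_apply]
    exact hkj

/-! ### Pairs of points of a dodecad -/

/-- Code words cutting out the pairs of points of the standard dodecad. -/
def pairTab : List (ℕ × ℕ × ℕ) :=
  [(0, 1, 3719203), (0, 2, 689317), (0, 3, 4900873), (0, 4, 1100945), (0, 6, 6326497), (0, 8, 5390753), (0, 9, 5770785), (0, 12, 6837377), (0, 13, 3811457), (0, 16, 2313249), (0, 18, 7767041), (1, 2, 3294342), (1, 3, 7473194), (1, 4, 2624690), (1, 6, 5785794), (1, 8, 6979970), (1, 9, 6344194), (1, 12, 5280930), (1, 13, 190626), (1, 16, 1805314), (1, 18, 5129250), (2, 3, 4213932), (2, 4, 1722420), (2, 6, 6949956), (2, 8, 5817604), (2, 9, 5409412), (2, 12, 6475812), (2, 13, 3189796), (2, 16, 2738308), (2, 18, 8126628), (3, 4, 5899416), (3, 6, 2769128), (3, 8, 1608104), (3, 9, 1230376), (3, 12, 2268296), (3, 13, 7397512), (3, 16, 6915112), (3, 18, 3951624), (4, 6, 7357552), (4, 8, 4361520), (4, 9, 4768432), (4, 12,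 7903248), (4, 13, 2810896), (4, 16, 3375280), (4, 18, 6703248), (6, 8, 3328320), (6, 9, 3704512), (6, 12, 580704), (6, 13, 5939296), (6, 16, 4441280), (6, 18, 1445088), (8, 9, 675712), (8, 12, 3806496), (8, 13, 6842656), (8, 16, 7409024), (8, 18, 2409888), (9, 12, 3168928), (9, 13, 6432416), (9, 16, 8077824), (9, 18, 3050016), (12, 13, 5405696), (12, 16, 4921504), (12, 18, 2019456), (13, 16, 1664160), (13, 18, 5024896), (16, 18, 5621792)]

theorem pairTab_chk : ∀ i < 24, ∀ j < 24, (340831 : ℕ).testBit i = true →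
    (340831 : ℕ).testBit j = true → i < j →
    pairTab.any (fun t => inCode t.2.2 && (t.2.2 &&& 340831 == 2 ^ i ||| 2 ^ j)) = true := by
  decide +kernel

theorem pairTab_ok (i : ℕ) (hi : i < 24) (j : ℕ) (hj : j < 24)
    (h1 : (340831 : ℕ).testBit i = true) (h2 : (340831 : ℕ).testBit j = true) (hij : i < j) :
    ∃ t ∈ pairTab, inCode t.2.2 = true ∧ t.2.2 &&& 340831 = 2 ^ i ||| 2 ^ j := by
  have h := pairTab_chk i hi j hj h1 h2 hij
  rw [List.any_eq_true] at h
  obtain ⟨t, ht, h3⟩ := h
  rw [Bool.and_eq_true, beq_iff_eq] at h3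
  exact ⟨t, ht, h3.1, h3.2⟩

theorem ms_two_pow_or (a b : GolayPt) :
    Cfsg.Agent.Lib.Helper36.ms (2 ^ idx a ||| 2 ^ idx b) = {a, b} := by
  ext z
  rw [Cfsg.Agent.Lib.Helper36.mem_ms, Nat.testBit_lor, Nat.testBit_two_pow, Nat.testBit_two_pow,
    Finset.mem_insert, Finset.mem_singleton]
  simp only [Bool.or_eq_true, decide_eq_true_eq]
  constructor
  · rintro (h | h)
    · exact Or.inl (idx_injective h.symm)
    · exact Or.inr (idx_injective h.symm)
  · rintro (rfl | rfl)
    · exact Or.inl rfl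
    · exact Or.inr rfl

theorem d0_pairs_lt {a b : GolayPt} (ha : a ∈ Cfsg.Agent.Lib.Helper36.d0)
    (hb : b ∈ Cfsg.Agent.Lib.Helper36.d0) (hab : idx a < idx b) :
    ∃ c ∈ gsup, c ∩ Cfsg.Agent.Lib.Helper36.d0 = {a, b} := by
  obtain ⟨t, -, h3, h4⟩ := pairTab_ok (idx a) (idx_lt a) (idx b) (idx_lt b)
    ((Cfsg.Agent.Lib.Helper36.mem_ms _ _).mp ha) ((Cfsg.Agent.Lib.Helper36.mem_ms _ _).mp hb) hab
  refine ⟨Cfsg.Agent.Lib.Helper36.ms t.2.2, ⟨dec t.2.2, dec_mem_golay (mem_sums_of_inCode h3), rfl⟩,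
    ?_⟩
  rw [Cfsg.Agent.Lib.Helper36.d0, ← Cfsg.Agent.Lib.Helper36.ms_and, h4, ms_two_pow_or]

theorem d0_pairs : ∀ a ∈ Cfsg.Agent.Lib.Helper36.d0, ∀ b ∈ Cfsg.Agent.Lib.Helper36.d0, a ≠ b →
    ∃ c ∈ gsup, c ∩ Cfsg.Agent.Lib.Helper36.d0 = {a, b} := by
  intro a ha b hb hab
  rcases Nat.lt_or_gt_of_ne (fun h => hab (idx_injective h)) with h | h
  · exact d0_pairs_lt ha hb h
  · obtain ⟨c, hc, hcd⟩ := d0_pairs_lt hb ha h
    exact ⟨c, hc, by rw [hcd, Finset.pair_comm]⟩

theorem dod_pairs {D : Finset GolayPt} (hD : D ∈ dodecads) :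
    ∀ a ∈ D, ∀ b ∈ D, a ≠ b → ∃ c ∈ gsup, c ∩ D = {a, b} := by
  obtain ⟨σ, hσ, rfl⟩ := Cfsg.Agent.Lib.Helper36.exists_smul_d0 hD
  intro a ha b hb hab
  have ha' : σ⁻¹ • a ∈ Cfsg.Agent.Lib.Helper36.d0 := Finset.inv_smul_mem_iff.mpr ha
  have hb' : σ⁻¹ • b ∈ Cfsg.Agent.Lib.Helper36.d0 := Finset.inv_smul_mem_iff.mpr hb
  have hab' : σ⁻¹ • a ≠ σ⁻¹ • b := fun h => hab (MulAction.injective σ⁻¹ h)
  obtain ⟨c, hc, hcd⟩ := d0_pairs _ ha' _ hb' hab'
  refine ⟨σ • c, smul_mem_gsup hσ hc, ?_⟩
  rw [← Finset.smul_finset_inter, hcd, Finset.smul_finset_insert, Finset.smul_finset_singleton,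
    smul_inv_smul, smul_inv_smul]

/-! ### The vectors of squared length 48 -/

/-- `-2` at `a`, `2` on the rest of `S`, `4` at `j`. -/
def shapeB (S : Finset GolayPt) (a j : GolayPt) : GolayPt → ℤ :=
  fun q => if q = a then -2 else if q ∈ S then 2 else if q = j then 4 else 0

/-- `-3` at three points, `1` elsewhere. -/
def repC : GolayPt → ℤ := fun q => if q = none ∨ q = some 0 ∨ q = some 1 then -3 else 1

/-- `5` at the extra point, `1` elsewhere. -/
def repD : GolayPt → ℤ := fun q => if q = none then 5 else 1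

theorem odd48 {x : GolayPt → ℤ} (hx : x ∈ leechLattice) (hn : sqNorm x = 48) {i0 : GolayPt}
    (h1 : x i0 % 2 = 1) :
    (CoEq x repC ∧ ∀ p, x p ^ 2 ≠ 25) ∨ (CoEq x repD ∧ ∀ p, x p ^ 2 ≠ 9) := by
  classical
  obtain ⟨y, hxy, hy1, hsq⟩ := odd_struct hx h1
  have hyn : sqNorm y = 48 := by rw [hxy.norm, hn]
  simp only [← hsq]
  set F : Finset GolayPt := Finset.univ.filter (fun i => y i ≠ 1) with hF
  have hmemF : ∀ i, i ∈ F ↔ y i ≠ 1 := fun i => by rw [hF, Finset.mem_filter]; simp
  have hsplit : ∑ i ∈ F, y i ^ 2 + ∑ i ∈ Fᶜ, y i ^ 2 = 48 := by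
    rw [Finset.sum_add_sum_compl]
    exact hyn
  have hcompl : ∑ i ∈ Fᶜ, y i ^ 2 = (Fᶜ.card : ℤ) := by
    rw [Finset.sum_congr rfl (g := fun _ => (1 : ℤ))]
    · simp
    · intro i hi
      rw [Finset.mem_compl, hmemF, not_not] at hi
      rw [hi]
      norm_num
  have hge : ∀ i ∈ F, 9 ≤ y i ^ 2 := by
    intro i hi
    have h1 := hy1 i
    have h2 := (hmemF i).mp hi
    have h : y i ≤ -3 ∨ 5 ≤ y i := by omega
    rcases h with h | h <;> nlinarith
  have hval : ∀ i ∈ F, y i = -3 ∨ 25 ≤ y i ^ 2 := by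
    intro i hi
    have h1 := hy1 i
    have h2 := (hmemF i).mp hi
    by_cases h3 : y i = -3
    · exact Or.inl h3
    · right
      have h : y i ≤ -7 ∨ 5 ≤ y i := by omega
      rcases h with h | h <;> nlinarith
  have hcard := Finset.card_nsmul_le_sum F (fun i => y i ^ 2) 9 hge
  have hcc : F.card + Fᶜ.card = 24 := by
    rw [Finset.card_add_card_compl]
    exact card_golayPt
  have hcard' : (F.card : ℤ) * 9 ≤ ∑ i ∈ F, y i ^ 2 := by simpa [nsmul_eq_mul] using hcard
  have hyo : ∀ q, q ∉ F → y q = 1 := by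
    intro q hq
    by_contra h
    exact hq ((hmemF q).mpr h)
  have hcases : F.card = 0 ∨ F.card = 1 ∨ F.card = 2 ∨ F.card = 3 := by omega
  rcases hcases with h0 | h1 | h2 | h3
  · exfalso
    have : ∑ i ∈ F, y i ^ 2 = 0 := by rw [Finset.card_eq_zero.mp h0, Finset.sum_empty]
    omega
  · obtain ⟨j, hj⟩ := Finset.card_eq_one.mp h1
    have hFj : ∑ i ∈ F, y i ^ 2 = y j ^ 2 := by rw [hj, Finset.sum_singleton]
    have h25 : y j ^ 2 = 25 := by omega
    have hyj : y j = 5 := by
      have h1 := hy1 j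
      have hb1 : -6 < y j := by nlinarith
      have hb2 : y j < 6 := by nlinarith
      generalize y j = t at h1 hb1 hb2 h25
      interval_cases t <;> omega
    right
    refine ⟨?_, ?_⟩
    · obtain ⟨σ, hσ, h1⟩ := m24_trans1 j none
      refine hxy.trans (coeq_perm' hxy.mem_right hσ ?_)
      intro q
      unfold repD
      by_cases hq : q = j
      · subst hq
        rw [h1, if_pos rfl, hyj]
      · have e1 : σ q ≠ none := fun h => hq (σ.injective (h.trans h1.symm))
        rw [if_neg e1, hyo q (by rw [hj, Finset.mem_singleton]; exact hq)]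
    · intro p
      by_cases hp : p = j
      · rw [hp, h25]
        norm_num
      · rw [hyo p (by rw [hj, Finset.mem_singleton]; exact hp)]
        norm_num
  · exfalso
    obtain ⟨i, j, hij, hFe⟩ := Finset.card_eq_two.mp h2
    have hFs : ∑ q ∈ F, y q ^ 2 = y i ^ 2 + y j ^ 2 := by rw [hFe, Finset.sum_pair hij]
    have hi := hval i (by rw [hFe]; simp)
    have hj := hval j (by rw [hFe]; simp)
    have hgi := hge i (by rw [hFe]; simp)
    have hgj := hge j (by rw [hFe]; simp)
    rcases hi with hi | hi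
    · rcases hj with hj | hj
      · rw [hi, hj] at hFs
        norm_num at hFs
        omega
      · omega
    · omega
  · obtain ⟨i, j, k, hij, hik, hjk, hFe⟩ := Finset.card_eq_three.mp h3
    have hFs : ∑ q ∈ F, y q ^ 2 = y i ^ 2 + (y j ^ 2 + y k ^ 2) := by
      rw [hFe, Finset.sum_insert (by simp [hij, hik]), Finset.sum_pair hjk]
    have hi := hval i (by rw [hFe]; simp)
    have hj := hval j (by rw [hFe]; simp)
    have hk := hval k (by rw [hFe]; simp)
    have hgi := hge i (by rw [hFe]; simp)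
    have hgj := hge j (by rw [hFe]; simp)
    have hgk := hge k (by rw [hFe]; simp)
    have hyi : y i = -3 := by
      rcases hi with hi | hi
      · exact hi
      · omega
    have hyj : y j = -3 := by
      rcases hj with hj | hj
      · exact hj
      · omega
    have hyk : y k = -3 := by
      rcases hk with hk | hk
      · exact hk
      · omega
    have hyo' : ∀ q, q ≠ i → q ≠ j → q ≠ k → y q = 1 := by
      intro q h1 h2 h3
      apply hyo
      rw [hFe, Finset.mem_insert, Finset.mem_insert, Finset.mem_singleton]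
      tauto
    left
    refine ⟨?_, ?_⟩
    · obtain ⟨σ, hσ, h1, h2, h3⟩ := m24_trans3 hij hik hjk (q := none) (q' := some 0)
        (q'' := some 1) (by decide) (by decide) (by decide)
      refine hxy.trans (coeq_perm' hxy.mem_right hσ ?_)
      intro q
      unfold repC
      by_cases hqi : q = i
      · subst hqi
        rw [h1, if_pos (Or.inl rfl), hyi]
      · by_cases hqj : q = j
        · subst hqj
          rw [h2, if_pos (Or.inr (Or.inl rfl)), hyj]
        · by_cases hqk : q = k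
          · subst hqk
            rw [h3, if_pos (Or.inr (Or.inr rfl)), hyk]
          · have e1 : σ q ≠ none := fun h => hqi (σ.injective (h.trans h1.symm))
            have e2 : σ q ≠ some 0 := fun h => hqj (σ.injective (h.trans h2.symm))
            have e3 : σ q ≠ some 1 := fun h => hqk (σ.injective (h.trans h3.symm))
            rw [if_neg (by tauto), hyo' q hqi hqj hqk]
    · intro p
      by_cases hpi : p = i
      · rw [hpi, hyi]
        norm_num
      · by_cases hpj : p = j
        · rw [hpj, hyj]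
          norm_num
        · by_cases hpk : p = k
          · rw [hpk, hyk]
            norm_num
          · rw [hyo' p hpi hpj hpk]
            norm_num

theorem even48 {x : GolayPt → ℤ} (hx : x ∈ leechLattice) (hn : sqNorm x = 48) {i0 : GolayPt}
    (h2 : x i0 % 4 = 2) :
    (CoEq x (octRep Cfsg.Agent.Lib.Helper36.d0) ∧ ∀ p, x p ^ 2 ≠ 16) ∨
      (CoEq x (shapeB O0f none (some 4)) ∧ ∃ p, x p ^ 2 = 16) := by
  classical
  obtain ⟨S, hSg, hi0, hcard8, hin, hout, hsum8⟩ := even_struct hx h2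
  have hsplit : ∑ i ∈ S, x i ^ 2 + ∑ i ∈ Sᶜ, x i ^ 2 = 48 := by
    rw [Finset.sum_add_sum_compl]
    exact hn
  have hge : ∀ i ∈ S, 4 ≤ x i ^ 2 := by
    intro i hi
    have := hin i hi
    have h : x i ≤ -2 ∨ 2 ≤ x i := by omega
    rcases h with h | h <;> nlinarith
  have hcardS := Finset.card_nsmul_le_sum S (fun i => x i ^ 2) 4 hge
  have hcardS' : (S.card : ℤ) * 4 ≤ ∑ i ∈ S, x i ^ 2 := by simpa [nsmul_eq_mul] using hcardS
  have hnn : 0 ≤ ∑ i ∈ Sᶜ, x i ^ 2 := Finset.sum_nonneg (fun i _ => sq_nonneg _)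
  have h4 := golay_doubly_even hSg
  have hcases : S.card = 8 ∨ S.card = 12 := by omega
  have hs2 : ∀ (hpm : ∀ i ∈ S, x i = 2 ∨ x i = -2),
      ∑ i ∈ S, x i = 2 * (S.card : ℤ) - 4 * ((S.filter (fun i => x i = -2)).card : ℤ) := by
    intro hpm
    have e : ∑ i ∈ S, x i = ∑ i ∈ S, (2 - 4 * (if x i = -2 then (1 : ℤ) else 0)) := by
      apply Finset.sum_congr rfl
      intro i hi
      rcases hpm i hi with h | h <;> rw [h] <;> norm_num
    rw [e, Finset.sum_sub_distrib, Finset.sum_const, ← Finset.mul_sum, Finset.card_filter]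
    push_cast
    rw [nsmul_eq_mul]
    ring
  rcases hcases with hS8 | hS12
  · right
    have hT : ∑ i ∈ S, (x i ^ 2 - 4) = ∑ i ∈ S, x i ^ 2 - 32 := by
      rw [Finset.sum_sub_distrib, Finset.sum_const, hS8]
      norm_num
    have hdvd : (32 : ℤ) ∣ ∑ i ∈ S, (x i ^ 2 - 4) := by
      apply Finset.dvd_sum
      intro i hi
      have := hin i hi
      have h : x i % 8 = 2 ∨ x i % 8 = 6 := by omega
      rcases h with h | h
      · obtain ⟨m, hm⟩ : ∃ m, x i = 8 * m + 2 := ⟨x i / 8, by omega⟩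
        exact ⟨2 * m ^ 2 + m, by rw [hm]; ring⟩
      · obtain ⟨m, hm⟩ : ∃ m, x i = 8 * m + 6 := ⟨x i / 8, by omega⟩
        exact ⟨2 * m ^ 2 + 3 * m + 1, by rw [hm]; ring⟩
    have hSsum : ∑ i ∈ S, x i ^ 2 = 32 := by
      obtain ⟨k, hk⟩ := hdvd
      rw [hT] at hk
      rw [hS8] at hcardS'
      push_cast at hcardS'
      omega
    have hCsum : ∑ i ∈ Sᶜ, x i ^ 2 = 16 := by omega
    have hfour : ∀ i ∈ S, x i ^ 2 = 4 := by
      have h0 : ∑ i ∈ S, (x i ^ 2 - 4) = 0 := by rw [hT, hSsum]; norm_num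
      intro i hi
      have := (Finset.sum_eq_zero_iff_of_nonneg (fun i hi => by have := hge i hi; omega)).mp h0 i hi
      omega
    have hpm : ∀ i ∈ S, x i = 2 ∨ x i = -2 := by
      intro i hi
      have h : (x i - 2) * (x i + 2) = 0 := by
        have := hfour i hi
        nlinarith
      rcases mul_eq_zero.mp h with h | h
      · left; omega
      · right; omega
    have hGsum : ∑ i ∈ Sᶜ.filter (fun i => x i ≠ 0), x i ^ 2 = 16 := by
      rw [← hCsum]
      apply Finset.sum_filter_of_ne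
      intro i _ h
      exact fun h0 => h (by rw [h0]; norm_num)
    have hGge : ∀ i ∈ Sᶜ.filter (fun i => x i ≠ 0), 16 ≤ x i ^ 2 := by
      intro i hi
      rw [Finset.mem_filter, Finset.mem_compl] at hi
      exact sq_ge_16 (hout i hi.1) hi.2
    have hGcard := Finset.card_nsmul_le_sum _ (fun i => x i ^ 2) 16 hGge
    have hGcard' : ((Sᶜ.filter (fun i => x i ≠ 0)).card : ℤ) * 16 ≤
        ∑ i ∈ Sᶜ.filter (fun i => x i ≠ 0), x i ^ 2 := by simpa [nsmul_eq_mul] using hGcard
    have hG1 : (Sᶜ.filter (fun i => x i ≠ 0)).card = 1 := by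
      have h0 : (Sᶜ.filter (fun i => x i ≠ 0)).card ≠ 0 := by
        intro h0
        have : ∑ i ∈ Sᶜ.filter (fun i => x i ≠ 0), x i ^ 2 = 0 := by
          rw [Finset.card_eq_zero.mp h0, Finset.sum_empty]
        omega
      omega
    obtain ⟨j, hj⟩ := Finset.card_eq_one.mp hG1
    have hjmem : j ∈ Sᶜ.filter (fun i => x i ≠ 0) := by
      rw [hj]
      exact Finset.mem_singleton_self j
    have hjS : j ∉ S := by
      rw [Finset.mem_filter, Finset.mem_compl] at hjmem
      exact hjmem.1
    have hxj16 : x j ^ 2 = 16 := by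
      have : ∑ i ∈ Sᶜ.filter (fun i => x i ≠ 0), x i ^ 2 = x j ^ 2 := by
        rw [hj, Finset.sum_singleton]
      omega
    have hxj : x j = 4 ∨ x j = -4 := by
      have h : (x j - 4) * (x j + 4) = 0 := by nlinarith
      rcases mul_eq_zero.mp h with h | h
      · left; omega
      · right; omega
    have hzero : ∀ i, i ∉ S → i ≠ j → x i = 0 := by
      intro i hi hij
      by_contra h
      have : i ∈ Sᶜ.filter (fun i => x i ≠ 0) := by
        rw [Finset.mem_filter, Finset.mem_compl]
        exact ⟨hi, h⟩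
      rw [hj, Finset.mem_singleton] at this
      exact hij this
    have hoct : S ∈ octads := ⟨hSg, hS8⟩
    have hEodd : ∃ n, (S.filter (fun i => x i = -2)).card = 2 * n + 1 := by
      have hs1 : ∑ i, x i = ∑ i ∈ S, x i + x j := by
        rw [← Finset.sum_add_sum_compl S]
        congr 1
        rw [Finset.sum_eq_single j]
        · intro b hb hbj
          exact hzero b (Finset.mem_compl.mp hb) hbj
        · intro h
          exact absurd (Finset.mem_compl.mpr hjS) h
      rw [hs1, hs2 hpm, hS8] at hsum8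
      refine ⟨(S.filter (fun i => x i = -2)).card / 2, ?_⟩
      rcases hxj with h | h <;> rw [h] at hsum8 <;> omega
    obtain ⟨n, hn2⟩ := hEodd
    have hEne : (S.filter (fun i => x i = -2)).Nonempty := Finset.card_pos.mp (by omega)
    obtain ⟨a, haE⟩ := hEne
    have haS : a ∈ S := (Finset.mem_filter.mp haE).1
    have hxa : x a = -2 := (Finset.mem_filter.mp haE).2
    have hE'sub : (S.filter (fun i => x i = -2)).erase a ⊆ S :=
      fun z hz => (Finset.mem_filter.mp (Finset.mem_of_mem_erase hz)).1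
    have hE'card : ((S.filter (fun i => x i = -2)).erase a).card = 2 * n := by
      rw [Finset.card_erase_of_mem haE, hn2]
      rfl
    obtain ⟨c, hc, hcE, hcj⟩ := exists_inter_eq_pt hoct hjS n _ hE'sub hE'card (x j = -4)
    have hy : CoEq x (shapeB S a j) := by
      apply coeq_sign' hx hc
      intro q
      unfold shapeB
      by_cases hqa : q = a
      · subst hqa
        have hqc : q ∉ c := by
          intro hm
          have : q ∈ c ∩ S := Finset.mem_inter.mpr ⟨hm, haS⟩
          rw [hcE] at this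
          exact (Finset.notMem_erase q _) this
        rw [if_pos rfl, if_neg hqc, hxa]
      · rw [if_neg hqa]
        by_cases hq : q ∈ S
        · rw [if_pos hq]
          have hqc : q ∈ c ↔ x q = -2 := by
            have : q ∈ c ∩ S ↔ q ∈ (S.filter (fun i => x i = -2)).erase a := by rw [hcE]
            rw [Finset.mem_inter, Finset.mem_erase, Finset.mem_filter] at this
            tauto
          by_cases hm : q ∈ c
          · rw [if_pos hm, hqc.mp hm]
            norm_num
          · rw [if_neg hm]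
            rcases hpm q hq with h | h
            · exact h.symm
            · exact absurd (hqc.mpr h) hm
        · rw [if_neg hq]
          by_cases hqj : q = j
          · subst hqj
            rw [if_pos rfl]
            by_cases hm : q ∈ c
            · rw [if_pos hm, hcj.mp hm]
              norm_num
            · rw [if_neg hm]
              rcases hxj with h | h
              · exact h.symm
              · exact absurd (hcj.mpr h) hm
          · rw [if_neg hqj, hzero q hq hqj]
            split_ifs <;> rfl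
    refine ⟨hy.trans ?_, ⟨j, hxj16⟩⟩
    obtain ⟨g, hg⟩ := Cfsg.Agent.S0367.result S O0f hoct O0f_mem
    have hg' : (g : Equiv.Perm GolayPt) • S = O0f := hg
    have hmem : ∀ q, (g : Equiv.Perm GolayPt) q ∈ O0f ↔ q ∈ S := by
      intro q
      rw [← hg']
      exact Finset.smul_mem_smul_finset_iff (g : Equiv.Perm GolayPt)
    have h4O : (some 4 : GolayPt) ∉ O0f := by
      rw [mem_O0f]
      decide
    have hnO : (none : GolayPt) ∈ O0f := by
      rw [mem_O0f]
      decide
    obtain ⟨τ, hτ, hτO, hτa, hτj⟩ := oct_trans_pt O0f_mem ((hmem a).mpr haS) hnO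
      (fun h => hjS ((hmem j).mp h)) h4O
    have hτmem : ∀ q, τ q ∈ O0f ↔ q ∈ O0f := by
      intro q
      have := Finset.smul_mem_smul_finset_iff (a := τ) (b := q) (s := O0f)
      rw [hτO] at this
      exact this
    refine coeq_perm' hy.mem_right (M24.mul_mem hτ g.2) ?_
    intro q
    have e1 : (τ * (g : Equiv.Perm GolayPt)) q = none ↔ q = a := by
      rw [Equiv.Perm.mul_apply]
      constructor
      · intro h
        exact (g : Equiv.Perm GolayPt).injective (τ.injective (h.trans hτa.symm))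
      · intro h
        rw [h, hτa]
    have e2 : (τ * (g : Equiv.Perm GolayPt)) q ∈ O0f ↔ q ∈ S := by
      rw [Equiv.Perm.mul_apply, hτmem, hmem]
    have e3 : (τ * (g : Equiv.Perm GolayPt)) q = some 4 ↔ q = j := by
      rw [Equiv.Perm.mul_apply]
      constructor
      · intro h
        exact (g : Equiv.Perm GolayPt).injective (τ.injective (h.trans hτj.symm))
      · intro h
        rw [h, hτj]
    unfold shapeB
    simp only [e1, e2, e3]
  · left
    have hSsum : ∑ i ∈ S, x i ^ 2 = 48 := by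
      rw [hS12] at hcardS'
      push_cast at hcardS'
      omega
    have hCsum : ∑ i ∈ Sᶜ, x i ^ 2 = 0 := by omega
    have hzero : ∀ i, i ∉ S → x i = 0 := by
      intro i hi
      have h := (Finset.sum_eq_zero_iff_of_nonneg (fun i _ => sq_nonneg (x i))).mp hCsum i
        (Finset.mem_compl.mpr hi)
      exact pow_eq_zero_iff (two_ne_zero) |>.mp h
    have hfour : ∀ i ∈ S, x i ^ 2 = 4 := by
      have h0 : ∑ i ∈ S, (x i ^ 2 - 4) = 0 := by
        rw [Finset.sum_sub_distrib, hSsum, Finset.sum_const, hS12]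
        norm_num
      intro i hi
      have := (Finset.sum_eq_zero_iff_of_nonneg (fun i hi => by have := hge i hi; omega)).mp h0 i hi
      omega
    have hpm : ∀ i ∈ S, x i = 2 ∨ x i = -2 := by
      intro i hi
      have h : (x i - 2) * (x i + 2) = 0 := by
        have := hfour i hi
        nlinarith
      rcases mul_eq_zero.mp h with h | h
      · left; omega
      · right; omega
    have hdod : S ∈ dodecads := ⟨hSg, hS12⟩
    have hEeven : ∃ n, (S.filter (fun i => x i = -2)).card = 2 * n := by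
      have hs1 : ∑ i, x i = ∑ i ∈ S, x i := by
        rw [← Finset.sum_add_sum_compl S]
        rw [Finset.sum_eq_zero (s := Sᶜ) (fun i hi => hzero i (Finset.mem_compl.mp hi)), add_zero]
      rw [hs1, hs2 hpm, hS12] at hsum8
      refine ⟨(S.filter (fun i => x i = -2)).card / 2, ?_⟩
      omega
    obtain ⟨n, hn2⟩ := hEeven
    have hy : CoEq x (octRep S) := coeq_two_of_pairs (dod_pairs hdod) hx hpm hzero hn2
    refine ⟨?_, ?_⟩
    · obtain ⟨σ, hσ, hσS⟩ := Cfsg.Agent.Lib.Helper36.dodecads_transitive hdod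
        Cfsg.Agent.Lib.Helper36.d0_mem
      refine hy.trans (coeq_perm' hy.mem_right hσ ?_)
      intro q
      unfold octRep
      have hiff : σ q ∈ Cfsg.Agent.Lib.Helper36.d0 ↔ q ∈ S := by
        rw [← hσS]
        exact Finset.smul_mem_smul_finset_iff σ
      by_cases hq : q ∈ S
      · rw [if_pos hq, if_pos (hiff.mpr hq)]
      · rw [if_neg hq, if_neg (fun h => hq (hiff.mp h))]
    · intro p
      by_cases hp : p ∈ S
      · rw [hfour p hp]
        norm_num
      · rw [hzero p hp]
        norm_num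

theorem no_zero48 {x : GolayPt → ℤ} (hx : x ∈ leechLattice) (hn : sqNorm x = 48)
    (h4 : ∀ i, x i % 4 = 0) : False := by
  have hs := zero_struct hx h4
  have h1 : ∀ i, x i = 4 * (x i / 4) := fun i => by have := h4 i; omega
  have h2 : ∑ i, x i ^ 2 = 16 * ∑ i, (x i / 4) ^ 2 := by
    rw [Finset.mul_sum]
    apply Finset.sum_congr rfl
    intro i _
    conv_lhs => rw [h1 i]
    ring
  have h3 : ∑ i, x i = 4 * ∑ i, (x i / 4) := by
    rw [Finset.mul_sum]
    apply Finset.sum_congr rfl
    intro i _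
    exact h1 i
  have h5 : (2 : ℤ) ∣ ∑ i, ((x i / 4) ^ 2 - x i / 4) := by
    apply Finset.dvd_sum
    intro i _
    have h : (x i / 4) ^ 2 - x i / 4 = (x i / 4) * (x i / 4 - 1) := by ring
    rw [h]
    exact even_iff_two_dvd.mp (Int.even_mul_pred_self _)
  rw [Finset.sum_sub_distrib] at h5
  unfold sqNorm at hn
  obtain ⟨k, hk⟩ := h5
  omega

/-! ### Links between the four shapes -/

/-- `2` on a dodecad. -/
def linkAC (c : ℕ) : ℤ := if (8534893 : ℕ).testBit c then 2 else 0

/-- `-2` at `0`, `2` on the rest of an octad, `4` at `3`. -/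
def linkBC (c : ℕ) : ℤ :=
  if c = 0 then -2 else if (8391797 : ℕ).testBit c then 2 else if c = 3 then 4 else 0

/-- `-3` at `0, 1, 2`, and `1` elsewhere. -/
def linkCD (c : ℕ) : ℤ := if c = 0 ∨ c = 1 ∨ c = 2 then -3 else 1

theorem linkAC_mem : (fun q : GolayPt => linkAC (idx q)) ∈ leechLattice :=
  mem_LL_of (two_mask_mem (μ := 8534893) (mem_sums_of_inCode (by decide +kernel)))

theorem linkBC_mem : (fun q : GolayPt => linkBC (idx q)) ∈ leechLattice := by
  apply mem_LL_of
  rw [mem_leechSet_struct]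
  exact ⟨0, by norm_num, 8391797, mem_sums_of_inCode (by decide +kernel), by decide +kernel,
    by decide +kernel⟩

theorem linkCD_mem : (fun q : GolayPt => linkCD (idx q)) ∈ leechLattice :=
  mem_LL_of (Spor.mem_leechSet_of_const_mod_four _ 1 1 (by decide) (by decide +kernel)
    (by decide +kernel))

theorem linkAC_norm : sqNorm (fun q : GolayPt => linkAC (idx q)) = 48 := by decide +kernel

theorem linkBC_norm : sqNorm (fun q : GolayPt => linkBC (idx q)) = 48 := by decide +kernel

theorem linkCD_norm : sqNorm (fun q : GolayPt => linkCD (idx q)) = 48 := by decide +kernel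

theorem link48_AC : CoEq (octRep Cfsg.Agent.Lib.Helper36.d0) repC := by
  have h1 : CoEq (fun q : GolayPt => linkAC (idx q)) (octRep Cfsg.Agent.Lib.Helper36.d0) := by
    rcases even48 linkAC_mem linkAC_norm (i0 := some 0) (by decide +kernel) with h | h
    · exact h.1
    · exfalso
      obtain ⟨p, hp⟩ := h.2
      revert p
      decide +kernel
  have h2 := coeq_xi linkAC_mem
  have h3 : CoEq (xiVec (fun q : GolayPt => linkAC (idx q))) repC := by
    rcases odd48 h2.mem_right (by rw [h2.norm, linkAC_norm]) (i0 := some 0)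
      (by rw [xiVec_idx]; decide +kernel) with h | h
    · exact h.1
    · exfalso
      apply h.2 (some 1)
      rw [xiVec_idx]
      decide +kernel
  exact h1.symm.trans (h2.trans h3)

theorem link48_BC : CoEq (shapeB O0f none (some 4)) repC := by
  have h1 : CoEq (fun q : GolayPt => linkBC (idx q)) (shapeB O0f none (some 4)) := by
    rcases even48 linkBC_mem linkBC_norm (i0 := some 0) (by decide +kernel) with h | h
    · exfalso
      apply h.2 (some 3)
      decide +kernel
    · exact h.1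
  have h2 := coeq_xi linkBC_mem
  have h3 : CoEq (xiVec (fun q : GolayPt => linkBC (idx q))) repC := by
    rcases odd48 h2.mem_right (by rw [h2.norm, linkBC_norm]) (i0 := some 0)
      (by rw [xiVec_idx]; decide +kernel) with h | h
    · exact h.1
    · exfalso
      apply h.2 (some 0)
      rw [xiVec_idx]
      decide +kernel
  exact h1.symm.trans (h2.trans h3)

theorem link48_CD : CoEq repC repD := by
  have h1 : CoEq (fun q : GolayPt => linkCD (idx q)) repC := by
    rcases odd48 linkCD_mem linkCD_norm (i0 := some 0) (by decide +kernel) with h | h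
    · exact h.1
    · exfalso
      apply h.2 (some 0)
      decide +kernel
  have h2 := coeq_xi linkCD_mem
  have h3 : CoEq (xiVec (fun q : GolayPt => linkCD (idx q))) repD := by
    rcases odd48 h2.mem_right (by rw [h2.norm, linkCD_norm]) (i0 := some 0)
      (by rw [xiVec_idx]; decide +kernel) with h | h
    · exfalso
      apply h.2 none
      rw [xiVec_idx]
      decide +kernel
    · exact h.1
  exact h1.symm.trans (h2.trans h3)

/-- Every lattice vector of squared length 48 is in the orbit of `(5, 1, …, 1)`. -/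
theorem coeq_norm48 {x : GolayPt → ℤ} (hx : x ∈ leechLattice) (hn : sqNorm x = 48) :
    CoEq x repD := by
  by_cases hodd : x none % 2 = 1
  · rcases odd48 hx hn hodd with h | h
    · exact h.1.trans link48_CD
    · exact h.1
  · by_cases h2 : ∃ i, x i % 4 = 2
    · obtain ⟨i0, hi0⟩ := h2
      rcases even48 hx hn hi0 with h | h
      · exact h.1.trans (link48_AC.trans link48_CD)
      · exact h.1.trans (link48_BC.trans link48_CD)
    · exfalso
      apply no_zero48 hx hn
      intro i
      obtain ⟨par, hpar, μ, hμ, hmod, -⟩ :=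
        (mem_leechSet_struct x).mp ((mem_leechLattice_iff x).mp hx)
      have hp0 : par = 0 := by
        have := hmod none
        rcases bitZ_cases μ none with ⟨-, hz⟩ | ⟨-, hz⟩ <;> rw [hz] at this <;> omega
      subst hp0
      have h3 : x i % 4 ≠ 2 := fun h => h2 ⟨i, h⟩
      have := hmod i
      rcases bitZ_cases μ i with ⟨-, hz⟩ | ⟨-, hz⟩ <;> rw [hz] at this <;> omega

theorem trans_norm48 (v w : leechLattice) (hv : sqNorm (v : GolayPt → ℤ) = 48)
    (hw : sqNorm (w : GolayPt → ℤ) = 48) : ∃ g : Co0, g • v = w :=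
  (coeq_iff v w).mp ((coeq_norm48 v.2 hv).trans (coeq_norm48 w.2 hw).symm)

end Cfsg.Agent.Lib.Helper10
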