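import Mathlib
import Cfsg.Prelude.Def_Sporadic_a
import Cfsg.Agent.Lib.Helper10.Lambda3

set_option autoImplicit false

namespace Cfsg.Agent.Lib.Helper10

open Cfsg Cfsg.Agent.Lib.Helper9

/-! ### Shapes of the vectors of squared length 64 -/

theorem sq_eq_sq_cases {t : ℤ} (n : ℤ) (h : t ^ 2 = n ^ 2) : t = n ∨ t = -n := by
  have h1 : (t - n) * (t + n) = 0 := by ring_nf; linarith
  rcases mul_eq_zero.mp h1 with h2 | h2
  · left; linarith
  · right; linarith

theorem sum_univ_one : ∑ _i : GolayPt, (1 : ℤ) = 24 := by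
  rw [Finset.sum_const, card_golayPt]
  rfl

/-- A vector with all coordinates congruent to 1 modulo 4 and squared length 64 has five `-3`,
or one `5` and two `-3`, and `1` elsewhere. -/
theorem odd64_shape {y : GolayPt → ℤ} (hy1 : ∀ i, y i % 4 = 1) (hyn : sqNorm y = 64) :
    (∀ i, y i = 1 ∨ y i = -3 ∨ y i = 5) ∧
      (((Finset.univ.filter (fun i => y i = -3)).card = 5 ∧
          (Finset.univ.filter (fun i => y i = 5)).card = 0) ∨
        ((Finset.univ.filter (fun i => y i = -3)).card = 2 ∧
          (Finset.univ.filter (fun i => y i = 5)).card = 1)) := by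
  classical
  have he0 : ∀ i, 0 ≤ y i ^ 2 - 1 - 8 * (if y i = -3 then (1 : ℤ) else 0) -
      24 * (if y i = 5 then (1 : ℤ) else 0) := by
    intro i
    have h1 := hy1 i
    by_cases h3 : y i = -3
    · rw [h3]; norm_num
    · by_cases h5 : y i = 5
      · rw [h5]; norm_num
      · rw [if_neg h3, if_neg h5]
        have h : y i ≤ -1 ∨ 1 ≤ y i := by omega
        rcases h with h | h <;> nlinarith
  have he48 : ∀ i, ¬ (y i = 1 ∨ y i = -3 ∨ y i = 5) → 48 ≤ y i ^ 2 - 1 -
      8 * (if y i = -3 then (1 : ℤ) else 0) - 24 * (if y i = 5 then (1 : ℤ) else 0) := by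
    intro i hne
    have h1 := hy1 i
    have h3 : y i ≠ -3 := fun h => hne (Or.inr (Or.inl h))
    have h5 : y i ≠ 5 := fun h => hne (Or.inr (Or.inr h))
    have h11 : y i ≠ 1 := fun h => hne (Or.inl h)
    rw [if_neg h3, if_neg h5]
    have h : y i ≤ -7 ∨ 9 ≤ y i := by omega
    rcases h with h | h <;> nlinarith
  have hsum : ∑ i, (y i ^ 2 - 1 - 8 * (if y i = -3 then (1 : ℤ) else 0) -
      24 * (if y i = 5 then (1 : ℤ) else 0)) =
      40 - 8 * ((Finset.univ.filter (fun i => y i = -3)).card : ℤ) -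
        24 * ((Finset.univ.filter (fun i => y i = 5)).card : ℤ) := by
    rw [Finset.sum_sub_distrib, Finset.sum_sub_distrib, Finset.sum_sub_distrib, ← Finset.mul_sum,
      ← Finset.mul_sum, sum_univ_one, Finset.card_filter, Finset.card_filter]
    push_cast
    unfold sqNorm at hyn
    rw [hyn]
    norm_num
  have hall : ∀ i, y i = 1 ∨ y i = -3 ∨ y i = 5 := by
    intro i
    by_contra hne
    have h1 := he48 i hne
    have h2 : y i ^ 2 - 1 - 8 * (if y i = -3 then (1 : ℤ) else 0) -
        24 * (if y i = 5 then (1 : ℤ) else 0) ≤ ∑ j, (y j ^ 2 - 1 -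
          8 * (if y j = -3 then (1 : ℤ) else 0) - 24 * (if y j = 5 then (1 : ℤ) else 0)) :=
      Finset.single_le_sum (f := fun i => y i ^ 2 - 1 -
        8 * (if y i = -3 then (1 : ℤ) else 0) - 24 * (if y i = 5 then (1 : ℤ) else 0))
        (fun j _ => he0 j) (Finset.mem_univ i)
    rw [hsum] at h2
    have h3 : (0 : ℤ) ≤ ((Finset.univ.filter (fun i => y i = -3)).card : ℤ) := Nat.cast_nonneg _
    have h4 : (0 : ℤ) ≤ ((Finset.univ.filter (fun i => y i = 5)).card : ℤ) := Nat.cast_nonneg _
    linarith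
  refine ⟨hall, ?_⟩
  have hzero : ∑ i, (y i ^ 2 - 1 - 8 * (if y i = -3 then (1 : ℤ) else 0) -
      24 * (if y i = 5 then (1 : ℤ) else 0)) = 0 := by
    apply Finset.sum_eq_zero
    intro i _
    rcases hall i with h | h | h <;> rw [h] <;> norm_num
  rw [hsum] at hzero
  omega

/-- An even vector of squared length 64, with `S` the set of coordinates congruent to 2
modulo 4. -/
theorem even64_shape {x : GolayPt → ℤ} (hn : sqNorm x = 64) {S : Finset GolayPt}
    (hin : ∀ i ∈ S, x i % 4 = 2) (hout : ∀ i, i ∉ S → x i % 4 = 0) :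
    (∀ i ∈ S, x i ^ 2 = 4 ∨ x i ^ 2 = 36) ∧ (∀ i, i ∉ S → x i = 0 ∨ x i ^ 2 = 16 ∨ x i ^ 2 = 64) ∧
      4 * S.card + 32 * (Finset.univ.filter (fun i => i ∈ S ∧ x i ^ 2 = 36)).card +
        16 * (Finset.univ.filter (fun i => i ∉ S ∧ x i ^ 2 = 16)).card +
        64 * (Finset.univ.filter (fun i => i ∉ S ∧ x i ^ 2 = 64)).card = 64 := by
  classical
  set e : GolayPt → ℤ := fun i => x i ^ 2 - (if i ∈ S then (4 : ℤ) else 0) -
      32 * (if i ∈ S ∧ x i ^ 2 = 36 then (1 : ℤ) else 0) -
      16 * (if i ∉ S ∧ x i ^ 2 = 16 then (1 : ℤ) else 0) -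
      64 * (if i ∉ S ∧ x i ^ 2 = 64 then (1 : ℤ) else 0) with he
  have e_in : ∀ i ∈ S, e i = x i ^ 2 - 4 - 32 * (if x i ^ 2 = 36 then (1 : ℤ) else 0) := by
    intro i hi
    simp only [he, hi, if_true, true_and, not_true_eq_false, false_and, if_false]
    ring
  have e_out : ∀ i, i ∉ S → e i = x i ^ 2 - 16 * (if x i ^ 2 = 16 then (1 : ℤ) else 0) -
      64 * (if x i ^ 2 = 64 then (1 : ℤ) else 0) := by
    intro i hi
    simp only [he, hi, if_false, false_and, not_false_eq_true, true_and]
    ring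
  have hgood : ∀ i, (i ∈ S ∧ (x i ^ 2 = 4 ∨ x i ^ 2 = 36) ∧ e i = 0) ∨
      (i ∉ S ∧ (x i = 0 ∨ x i ^ 2 = 16 ∨ x i ^ 2 = 64) ∧ e i = 0) ∨ 96 ≤ e i := by
    intro i
    by_cases hi : i ∈ S
    · have h2 := hin i hi
      rw [e_in i hi]
      by_cases h4 : x i ^ 2 = 4
      · left
        refine ⟨hi, Or.inl h4, ?_⟩
        rw [h4]
        norm_num
      · by_cases h36 : x i ^ 2 = 36
        · left
          refine ⟨hi, Or.inr h36, ?_⟩
          rw [if_pos h36, h36]
          norm_num
        · right; right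
          rw [if_neg h36]
          have hb : x i ≤ -10 ∨ 10 ≤ x i := by
            by_contra hcon
            have hb1 : -10 < x i := by omega
            have hb2 : x i < 10 := by omega
            generalize x i = t at h2 h4 h36 hb1 hb2
            interval_cases t <;> omega
          rcases hb with hb | hb <;> nlinarith
    · have h0 := hout i hi
      rw [e_out i hi]
      by_cases hz : x i = 0
      · right; left
        refine ⟨hi, Or.inl hz, ?_⟩
        rw [hz]
        norm_num
      · by_cases h16 : x i ^ 2 = 16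
        · right; left
          refine ⟨hi, Or.inr (Or.inl h16), ?_⟩
          rw [if_pos h16, h16]
          norm_num
        · by_cases h64 : x i ^ 2 = 64
          · right; left
            refine ⟨hi, Or.inr (Or.inr h64), ?_⟩
            rw [if_pos h64, h64]
            norm_num
          · right; right
            rw [if_neg h16, if_neg h64]
            have hb : x i ≤ -12 ∨ 12 ≤ x i := by
              by_contra hcon
              have hb1 : -12 < x i := by omega
              have hb2 : x i < 12 := by omega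
              generalize x i = t at h0 hz h16 h64 hb1 hb2
              interval_cases t <;> omega
            rcases hb with hb | hb <;> nlinarith
  have he0 : ∀ i, 0 ≤ e i := by
    intro i
    rcases hgood i with h | h | h
    · rw [h.2.2]
    · rw [h.2.2]
    · linarith
  have hsum : ∑ i, e i = 64 - 4 * (S.card : ℤ) -
      32 * ((Finset.univ.filter (fun i => i ∈ S ∧ x i ^ 2 = 36)).card : ℤ) -
      16 * ((Finset.univ.filter (fun i => i ∉ S ∧ x i ^ 2 = 16)).card : ℤ) -
      64 * ((Finset.univ.filter (fun i => i ∉ S ∧ x i ^ 2 = 64)).card : ℤ) := by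
    simp only [he]
    rw [Finset.sum_sub_distrib, Finset.sum_sub_distrib, Finset.sum_sub_distrib,
      Finset.sum_sub_distrib, ← Finset.mul_sum, ← Finset.mul_sum, ← Finset.mul_sum,
      Finset.card_filter, Finset.card_filter, Finset.card_filter, Finset.sum_ite_mem,
      Finset.univ_inter, Finset.sum_const, nsmul_eq_mul]
    push_cast
    unfold sqNorm at hn
    rw [hn]
    ring
  have hnn1 : (0 : ℤ) ≤ (S.card : ℤ) := Nat.cast_nonneg _
  have hnn2 : (0 : ℤ) ≤ ((Finset.univ.filter (fun i => i ∈ S ∧ x i ^ 2 = 36)).card : ℤ) :=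
    Nat.cast_nonneg _
  have hnn3 : (0 : ℤ) ≤ ((Finset.univ.filter (fun i => i ∉ S ∧ x i ^ 2 = 16)).card : ℤ) :=
    Nat.cast_nonneg _
  have hnn4 : (0 : ℤ) ≤ ((Finset.univ.filter (fun i => i ∉ S ∧ x i ^ 2 = 64)).card : ℤ) :=
    Nat.cast_nonneg _
  have hno : ∀ i, ¬ (96 ≤ e i) := by
    intro i h96
    have h2 := Finset.single_le_sum (f := e) (fun j _ => he0 j) (Finset.mem_univ i)
    rw [hsum] at h2
    linarith
  have hzero : ∑ i, e i = 0 := by
    apply Finset.sum_eq_zero
    intro i _
    rcases hgood i with h | h | h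
    · exact h.2.2
    · exact h.2.2
    · exact absurd h (hno i)
  rw [hsum] at hzero
  refine ⟨fun i hi => ?_, fun i hi => ?_, by omega⟩
  · rcases hgood i with h | h | h
    · exact h.2.1
    · exact absurd hi h.1
    · exact absurd h (hno i)
  · rcases hgood i with h | h | h
    · exact absurd h.1 hi
    · exact h.2.1
    · exact absurd h (hno i)

end Cfsg.Agent.Lib.Helper10
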