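import Mathlib
import Cfsg.Prelude.Def_Sporadic_a
import Cfsg.Agent.Lib.Helper10.OctadStab
import Cfsg.Agent.Lib.Helper36.M24OctSplit
import Cfsg.Agent.Lib.Helper36.M24Dod

set_option autoImplicit false

namespace Cfsg.Agent.Lib.Helper10

open Cfsg Cfsg.Agent.Lib.Helper9
open scoped Pointwise

/-! ### Transitivity certificates by explicit tables -/

/-- A table of the list fixes the set of the mask and the listed points, and moves `s` to `t`. -/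
theorem exists_of_tab {tabs : List (List ℕ)} {m : ℕ} {fixL : List ℕ} {s t : ℕ} (hs : s < 24)
    (hok : tabs.all (fun T => Cfsg.Agent.Lib.Helper36.tabM24 T && (pull T m == m) &&
      fixL.all (fun c => T.getD c 0 == c)) = true)
    (hcov : tabs.any (fun T => T.getD s 0 == t) = true) :
    ∃ τ ∈ M24, τ • Cfsg.Agent.Lib.Helper36.ms m = Cfsg.Agent.Lib.Helper36.ms m ∧
      (∀ c ∈ fixL, c < 24 → τ (pt c) = pt c) ∧ τ (pt s) = pt t := by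
  rw [List.any_eq_true] at hcov
  obtain ⟨T, hT, hTs⟩ := hcov
  have h1 := List.all_eq_true.mp hok T hT
  simp only [Bool.and_eq_true, beq_iff_eq] at h1
  obtain ⟨⟨h1a, h1b⟩, h1c⟩ := h1
  have h2 := Cfsg.Agent.Lib.Helper36.tabPerm_spec h1a
  refine ⟨Cfsg.Agent.Lib.Helper36.tabPerm T, h2.1,
    Cfsg.Agent.Lib.Helper36.smul_eq_of_pull h2.2 h1b, ?_, ?_⟩
  · intro c hc hc24
    have h3 := List.all_eq_true.mp h1c c hc
    rw [h2.2.apply_pt hc24, beq_iff_eq.mp h3]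
  · rw [h2.2.apply_pt hs, beq_iff_eq.mp hTs]

/-- Elements of the stabiliser of the reference octad fixing the point `4` and sending `6` to
each of the other outside points. -/
def octTabs2 : List (List ℕ) :=
  [[14, 2, 17, 3, 4, 5, 6, 7, 21, 20, 15, 18, 8, 10, 23, 13, 9, 1, 19, 11, 16, 12, 22, 0],
   [23, 14, 2, 0, 4, 3, 7, 15, 11, 10, 19, 16, 12, 18, 1, 21, 22, 17, 13, 20, 9, 6, 8, 5],
   [5, 1, 14, 23, 4, 0, 8, 6, 21, 11, 19, 10, 13, 18, 17, 16, 7, 2, 12, 22, 9, 15, 20, 3],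
   [1, 3, 23, 17, 4, 2, 9, 21, 22, 15, 7, 11, 13, 12, 5, 19, 16, 0, 18, 6, 10, 20, 8, 14],
   [1, 3, 5, 2, 4, 0, 10, 8, 22, 6, 13, 20, 11, 15, 23, 18, 12, 14, 21, 16, 9, 7, 19, 17],
   [23, 14, 3, 2, 4, 1, 11, 10, 21, 8, 20, 19, 13, 22, 5, 18, 7, 17, 16, 12, 15, 9, 6, 0],
   [5, 2, 3, 23, 4, 1, 12, 7, 6, 8, 19, 15, 16, 18, 14, 22, 21, 0, 11, 13, 9, 20, 10, 17],
   [0, 5, 1, 2, 4, 14, 13, 19, 10, 12, 9, 15, 18, 16, 17, 8, 21, 23, 11, 22, 20, 7, 6, 3],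
   [23, 2, 1, 0, 4, 14, 15, 16, 6, 9, 22, 20, 13, 8, 3, 21, 19, 5, 11, 7, 18, 12, 10, 17],
   [23, 1, 3, 0, 4, 2, 16, 20, 12, 18, 19, 7, 11, 10, 14, 21, 22, 17, 6, 15, 8, 13, 9, 5],
   [5, 3, 14, 0, 4, 23, 18, 19, 7, 21, 8, 22, 10, 6, 1, 16, 12, 17, 11, 15, 20, 13, 9, 2],
   [14, 3, 1, 0, 4, 5, 19, 15, 21, 18, 13, 6, 9, 16, 2, 11, 8, 17, 20, 7, 22, 10, 12, 23],
   [23, 5, 17, 2, 4, 1, 20, 13, 6, 16, 15, 22, 9, 7, 3, 19, 12, 0, 11, 18, 8, 21, 10, 14],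
   [14, 2, 17, 3, 4, 1, 21, 15, 16, 13, 8, 9, 7, 20, 23, 10, 19, 0, 18, 12, 6, 22, 11, 5],
   [0, 5, 3, 14, 4, 1, 22, 10, 20, 21, 8, 18, 19, 7, 2, 13, 11, 23, 16, 6, 15, 12, 9, 17]]

theorem octTabs2_ok : octTabs2.all (fun T => Cfsg.Agent.Lib.Helper36.tabM24 T &&
    (pull T 8536111 == 8536111) && [4].all (fun c => T.getD c 0 == c)) = true := by
  decide +kernel

theorem octTabs2_cover : ∀ t < 24, (8536111 : ℕ).testBit t = false → t ≠ 4 →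
    octTabs2.any (fun T => T.getD 6 0 == t) = true := by
  decide +kernel

/-- Elements of the stabiliser of the standard dodecad sending `5` to each outside point. -/
def dodTabs2 : List (List ℕ) :=
  [[12, 3, 6, 0, 4, 5, 13, 15, 1, 9, 11, 21, 8, 16, 22, 19, 18, 10, 2, 14, 20, 23, 7, 17],
   [6, 1, 4, 2, 18, 7, 9, 15, 16, 13, 23, 21, 3, 8, 22, 19, 12, 17, 0, 11, 14, 20, 10, 5],
   [12, 6, 4, 9, 1, 10, 16, 23, 2, 8, 17, 21, 0, 13, 11, 14, 3, 7, 18, 5, 19, 15, 20, 22],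
   [9, 16, 2, 4, 3, 11, 13, 20, 0, 8, 17, 14, 1, 18, 5, 15, 6, 22, 12, 7, 10, 23, 19, 21],
   [9, 13, 8, 3, 12, 14, 16, 17, 0, 1, 10, 22, 4, 2, 23, 19, 18, 7, 6, 11, 15, 20, 21, 5],
   [13, 18, 3, 4, 6, 15, 12, 21, 2, 0, 14, 23, 8, 1, 11, 7, 9, 20, 16, 22, 10, 19, 5, 17],
   [18, 1, 6, 8, 3, 17, 0, 20, 12, 9, 11, 21, 16, 2, 14, 10, 4, 7, 13, 5, 19, 22, 15, 23],
   [16, 9, 13, 18, 8, 19, 1, 10, 3, 2, 7, 11, 6, 0, 22, 20, 12, 5, 4, 14, 21, 17, 15, 23],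
   [9, 13, 8, 16, 1, 20, 6, 21, 12, 18, 22, 10, 3, 2, 11, 15, 0, 5, 4, 23, 14, 19, 7, 17],
   [16, 12, 3, 9, 0, 21, 2, 19, 6, 8, 22, 7, 4, 13, 23, 15, 1, 5, 18, 10, 20, 14, 11, 17],
   [6, 4, 8, 12, 2, 22, 0, 7, 1, 3, 23, 15, 13, 9, 14, 5, 18, 19, 16, 10, 20, 21, 11, 17],
   [4, 0, 9, 18, 6, 23, 8, 20, 13, 12, 10, 14, 3, 2, 22, 21, 16, 11, 1, 17, 5, 19, 7, 15]]

theorem dodTabs2_ok : dodTabs2.all (fun T => Cfsg.Agent.Lib.Helper36.tabM24 T &&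
    (pull T 340831 == 340831) && [].all (fun c => T.getD c 0 == c)) = true := by
  decide +kernel

theorem dodTabs2_cover : ∀ t < 24, (340831 : ℕ).testBit t = false →
    dodTabs2.any (fun T => T.getD 5 0 == t) = true := by
  decide +kernel

theorem ms_O0 : Cfsg.Agent.Lib.Helper36.ms 8536111 = O0f := rfl

theorem pt_four : pt 4 = some 4 := by decide

theorem pt_five : pt 5 = some 5 := by decide

theorem pt_six : pt 6 = some 6 := by decide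

theorem four_not_mem_O0f : (some 4 : GolayPt) ∉ O0f := by
  rw [mem_O0f]
  decide

theorem six_not_mem_O0f : (some 6 : GolayPt) ∉ O0f := by
  rw [mem_O0f]
  decide

/-- The stabiliser of the reference octad is doubly transitive on the points outside it. -/
theorem oct0_out_two {j1 j2 : GolayPt} (h1 : j1 ∉ O0f) (h2 : j2 ∉ O0f) (hne : j1 ≠ j2) :
    ∃ σ ∈ M24, σ • O0f = O0f ∧ σ j1 = some 4 ∧ σ j2 = some 6 := by
  obtain ⟨k, hk, hkj⟩ := Cfsg.Agent.Lib.Helper36.fix_trans O0f_mem h1 four_not_mem_O0f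
  have hks := Cfsg.Agent.Lib.Helper36.mem_stabIn.mp (Cfsg.Agent.Lib.Helper36.fix_le_stabIn O0f hk)
  have hkj2 : k j2 ∉ O0f :=
    Cfsg.Agent.Lib.Helper36.fix_not_mem (Cfsg.Agent.Lib.Helper36.fix_le_stabIn O0f hk) h2
  have hne4 : k j2 ≠ some 4 := fun h => hne (k.injective (hkj.trans h.symm))
  have hbit : (8536111 : ℕ).testBit (idx (k j2)) = false := by
    by_contra hb
    rw [Bool.not_eq_false] at hb
    exact hkj2 (mem_O0f.mpr hb)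
  have hne4' : idx (k j2) ≠ 4 := fun h => hne4 (by rw [← pt_idx (k j2), h, pt_four])
  obtain ⟨τ, hτ, hτO, hτ4, hτ6⟩ := exists_of_tab (m := 8536111) (fixL := [4]) (s := 6)
    (by norm_num) octTabs2_ok (octTabs2_cover _ (idx_lt _) hbit hne4')
  rw [ms_O0] at hτO
  have hτ4' := hτ4 4 (by simp) (by norm_num)
  rw [pt_four] at hτ4'
  rw [pt_six, pt_idx] at hτ6
  refine ⟨τ⁻¹ * k, M24.mul_mem (M24.inv_mem hτ) hks.1, ?_, ?_, ?_⟩
  · rw [mul_smul, hks.2, inv_smul_eq_iff]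
    exact hτO.symm
  · rw [Equiv.Perm.mul_apply, hkj, Equiv.Perm.inv_eq_iff_eq]
    exact hτ4'.symm
  · rw [Equiv.Perm.mul_apply, Equiv.Perm.inv_eq_iff_eq]
    exact hτ6.symm

/-- The stabiliser of the standard dodecad is transitive on the points outside it. -/
theorem dod0_out {j : GolayPt} (hj : j ∉ Cfsg.Agent.Lib.Helper36.d0) :
    ∃ σ ∈ M24, σ • Cfsg.Agent.Lib.Helper36.d0 = Cfsg.Agent.Lib.Helper36.d0 ∧ σ j = some 5 := by
  have hbit : (340831 : ℕ).testBit (idx j) = false := by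
    by_contra hb
    rw [Bool.not_eq_false] at hb
    exact hj ((Cfsg.Agent.Lib.Helper36.mem_ms _ _).mpr hb)
  obtain ⟨τ, hτ, hτD, -, hτ5⟩ := exists_of_tab (m := 340831) (fixL := []) (s := 5)
    (by norm_num) dodTabs2_ok (dodTabs2_cover _ (idx_lt _) hbit)
  rw [pt_five, pt_idx] at hτ5
  refine ⟨τ⁻¹, M24.inv_mem hτ, ?_, ?_⟩
  · rw [inv_smul_eq_iff]
    exact hτD.symm
  · rw [Equiv.Perm.inv_eq_iff_eq]
    exact hτ5.symm

end Cfsg.Agent.Lib.Helper10
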