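import Mathlib
import Cfsg.Prelude.Def_Sporadic_a
import Cfsg.Agent.Lib.Helper10.Lambda4a
import Cfsg.Agent.Lib.Helper10.M24Cert

set_option autoImplicit false

namespace Cfsg.Agent.Lib.Helper10

open Cfsg Cfsg.Agent.Lib.Helper9
open scoped Pointwise

/-! ### Tools for normal forms -/

theorem sum_mod8_even {x : GolayPt → ℤ} (hx : x ∈ leechLattice) {i : GolayPt}
    (hi : x i % 2 = 0) : (∑ q, x q) % 8 = 0 := by
  obtain ⟨par, hpar, μ, hμ, h1, h2⟩ := (mem_leechSet_struct x).mp ((mem_leechLattice_iff x).mp hx)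
  have hp0 : par = 0 := by
    have := h1 i
    rcases bitZ_cases μ i with ⟨-, hz⟩ | ⟨-, hz⟩ <;> rw [hz] at this <;> omega
  subst hp0
  simpa using h2

/-- The number of sign changes on the coordinates congruent to 2 modulo 4 is even. -/
theorem flip_even {x y : GolayPt → ℤ} {D : Finset GolayPt} (hx8 : (∑ i, x i) % 8 = 0)
    (hy8 : (∑ i, y i) % 8 = 0) (hpm : ∀ i, y i = x i ∨ y i = -x i)
    (hD : ∀ i ∈ D, x i % 4 = 2) (hD' : ∀ i, i ∉ D → x i % 4 = 0) :
    ∃ n, (D.filter (fun i => y i ≠ x i)).card = 2 * n := by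
  classical
  have hdvd : (8 : ℤ) ∣ ∑ i, (x i - y i - 4 * (if i ∈ D ∧ y i ≠ x i then (1 : ℤ) else 0)) := by
    apply Finset.dvd_sum
    intro i _
    by_cases hi : i ∈ D
    · have h2 := hD i hi
      by_cases hne : y i ≠ x i
      · rw [if_pos ⟨hi, hne⟩]
        rcases hpm i with h | h
        · exact absurd h hne
        · rw [h]
          omega
      · rw [if_neg (fun h => hne h.2)]
        rw [not_not] at hne
        rw [hne]
        norm_num
    · have h0 := hD' i hi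
      rw [if_neg (fun h => hi h.1)]
      rcases hpm i with h | h
      · rw [h]
        norm_num
      · rw [h]
        omega
  have hsum : ∑ i, (x i - y i - 4 * (if i ∈ D ∧ y i ≠ x i then (1 : ℤ) else 0)) =
      ∑ i, x i - ∑ i, y i - 4 * ((D.filter (fun i => y i ≠ x i)).card : ℤ) := by
    rw [Finset.sum_sub_distrib, Finset.sum_sub_distrib, ← Finset.mul_sum]
    congr 2
    rw [Finset.card_filter]
    push_cast
    rw [← Finset.sum_filter, ← Finset.sum_filter]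
    congr 1
    ext i
    simp
  rw [hsum] at hdvd
  obtain ⟨k, hk⟩ := hdvd
  refine ⟨(D.filter (fun i => y i ≠ x i)).card / 2, ?_⟩
  omega

/-- Change of the signs on a set cut out by a code word. -/
theorem coeq_flip {U : Finset GolayPt} {x y : GolayPt → ℤ} (hx : x ∈ leechLattice)
    (hU : ∀ i, i ∉ U → x i = 0 ∧ y i = 0) (hpm : ∀ i ∈ U, y i = x i ∨ y i = -x i)
    (hc : ∃ c ∈ gsup, c ∩ U = U.filter (fun i => y i ≠ x i)) : CoEq x y := by
  obtain ⟨c, hc, hcU⟩ := hc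
  apply coeq_sign' hx hc
  intro q
  by_cases hq : q ∈ U
  · have hqc : q ∈ c ↔ y q ≠ x q := by
      have : q ∈ c ∩ U ↔ q ∈ U.filter (fun i => y i ≠ x i) := by rw [hcU]
      rw [Finset.mem_inter, Finset.mem_filter] at this
      tauto
    by_cases hm : q ∈ c
    · rw [if_pos hm]
      rcases hpm q hq with h | h
      · exact absurd h (hqc.mp hm)
      · exact h
    · rw [if_neg hm]
      by_contra h
      exact hm (hqc.mpr h)
  · rw [(hU q hq).1, (hU q hq).2]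
    split_ifs <;> rfl

/-- Extension of a cut by one point, using a code word through the point missing the set. -/
theorem cut_insert {V : Finset GolayPt} {j : GolayPt} {w : Finset GolayPt}
    (hw : w ∈ gsup) (hwV : w ∩ V = ∅) (hwj : j ∈ w) {E : Finset GolayPt}
    (hE : ∃ c ∈ gsup, c ∩ V = E ∩ V) : ∃ c ∈ gsup, c ∩ insert j V = E ∩ insert j V := by
  obtain ⟨c1, hc1, h1⟩ := hE
  have hzV : ∀ z, z ∈ V → z ∉ w := by
    intro z hz hzw
    have : z ∈ w ∩ V := Finset.mem_inter.mpr ⟨hzw, hz⟩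
    rw [hwV] at this
    exact absurd this (Finset.notMem_empty z)
  have e1 : ∀ z, z ∈ V → (z ∈ c1 ↔ z ∈ E) := by
    intro z hz
    have : z ∈ c1 ∩ V ↔ z ∈ E ∩ V := by rw [h1]
    rw [Finset.mem_inter, Finset.mem_inter] at this
    tauto
  by_cases h : (j ∈ c1 ↔ j ∈ E)
  · refine ⟨c1, hc1, ?_⟩
    ext z
    rw [Finset.mem_inter, Finset.mem_inter, Finset.mem_insert]
    by_cases hzj : z = j
    · subst hzj
      tauto
    · have := e1 z
      tauto
  · refine ⟨symmDiff c1 w, symmDiff_mem_gsup hc1 hw, ?_⟩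
    ext z
    rw [Finset.mem_inter, Finset.mem_inter, Finset.mem_insert, Finset.mem_symmDiff]
    by_cases hzj : z = j
    · subst hzj
      tauto
    · have := e1 z
      have := hzV z
      tauto

theorem cut_all_of_singletons {D : Finset GolayPt} (h : ∀ a ∈ D, ∃ c ∈ gsup, c ∩ D = {a}) :
    ∀ E : Finset GolayPt, E ⊆ D → ∃ c ∈ gsup, c ∩ D = E := by
  classical
  intro E
  induction E using Finset.induction_on with
  | empty =>
    intro _
    exact ⟨∅, Spor.empty_mem_supports_golayCode, Finset.empty_inter D⟩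
  | insert a E ha ih =>
    intro hE
    obtain ⟨c1, hc1, h1⟩ := ih (fun z hz => hE (Finset.mem_insert_of_mem hz))
    obtain ⟨c2, hc2, h2⟩ := h a (hE (Finset.mem_insert_self a E))
    refine ⟨symmDiff c1 c2, symmDiff_mem_gsup hc1 hc2, ?_⟩
    ext z
    have e1 : z ∈ c1 ∩ D ↔ z ∈ E := by rw [h1]
    have e2 : z ∈ c2 ∩ D ↔ z ∈ ({a} : Finset GolayPt) := by rw [h2]
    rw [Finset.mem_inter] at e1 e2
    rw [Finset.mem_singleton] at e2
    rw [Finset.mem_inter, Finset.mem_symmDiff, Finset.mem_insert]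
    have h3 : z ∈ E → z ∈ D := fun hz => hE (Finset.mem_insert_of_mem hz)
    have h4 : z = a → z ∉ E := fun hz => hz ▸ ha
    have h5 : z = a → z ∈ D := fun hz => hz ▸ hE (Finset.mem_insert_self a E)
    tauto

theorem m24_trans_set {n : ℕ} (hn : n ≤ 5) {T T' : Finset GolayPt} (hT : T.card = n)
    (hT' : T'.card = n) : ∃ σ ∈ M24, ∀ q, σ q ∈ T' ↔ q ∈ T := by
  have e := T.equivFinOfCardEq hT
  have e' := T'.equivFinOfCardEq hT'
  obtain ⟨σ, hσ, h⟩ := m24_trans_fin hn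
    ⟨fun i => (e.symm i : GolayPt), fun i j hij => e.symm.injective (Subtype.ext hij)⟩
    ⟨fun i => (e'.symm i : GolayPt), fun i j hij => e'.symm.injective (Subtype.ext hij)⟩
  refine ⟨σ, hσ, fun q => ⟨fun hq => ?_, fun hq => ?_⟩⟩
  · have h1 : σ ((e.symm (e' ⟨σ q, hq⟩) : ↥T) : GolayPt) =
        ((e'.symm (e' ⟨σ q, hq⟩) : ↥T') : GolayPt) := h (e' ⟨σ q, hq⟩)
    rw [Equiv.symm_apply_apply] at h1
    have h2 := σ.injective h1
    rw [← h2]
    exact (e.symm _).2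
  · have h1 : σ ((e.symm (e ⟨q, hq⟩) : ↥T) : GolayPt) =
        ((e'.symm (e ⟨q, hq⟩) : ↥T') : GolayPt) := h (e ⟨q, hq⟩)
    rw [Equiv.symm_apply_apply] at h1
    rw [h1]
    exact (e'.symm _).2

/-! ### Moving frames -/

theorem oct_move {S : Finset GolayPt} (hS : S ∈ octads) :
    ∃ σ ∈ M24, ∀ q, σ q ∈ O0f ↔ q ∈ S := by
  obtain ⟨g, hg⟩ := Cfsg.Agent.S0367.result S O0f hS O0f_mem
  have hg' : (g : Equiv.Perm GolayPt) • S = O0f := hg
  refine ⟨g, g.2, fun q => ?_⟩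
  rw [← hg']
  exact Finset.smul_mem_smul_finset_iff (g : Equiv.Perm GolayPt)

theorem none_mem_O0f : (none : GolayPt) ∈ O0f := by
  rw [mem_O0f]
  decide

theorem oct_move_pt {S : Finset GolayPt} (hS : S ∈ octads) {p : GolayPt} (hp : p ∈ S) :
    ∃ σ ∈ M24, (∀ q, σ q ∈ O0f ↔ q ∈ S) ∧ σ p = none := by
  obtain ⟨g, hg, hgS⟩ := oct_move hS
  obtain ⟨τ, hτ, hτO, hτa, -⟩ := oct_trans_pt O0f_mem ((hgS p).mpr hp) none_mem_O0f
    four_not_mem_O0f four_not_mem_O0f
  have hτmem : ∀ q, τ q ∈ O0f ↔ q ∈ O0f := by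
    intro q
    have := Finset.smul_mem_smul_finset_iff (a := τ) (b := q) (s := O0f)
    rw [hτO] at this
    exact this
  refine ⟨τ * g, M24.mul_mem hτ hg, fun q => ?_, ?_⟩
  · rw [Equiv.Perm.mul_apply, hτmem, hgS]
  · rw [Equiv.Perm.mul_apply, hτa]

theorem oct_move_two {S : Finset GolayPt} (hS : S ∈ octads) {j1 j2 : GolayPt} (h1 : j1 ∉ S)
    (h2 : j2 ∉ S) (hne : j1 ≠ j2) :
    ∃ σ ∈ M24, (∀ q, σ q ∈ O0f ↔ q ∈ S) ∧ σ j1 = some 4 ∧ σ j2 = some 6 := by
  obtain ⟨g, hg, hgS⟩ := oct_move hS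
  obtain ⟨τ, hτ, hτO, hτ1, hτ2⟩ := oct0_out_two (j1 := g j1) (j2 := g j2)
    (fun h => h1 ((hgS j1).mp h)) (fun h => h2 ((hgS j2).mp h)) (fun h => hne (g.injective h))
  have hτmem : ∀ q, τ q ∈ O0f ↔ q ∈ O0f := by
    intro q
    have := Finset.smul_mem_smul_finset_iff (a := τ) (b := q) (s := O0f)
    rw [hτO] at this
    exact this
  refine ⟨τ * g, M24.mul_mem hτ hg, fun q => ?_, ?_, ?_⟩
  · rw [Equiv.Perm.mul_apply, hτmem, hgS]
  · rw [Equiv.Perm.mul_apply, hτ1]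
  · rw [Equiv.Perm.mul_apply, hτ2]

theorem dod_move {D : Finset GolayPt} (hD : D ∈ dodecads) {j : GolayPt} (hj : j ∉ D) :
    ∃ σ ∈ M24, (∀ q, σ q ∈ Cfsg.Agent.Lib.Helper36.d0 ↔ q ∈ D) ∧ σ j = some 5 := by
  obtain ⟨g, hg, hgD⟩ := Cfsg.Agent.Lib.Helper36.dodecads_transitive hD
    Cfsg.Agent.Lib.Helper36.d0_mem
  have hgmem : ∀ q, g q ∈ Cfsg.Agent.Lib.Helper36.d0 ↔ q ∈ D := by
    intro q
    rw [← hgD]
    exact Finset.smul_mem_smul_finset_iff g
  obtain ⟨τ, hτ, hτD, hτj⟩ := dod0_out (j := g j) (fun h => hj ((hgmem j).mp h))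
  have hτmem : ∀ q, τ q ∈ Cfsg.Agent.Lib.Helper36.d0 ↔ q ∈ Cfsg.Agent.Lib.Helper36.d0 := by
    intro q
    have := Finset.smul_mem_smul_finset_iff (a := τ) (b := q) (s := Cfsg.Agent.Lib.Helper36.d0)
    rw [hτD] at this
    exact this
  refine ⟨τ * g, M24.mul_mem hτ hg, fun q => ?_, ?_⟩
  · rw [Equiv.Perm.mul_apply, hτmem, hgmem]
  · rw [Equiv.Perm.mul_apply, hτj]

end Cfsg.Agent.Lib.Helper10
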