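import Mathlib
import Cfsg.Prelude.Def_Sporadic_a
import Cfsg.Agent.Lib.Helper10.Lambda4b

set_option autoImplicit false

namespace Cfsg.Agent.Lib.Helper10

open Cfsg Cfsg.Agent.Lib.Helper9
open scoped Pointwise

/-! ### Sign changes on a fixed frame -/

/-- If `x` and `r` have the same squares, `r` has the right sum, and the sets of a frame `V` are
cut out by code words (subject to a parity on `D`), then `x` and `r` are in the same orbit. -/
theorem coeq_frame {x r : GolayPt → ℤ} {D V : Finset GolayPt} (hx : x ∈ leechLattice)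
    (hD : ∀ i ∈ D, x i % 4 = 2) (hD' : ∀ i, i ∉ D → x i % 4 = 0) (hr8 : (∑ i, r i) % 8 = 0)
    (hsq : ∀ i, x i ^ 2 = r i ^ 2) (hV : ∀ i, i ∉ V → r i = 0)
    (hcut : ∀ E : Finset GolayPt, (∃ n, (D.filter (fun i => i ∈ E)).card = 2 * n) →
      ∃ c ∈ gsup, c ∩ V = E ∩ V) : CoEq x r := by
  classical
  have hpm : ∀ i, r i = x i ∨ r i = -x i := fun i => sq_eq_sq_cases (x i) (hsq i).symm
  have hx8 : (∑ i, x i) % 8 = 0 := by
    apply sum_mod8_even hx (i := none)
    by_cases h : (none : GolayPt) ∈ D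
    · have := hD none h
      omega
    · have := hD' none h
      omega
  have hxV : ∀ i, i ∉ V → x i = 0 := by
    intro i hi
    have h := hsq i
    rw [hV i hi] at h
    have h0 : x i ^ 2 = 0 := by rw [h]; norm_num
    exact pow_eq_zero_iff (two_ne_zero) |>.mp h0
  obtain ⟨n, hn⟩ := flip_even hx8 hr8 hpm hD hD'
  have hE : ∃ c ∈ gsup, c ∩ V = V.filter (fun i => r i ≠ x i) := by
    have h := hcut (V.filter (fun i => r i ≠ x i)) ⟨n, by
      rw [← hn]
      congr 1
      ext i
      simp only [Finset.mem_filter]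
      constructor
      · rintro ⟨h1, -, h3⟩
        exact ⟨h1, h3⟩
      · rintro ⟨h1, h3⟩
        refine ⟨h1, ?_, h3⟩
        by_contra hiV
        apply h3
        rw [hV i hiV, hxV i hiV]⟩
    obtain ⟨c, hc, hcV⟩ := h
    refine ⟨c, hc, ?_⟩
    rw [hcV]
    exact Finset.inter_eq_left.mpr (Finset.filter_subset _ _)
  exact coeq_flip hx (fun i hi => ⟨hxV i hi, hV i hi⟩) (fun i _ => hpm i) hE

/-- The same after a coordinate permutation moving the vector to the frame. -/
theorem coeq_frame_perm {x r : GolayPt → ℤ} {S D V : Finset GolayPt} {σ : Equiv.Perm GolayPt}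
    (hx : x ∈ leechLattice) (hσ : σ ∈ M24) (hS : ∀ i ∈ S, x i % 4 = 2)
    (hS' : ∀ i, i ∉ S → x i % 4 = 0) (hσS : ∀ q, σ q ∈ D ↔ q ∈ S)
    (hr8 : (∑ i, r i) % 8 = 0) (hsq : ∀ q, x q ^ 2 = r (σ q) ^ 2) (hV : ∀ i, i ∉ V → r i = 0)
    (hcut : ∀ E : Finset GolayPt, (∃ n, (D.filter (fun i => i ∈ E)).card = 2 * n) →
      ∃ c ∈ gsup, c ∩ V = E ∩ V) : CoEq x r := by
  have h1 := coeq_perm hx hσ
  refine h1.trans (coeq_frame h1.mem_right ?_ ?_ hr8 ?_ hV hcut)
  · intro i hi
    show x (σ.symm i) % 4 = 2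
    apply hS
    rw [← hσS, Equiv.apply_symm_apply]
    exact hi
  · intro i hi
    show x (σ.symm i) % 4 = 0
    apply hS'
    rw [← hσS, Equiv.apply_symm_apply]
    exact hi
  · intro i
    show x (σ.symm i) ^ 2 = r i ^ 2
    have := hsq (σ.symm i)
    rw [Equiv.apply_symm_apply] at this
    exact this

/-! ### Cuts of the frames -/

theorem filter_mem_card {D E : Finset GolayPt} :
    D.filter (fun i => i ∈ E) = E ∩ D := by
  ext i
  rw [Finset.mem_filter, Finset.mem_inter, and_comm]

theorem cut_oct {O : Finset GolayPt} (hO : O ∈ octads) (E : Finset GolayPt)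
    (h : ∃ n, (O.filter (fun i => i ∈ E)).card = 2 * n) : ∃ c ∈ gsup, c ∩ O = E ∩ O := by
  obtain ⟨n, hn⟩ := h
  rw [filter_mem_card] at hn
  exact exists_inter_eq hO n (E ∩ O) Finset.inter_subset_right hn

theorem cut_d0 (E : Finset GolayPt)
    (h : ∃ n, (Cfsg.Agent.Lib.Helper36.d0.filter (fun i => i ∈ E)).card = 2 * n) :
    ∃ c ∈ gsup, c ∩ Cfsg.Agent.Lib.Helper36.d0 = E ∩ Cfsg.Agent.Lib.Helper36.d0 := by
  obtain ⟨n, hn⟩ := h
  rw [filter_mem_card] at hn
  exact exists_inter_eq_of_pairs d0_pairs n (E ∩ Cfsg.Agent.Lib.Helper36.d0)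
    Finset.inter_subset_right hn

/-- The reference tetrad `{∞, 0, 1, 2}`. -/
def T0f : Finset GolayPt := Cfsg.Agent.Lib.Helper36.ms 8388615

/-- The reference pentad `{∞, 0, 1, 2, 3}`. -/
def P5f : Finset GolayPt := Cfsg.Agent.Lib.Helper36.ms 8388623

theorem card_T0f : T0f.card = 4 := by
  rw [T0f, Cfsg.Agent.Lib.Helper36.card_ms]
  decide +kernel

theorem card_P5f : P5f.card = 5 := by
  rw [P5f, Cfsg.Agent.Lib.Helper36.card_ms]
  decide +kernel

/-- Code words meeting the reference tetrad in a single point. -/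
def t0Tab : List ℕ := [8414120, 15777, 31554, 21116]

theorem t0Tab_chk : ∀ i < 24, (8388615 : ℕ).testBit i = true →
    t0Tab.any (fun μ => inCode μ && (μ &&& 8388615 == 2 ^ i)) = true := by
  decide +kernel

theorem ms_two_pow (a : GolayPt) : Cfsg.Agent.Lib.Helper36.ms (2 ^ idx a) = {a} := by
  ext z
  rw [Cfsg.Agent.Lib.Helper36.mem_ms, Nat.testBit_two_pow, Finset.mem_singleton]
  simp only [decide_eq_true_eq]
  exact ⟨fun h => idx_injective h.symm, fun h => by rw [h]⟩

theorem cut_T0 (E : Finset GolayPt) : ∃ c ∈ gsup, c ∩ T0f = E ∩ T0f := by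
  apply cut_all_of_singletons _ (E ∩ T0f) Finset.inter_subset_right
  intro a ha
  have h := t0Tab_chk (idx a) (idx_lt a) ((Cfsg.Agent.Lib.Helper36.mem_ms _ _).mp ha)
  rw [List.any_eq_true] at h
  obtain ⟨μ, -, h3⟩ := h
  rw [Bool.and_eq_true, beq_iff_eq] at h3
  refine ⟨Cfsg.Agent.Lib.Helper36.ms μ, ⟨dec μ, dec_mem_golay (mem_sums_of_inCode h3.1), rfl⟩, ?_⟩
  rw [T0f, ← Cfsg.Agent.Lib.Helper36.ms_and, h3.2, ms_two_pow]

theorem ms_mem_gsup {μ : ℕ} (h : inCode μ = true) : Cfsg.Agent.Lib.Helper36.ms μ ∈ gsup :=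
  ⟨dec μ, dec_mem_golay (mem_sums_of_inCode h), rfl⟩

/-- The frame of an octad and the two points `4`, `6` outside it. -/
def Vd : Finset GolayPt := insert (some 4) (insert (some 6) O0f)

theorem cut_Vd (E : Finset GolayPt) (h : ∃ n, (O0f.filter (fun i => i ∈ E)).card = 2 * n) :
    ∃ c ∈ gsup, c ∩ Vd = E ∩ Vd := by
  have h1 := cut_oct O0f_mem E h
  have hw6 : Cfsg.Agent.Lib.Helper36.ms 6337856 ∩ O0f = ∅ := by
    rw [← ms_O0, ← Cfsg.Agent.Lib.Helper36.ms_and]
    exact Cfsg.Agent.Lib.Helper36.ms_zero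
  have h2 := cut_insert (j := some 6) (ms_mem_gsup (μ := 6337856) (by decide +kernel)) hw6
    ((Cfsg.Agent.Lib.Helper36.mem_ms _ _).mpr (by decide)) h1
  have hw4 : Cfsg.Agent.Lib.Helper36.ms 1903248 ∩ insert (some 6) O0f = ∅ := by
    apply Finset.eq_empty_of_forall_notMem
    intro z hz
    rw [Finset.mem_inter, Finset.mem_insert] at hz
    rcases hz.2 with h6 | hO
    · rw [h6, Cfsg.Agent.Lib.Helper36.mem_ms] at hz
      exact absurd hz.1 (by decide)
    · have : z ∈ Cfsg.Agent.Lib.Helper36.ms 1903248 ∩ O0f := Finset.mem_inter.mpr ⟨hz.1, hO⟩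
      rw [← ms_O0, ← Cfsg.Agent.Lib.Helper36.ms_and] at this
      exact absurd this (by rw [show (1903248 : ℕ) &&& 8536111 = 0 from by decide,
        Cfsg.Agent.Lib.Helper36.ms_zero]; exact Finset.notMem_empty z)
  exact cut_insert (j := some 4) (ms_mem_gsup (μ := 1903248) (by decide +kernel)) hw4
    ((Cfsg.Agent.Lib.Helper36.mem_ms _ _).mpr (by decide)) h2

/-- The frame of the standard dodecad and the point `5` outside it. -/
def Ve : Finset GolayPt := insert (some 5) Cfsg.Agent.Lib.Helper36.d0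

theorem five_not_mem_d0 : (some 5 : GolayPt) ∉ Cfsg.Agent.Lib.Helper36.d0 := by
  rw [Cfsg.Agent.Lib.Helper36.d0, Cfsg.Agent.Lib.Helper36.mem_ms]
  decide

theorem cut_Ve (E : Finset GolayPt)
    (h : ∃ n, (Cfsg.Agent.Lib.Helper36.d0.filter (fun i => i ∈ E)).card = 2 * n) :
    ∃ c ∈ gsup, c ∩ Ve = E ∩ Ve := by
  have h1 := cut_d0 E h
  have hw : (Cfsg.Agent.Lib.Helper36.d0)ᶜ ∩ Cfsg.Agent.Lib.Helper36.d0 = ∅ := by
    apply Finset.eq_empty_of_forall_notMem
    intro z hz
    rw [Finset.mem_inter, Finset.mem_compl] at hz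
    exact hz.1 hz.2
  exact cut_insert (j := some 5) (compl_mem_gsup Cfsg.Agent.Lib.Helper36.d0_mem.1) hw
    (Finset.mem_compl.mpr five_not_mem_d0) h1

/-! ### Representatives of the eight shapes -/

def r64a (c : ℕ) : ℤ := if c = 23 then 8 else 0

def r64b (c : ℕ) : ℤ := if (8388615 : ℕ).testBit c then 4 else 0

def r64c (c : ℕ) : ℤ := if c = 23 then -6 else if (8536111 : ℕ).testBit c then 2 else 0

def r64d (c : ℕ) : ℤ := if (8536111 : ℕ).testBit c then 2 else if c = 4 ∨ c = 6 then 4 else 0

def r64e (c : ℕ) : ℤ :=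
  if c = 0 then -2 else if (340831 : ℕ).testBit c then 2 else if c = 5 then 4 else 0

def r64f0 (c : ℕ) : ℤ := if (8536111 : ℕ).testBit c then 0 else 2

def r64f1 (c : ℕ) : ℤ := if (8536111 : ℕ).testBit c then 0 else if c = 4 ∨ c = 6 then -2 else 2

def r64g (c : ℕ) : ℤ := if (8388623 : ℕ).testBit c then -3 else 1

def r64h (c : ℕ) : ℤ := if c = 23 then 5 else if c = 0 ∨ c = 1 then -3 else 1

/-- `8` at the extra point. -/
def rep64a : GolayPt → ℤ := fun q => r64a (idx q)

/-- `4` on the reference tetrad. -/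
def rep64b : GolayPt → ℤ := fun q => r64b (idx q)

/-- `-6` at the extra point and `2` on the rest of the reference octad. -/
def rep64c : GolayPt → ℤ := fun q => r64c (idx q)

/-- `2` on the reference octad and `4` at the points `4` and `6`. -/
def rep64d : GolayPt → ℤ := fun q => r64d (idx q)

/-- `-2` at `0`, `2` on the rest of the standard dodecad, `4` at the point `5`. -/
def rep64e : GolayPt → ℤ := fun q => r64e (idx q)

/-- `2` off the reference octad. -/
def rep64f0 : GolayPt → ℤ := fun q => r64f0 (idx q)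

/-- `-2` at the points `4` and `6`, and `2` at the other points off the reference octad. -/
def rep64f1 : GolayPt → ℤ := fun q => r64f1 (idx q)

/-- `-3` on the reference pentad and `1` elsewhere. -/
def rep64g : GolayPt → ℤ := fun q => r64g (idx q)

/-- `5` at the extra point, `-3` at `0` and `1`, and `1` elsewhere. -/
def rep64h : GolayPt → ℤ := fun q => r64h (idx q)

theorem rep64a_sum : (∑ i, rep64a i) % 8 = 0 := by decide +kernel

theorem rep64b_sum : (∑ i, rep64b i) % 8 = 0 := by decide +kernel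

theorem rep64c_sum : (∑ i, rep64c i) % 8 = 0 := by decide +kernel

theorem rep64d_sum : (∑ i, rep64d i) % 8 = 0 := by decide +kernel

theorem rep64e_sum : (∑ i, rep64e i) % 8 = 0 := by decide +kernel

theorem rep64f0_sum : (∑ i, rep64f0 i) % 8 = 0 := by decide +kernel

theorem rep64a_spec : ∀ p : GolayPt, rep64a p = if p = none then 8 else 0 := by decide +kernel

theorem rep64a_T0 (i : GolayPt) (hi : i ∉ T0f) : rep64a i = 0 := by
  rw [T0f, Cfsg.Agent.Lib.Helper36.mem_ms] at hi
  revert i
  decide +kernel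

theorem rep64b_spec (p : GolayPt) : rep64b p = if p ∈ T0f then 4 else 0 := by
  rw [T0f]
  simp only [Cfsg.Agent.Lib.Helper36.mem_ms]
  rfl

theorem rep64c_spec (p : GolayPt) :
    rep64c p = if p = none then -6 else if p ∈ O0f then 2 else 0 := by
  simp only [mem_O0f]
  revert p
  decide +kernel

theorem rep64d_spec (p : GolayPt) :
    rep64d p = if p ∈ O0f then 2 else if p = some 4 ∨ p = some 6 then 4 else 0 := by
  simp only [mem_O0f]
  revert p
  decide +kernel

theorem rep64e_sq (p : GolayPt) :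
    rep64e p ^ 2 = if p ∈ Cfsg.Agent.Lib.Helper36.d0 then 4 else if p = some 5 then 16 else 0 := by
  rw [Cfsg.Agent.Lib.Helper36.d0]
  simp only [Cfsg.Agent.Lib.Helper36.mem_ms]
  revert p
  decide +kernel

theorem rep64e_Ve (i : GolayPt) (hi : i ∉ Ve) : rep64e i = 0 := by
  rw [Ve, Finset.mem_insert, Cfsg.Agent.Lib.Helper36.d0, Cfsg.Agent.Lib.Helper36.mem_ms] at hi
  revert i
  decide +kernel

theorem rep64f0_spec (p : GolayPt) : rep64f0 p = if p ∈ O0f then 0 else 2 := by
  simp only [mem_O0f]
  rfl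

theorem rep64f1_spec (p : GolayPt) :
    rep64f1 p = if p ∈ O0f then 0 else if p = some 4 ∨ p = some 6 then -2 else 2 := by
  simp only [mem_O0f]
  revert p
  decide +kernel

theorem rep64g_spec (p : GolayPt) : rep64g p = if p ∈ P5f then -3 else 1 := by
  rw [P5f]
  simp only [Cfsg.Agent.Lib.Helper36.mem_ms]
  rfl

theorem rep64h_spec : ∀ p : GolayPt,
    rep64h p = if p = none then 5 else if p = some 0 ∨ p = some 1 then -3 else 1 := by
  decide +kernel

/-! ### Vectors with all coordinates divisible by 4 -/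

theorem zero64 {x : GolayPt → ℤ} (hx : x ∈ leechLattice) (hn : sqNorm x = 64)
    (h4 : ∀ i, x i % 4 = 0) :
    (CoEq x rep64a ∧ ∃ p, x p ^ 2 = 64) ∨ (CoEq x rep64b ∧ ∀ p, x p ^ 2 ≠ 64) := by
  classical
  obtain ⟨-, hB, hC⟩ := even64_shape hn (S := ∅) (fun i hi => absurd hi (Finset.notMem_empty i))
    (fun i _ => h4 i)
  have h36 : (Finset.univ.filter
      (fun i => i ∈ (∅ : Finset GolayPt) ∧ x i ^ 2 = 36)).card = 0 := by
    rw [Finset.card_eq_zero, Finset.filter_eq_empty_iff]
    intro i _ h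
    exact absurd h.1 (Finset.notMem_empty i)
  rw [Finset.card_empty, h36] at hC
  have hmem16 : ∀ i, i ∈ Finset.univ.filter
      (fun i => i ∉ (∅ : Finset GolayPt) ∧ x i ^ 2 = 16) ↔ x i ^ 2 = 16 := by
    intro i
    rw [Finset.mem_filter]
    simp
  have hmem64 : ∀ i, i ∈ Finset.univ.filter
      (fun i => i ∉ (∅ : Finset GolayPt) ∧ x i ^ 2 = 64) ↔ x i ^ 2 = 64 := by
    intro i
    rw [Finset.mem_filter]
    simp
  have hB' : ∀ i, x i = 0 ∨ x i ^ 2 = 16 ∨ x i ^ 2 = 64 := fun i => hB i (Finset.notMem_empty i)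
  have hcases : ((Finset.univ.filter
      (fun i => i ∉ (∅ : Finset GolayPt) ∧ x i ^ 2 = 64)).card = 1 ∧ (Finset.univ.filter
      (fun i => i ∉ (∅ : Finset GolayPt) ∧ x i ^ 2 = 16)).card = 0) ∨ ((Finset.univ.filter
      (fun i => i ∉ (∅ : Finset GolayPt) ∧ x i ^ 2 = 64)).card = 0 ∧ (Finset.univ.filter
      (fun i => i ∉ (∅ : Finset GolayPt) ∧ x i ^ 2 = 16)).card = 4) := by omega
  have hS0 : ∀ i ∈ (∅ : Finset GolayPt), x i % 4 = 2 :=
    fun i hi => absurd hi (Finset.notMem_empty i)
  have hS0' : ∀ i, i ∉ (∅ : Finset GolayPt) → x i % 4 = 0 := fun i _ => h4 i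
  have hcut : ∀ E : Finset GolayPt,
      (∃ n, ((∅ : Finset GolayPt).filter (fun i => i ∈ E)).card = 2 * n) →
      ∃ c ∈ gsup, c ∩ T0f = E ∩ T0f := fun E _ => cut_T0 E
  rcases hcases with ⟨h64, h16⟩ | ⟨h64, h16⟩
  · left
    obtain ⟨p, hp⟩ := Finset.card_eq_one.mp h64
    have hp64 : x p ^ 2 = 64 := (hmem64 p).mp (by rw [hp]; exact Finset.mem_singleton_self p)
    have hz : ∀ i, i ≠ p → x i = 0 := by
      intro i hi
      rcases hB' i with h | h | h
      · exact h
      · have := (hmem16 i).mpr h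
        rw [Finset.card_eq_zero.mp h16] at this
        exact absurd this (Finset.notMem_empty i)
      · have := (hmem64 i).mpr h
        rw [hp, Finset.mem_singleton] at this
        exact absurd this hi
    refine ⟨?_, p, hp64⟩
    obtain ⟨σ, hσ, hσp⟩ := m24_trans1 p none
    refine coeq_frame_perm (S := ∅) (D := ∅) (V := T0f) (σ := σ) hx hσ hS0 hS0' (fun q => by simp)
      rep64a_sum ?_ rep64a_T0 hcut
    intro q
    rw [rep64a_spec]
    by_cases hq : q = p
    · rw [hq, hσp, if_pos rfl, hp64]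
      norm_num
    · have e1 : σ q ≠ none := fun h => hq (σ.injective (h.trans hσp.symm))
      rw [if_neg e1, hz q hq]
  · right
    have hno64 : ∀ p, x p ^ 2 ≠ 64 := by
      intro p h
      have := (hmem64 p).mpr h
      rw [Finset.card_eq_zero.mp h64] at this
      exact absurd this (Finset.notMem_empty p)
    refine ⟨?_, hno64⟩
    obtain ⟨σ, hσ, hσT⟩ := m24_trans_set (n := 4) (by norm_num) h16 card_T0f
    refine coeq_frame_perm (S := ∅) (D := ∅) (V := T0f) (σ := σ) hx hσ hS0 hS0' (fun q => by simp)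
      rep64b_sum ?_ (fun i hi => by rw [rep64b_spec, if_neg hi]) hcut
    intro q
    rw [rep64b_spec]
    by_cases hq : x q ^ 2 = 16
    · rw [if_pos ((hσT q).mpr ((hmem16 q).mpr hq)), hq]
      norm_num
    · rw [if_neg (fun h => hq ((hmem16 q).mp ((hσT q).mp h)))]
      rcases hB' q with h | h | h
      · rw [h]
      · exact absurd h hq
      · exact absurd h (hno64 q)

/-! ### Odd vectors -/

theorem odd64 {x : GolayPt → ℤ} (hx : x ∈ leechLattice) (hn : sqNorm x = 64) {i0 : GolayPt}
    (h1 : x i0 % 2 = 1) :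
    (CoEq x rep64g ∧ ∀ p, x p ^ 2 ≠ 25) ∨ (CoEq x rep64h ∧ ∃ p, x p ^ 2 = 25) := by
  classical
  obtain ⟨y, hxy, hy1, hsq⟩ := odd_struct hx h1
  have hyn : sqNorm y = 64 := by rw [hxy.norm, hn]
  simp only [← hsq]
  obtain ⟨hall, hcnt⟩ := odd64_shape hy1 hyn
  rcases hcnt with ⟨h3, h5⟩ | ⟨h3, h5⟩
  · left
    have hno5 : ∀ p, y p ≠ 5 := by
      intro p h
      have : p ∈ Finset.univ.filter (fun i => y i = 5) := by
        rw [Finset.mem_filter]
        exact ⟨Finset.mem_univ p, h⟩
      rw [Finset.card_eq_zero.mp h5] at this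
      exact absurd this (Finset.notMem_empty p)
    refine ⟨?_, ?_⟩
    · obtain ⟨σ, hσ, hσP⟩ := m24_trans_set (n := 5) (by norm_num) h3 card_P5f
      refine hxy.trans (coeq_perm' hxy.mem_right hσ ?_)
      intro q
      rw [rep64g_spec]
      by_cases hq : y q = -3
      · rw [if_pos ((hσP q).mpr (by rw [Finset.mem_filter]; exact ⟨Finset.mem_univ q, hq⟩)), hq]
      · rw [if_neg (fun h => hq (Finset.mem_filter.mp ((hσP q).mp h)).2)]
        rcases hall q with h | h | h
        · exact h.symm
        · exact absurd h hq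
        · exact absurd h (hno5 q)
    · intro p
      rcases hall p with h | h | h
      · rw [h]
        norm_num
      · rw [h]
        norm_num
      · exact absurd h (hno5 p)
  · right
    obtain ⟨k, hk⟩ := Finset.card_eq_one.mp h5
    obtain ⟨i, j, hij, hFe⟩ := Finset.card_eq_two.mp h3
    have hyk : y k = 5 := by
      have : k ∈ Finset.univ.filter (fun i => y i = 5) := by
        rw [hk]
        exact Finset.mem_singleton_self k
      exact (Finset.mem_filter.mp this).2
    have hyi : y i = -3 := by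
      have : i ∈ Finset.univ.filter (fun i => y i = -3) := by
        rw [hFe]
        simp
      exact (Finset.mem_filter.mp this).2
    have hyj : y j = -3 := by
      have : j ∈ Finset.univ.filter (fun i => y i = -3) := by
        rw [hFe]
        simp
      exact (Finset.mem_filter.mp this).2
    have hki : k ≠ i := fun h => by rw [h, hyi] at hyk; norm_num at hyk
    have hkj : k ≠ j := fun h => by rw [h, hyj] at hyk; norm_num at hyk
    have hyo : ∀ q, q ≠ k → q ≠ i → q ≠ j → y q = 1 := by
      intro q h1 h2 h3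
      rcases hall q with h | h | h
      · exact h
      · have : q ∈ Finset.univ.filter (fun i => y i = -3) := by
          rw [Finset.mem_filter]
          exact ⟨Finset.mem_univ q, h⟩
        rw [hFe, Finset.mem_insert, Finset.mem_singleton] at this
        tauto
      · have : q ∈ Finset.univ.filter (fun i => y i = 5) := by
          rw [Finset.mem_filter]
          exact ⟨Finset.mem_univ q, h⟩
        rw [hk, Finset.mem_singleton] at this
        exact absurd this h1
    refine ⟨?_, k, by rw [hyk]; norm_num⟩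
    obtain ⟨σ, hσ, h1, h2, h3⟩ := m24_trans3 hki hkj hij (q := none) (q' := some 0)
      (q'' := some 1) (by decide) (by decide) (by decide)
    refine hxy.trans (coeq_perm' hxy.mem_right hσ ?_)
    intro q
    rw [rep64h_spec]
    by_cases hqk : q = k
    · subst hqk
      rw [h1, if_pos rfl, hyk]
    · by_cases hqi : q = i
      · subst hqi
        rw [h2, if_neg (by decide), if_pos (Or.inl rfl), hyi]
      · by_cases hqj : q = j
        · subst hqj
          rw [h3, if_neg (by decide), if_pos (Or.inr rfl), hyj]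
        · have e1 : σ q ≠ none := fun h => hqk (σ.injective (h.trans h1.symm))
          have e2 : σ q ≠ some 0 := fun h => hqi (σ.injective (h.trans h2.symm))
          have e3 : σ q ≠ some 1 := fun h => hqj (σ.injective (h.trans h3.symm))
          rw [if_neg e1, if_neg (by tauto), hyo q hqk hqi hqj]

/-! ### Vectors with sixteen coordinates `±2` -/

/-- Octads meeting the reference octad in four points: the planes of the sixteen outside
points. -/
def planeTab : List ℕ :=
  [5279, 10558, 18147, 21116, 45159, 52005, 57883, 75309, 90318, 115766, 118953, 262637, 280334,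
   298027, 346141, 352547, 542009, 545190, 551943, 608810, 622863, 786999, 806987, 843820,
   1053483, 1065303, 1075305, 1103886, 1116327, 1327290, 1332261, 1573998, 1589901, 2115979,
   2121909, 2126890, 2130606, 2147405, 2162811, 2183687, 2377830, 2627629, 3227948, 3416079,
   3719203, 4196943, 4213932, 4216883, 4223245, 4243818, 4505735, 4526126, 4726955, 4800613,
   5268006, 5275709, 5325835, 6292775, 6570537, 6832158, 8391797, 8394986, 8398155, 8407702,
   8412681, 8414120, 8421811, 8426796, 8431757, 8455014, 8471941, 8474906, 8484900, 8505411,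
   8657159, 8660134, 8663097, 8675909, 8683614, 8704546, 8716939, 8733800, 8925710, 8931660,
   8937586, 8946281, 8963210, 8966165, 8978620, 8983587, 9193633, 9456930, 9462812, 9465987,
   9471495, 9486564, 9506893, 9519665, 9543722, 9701932, 9748745, 9963547, 9969957, 10305542,
   10486557, 10496547, 10506593, 10537016, 10543366, 10554382, 10765331, 10768524, 10846245,
   11010247, 11028004, 11100169, 11272490, 11535529, 11538486, 11551306, 12584506, 12587685,
   12599513, 12604486, 12641313, 12650793, 12656663, 12698124, 12861748, 12871690, 13124355,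
   13142054, 13370381, 13631886, 13893731, 14176296, 14688364, 14716939, 14762146, 15747077]

theorem planeTab_ok :
    planeTab.all (fun μ => inCode μ && (popc (μ &&& 8241104) == 4)) = true := by
  decide +kernel

/-- Every three points outside the reference octad lie in a plane. -/
def planeChk : Bool :=
  (List.range 24).all (fun i => (List.range 24).all (fun j => (List.range 24).all (fun k =>
    (8536111 : ℕ).testBit i || (8536111 : ℕ).testBit j || (8536111 : ℕ).testBit k ||
      (i == j) || (i == k) || (j == k) ||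
      planeTab.any (fun μ => μ.testBit i && μ.testBit j && μ.testBit k))))

theorem planeChk_eq : planeChk = true := by decide +kernel

theorem planeTab_cover : ∀ i < 24, ∀ j < 24, ∀ k < 24, (8536111 : ℕ).testBit i = false →
    (8536111 : ℕ).testBit j = false → (8536111 : ℕ).testBit k = false → i ≠ j → i ≠ k → j ≠ k →
    planeTab.any (fun μ => μ.testBit i && μ.testBit j && μ.testBit k) = true := by
  intro i hi j hj k hk h1 h2 h3 hij hik hjk
  have h := planeChk_eq
  unfold planeChk at h
  rw [List.all_eq_true] at h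
  have ha := h i (List.mem_range.mpr hi)
  rw [List.all_eq_true] at ha
  have hb := ha j (List.mem_range.mpr hj)
  rw [List.all_eq_true] at hb
  have hc := hb k (List.mem_range.mpr hk)
  rw [h1, h2, h3] at hc
  simp only [Bool.false_or, Bool.or_eq_true, beq_iff_eq] at hc
  rcases hc with ((h | h) | h) | h
  · exact absurd h hij
  · exact absurd h hik
  · exact absurd h hjk
  · exact h

theorem O0f_compl : O0fᶜ = Cfsg.Agent.Lib.Helper36.ms 8241104 := by
  rw [← ms_O0, ← Cfsg.Agent.Lib.Helper36.ms_compl]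
  rfl

theorem plane_exists {i j k : GolayPt} (hi : i ∉ O0f) (hj : j ∉ O0f) (hk : k ∉ O0f)
    (hij : i ≠ j) (hik : i ≠ k) (hjk : j ≠ k) :
    ∃ c ∈ gsup, i ∈ c ∧ j ∈ c ∧ k ∈ c ∧ (c ∩ O0fᶜ).card = 4 := by
  have hb : ∀ p : GolayPt, p ∉ O0f → (8536111 : ℕ).testBit (idx p) = false := by
    intro p hp
    by_contra hb
    rw [Bool.not_eq_false] at hb
    exact hp (mem_O0f.mpr hb)
  have h := planeTab_cover (idx i) (idx_lt i) (idx j) (idx_lt j) (idx k) (idx_lt k) (hb i hi)
    (hb j hj) (hb k hk) (fun h => hij (idx_injective h)) (fun h => hik (idx_injective h))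
    (fun h => hjk (idx_injective h))
  rw [List.any_eq_true] at h
  obtain ⟨μ, hμ, h3⟩ := h
  have h4 := List.all_eq_true.mp planeTab_ok μ hμ
  simp only [Bool.and_eq_true, beq_iff_eq] at h3 h4
  refine ⟨Cfsg.Agent.Lib.Helper36.ms μ, ms_mem_gsup h4.1,
    (Cfsg.Agent.Lib.Helper36.mem_ms _ _).mpr h3.1.1, (Cfsg.Agent.Lib.Helper36.mem_ms _ _).mpr h3.1.2,
    (Cfsg.Agent.Lib.Helper36.mem_ms _ _).mpr h3.2, ?_⟩
  rw [O0f_compl, ← Cfsg.Agent.Lib.Helper36.ms_and, Cfsg.Agent.Lib.Helper36.card_ms]
  exact h4.2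

/-- Modulo the code, a set of points outside the reference octad has at most two points. -/
theorem plane_reduce : ∀ (n : ℕ) (N : Finset GolayPt), N ⊆ O0fᶜ → N.card ≤ n →
    ∃ c ∈ gsup, (symmDiff N (c ∩ O0fᶜ)).card ≤ 2 := by
  intro n
  induction n with
  | zero =>
    intro N _ hN
    refine ⟨∅, Spor.empty_mem_supports_golayCode, ?_⟩
    rw [Finset.card_eq_zero.mp (Nat.le_zero.mp hN)]
    simp
  | succ n ih =>
    intro N hNU hN
    by_cases h2 : N.card ≤ 2
    · refine ⟨∅, Spor.empty_mem_supports_golayCode, ?_⟩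
      have e : symmDiff N (∅ ∩ O0fᶜ) = N := by
        ext z
        simp [Finset.mem_symmDiff]
      rw [e]
      exact h2
    · have h3 : 2 < N.card := by omega
      obtain ⟨i, hi, j, hj, k, hk, hij, hik, hjk⟩ := Finset.two_lt_card.mp h3
      obtain ⟨c0, hc0, hic, hjc, hkc, hc4⟩ := plane_exists (Finset.mem_compl.mp (hNU hi))
        (Finset.mem_compl.mp (hNU hj)) (Finset.mem_compl.mp (hNU hk)) hij hik hjk
      have hN1U : symmDiff N (c0 ∩ O0fᶜ) ⊆ O0fᶜ := by
        intro z hz
        rw [Finset.mem_symmDiff] at hz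
        rcases hz with hz | hz
        · exact hNU hz.1
        · exact (Finset.mem_inter.mp hz.1).2
      have hN1 : (symmDiff N (c0 ∩ O0fᶜ)).card ≤ n := by
        have h5 := card_symmDiff_add N (c0 ∩ O0fᶜ)
        have h6 : ({i, j, k} : Finset GolayPt) ⊆ N ∩ (c0 ∩ O0fᶜ) := by
          intro z hz
          rw [Finset.mem_insert, Finset.mem_insert, Finset.mem_singleton] at hz
          rw [Finset.mem_inter, Finset.mem_inter]
          rcases hz with rfl | rfl | rfl
          · exact ⟨hi, hic, hNU hi⟩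
          · exact ⟨hj, hjc, hNU hj⟩
          · exact ⟨hk, hkc, hNU hk⟩
        have h7 := Finset.card_le_card h6
        have h8 : ({i, j, k} : Finset GolayPt).card = 3 := Finset.card_eq_three.mpr
          ⟨i, j, k, hij, hik, hjk, rfl⟩
        omega
      obtain ⟨c1, hc1, h⟩ := ih _ hN1U hN1
      refine ⟨symmDiff c0 c1, symmDiff_mem_gsup hc0 hc1, ?_⟩
      have e : symmDiff N (symmDiff c0 c1 ∩ O0fᶜ) =
          symmDiff (symmDiff N (c0 ∩ O0fᶜ)) (c1 ∩ O0fᶜ) := by
        ext z
        simp only [Finset.mem_symmDiff, Finset.mem_inter, Finset.mem_compl]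
        tauto
      rw [e]
      exact h

/-- A vector with `±2` off the reference octad. -/
theorem f_frame {x : GolayPt → ℤ} (hx : x ∈ leechLattice) (h0 : ∀ i ∈ O0f, x i = 0)
    (h2 : ∀ i, i ∉ O0f → x i ^ 2 = 4) : CoEq x rep64f0 ∨ CoEq x rep64f1 := by
  classical
  have hpmx : ∀ i, i ∉ O0f → x i = 2 ∨ x i = -2 :=
    fun i hi => sq_eq_sq_cases 2 (by rw [h2 i hi]; norm_num)
  obtain ⟨c, hc, hcard⟩ := plane_reduce _ (O0fᶜ.filter (fun i => x i = -2))
    (Finset.filter_subset _ _) le_rfl
  have hxy : CoEq x (signVec c x) := coeq_sign hx hc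
  have hy0 : ∀ i ∈ O0f, signVec c x i = 0 := by
    intro i hi
    rw [signVec_apply, h0 i hi]
    split_ifs <;> rfl
  have hypm : ∀ i, i ∉ O0f → signVec c x i = 2 ∨ signVec c x i = -2 := by
    intro i hi
    rw [signVec_apply]
    rcases hpmx i hi with h | h <;> rw [h] <;> split_ifs <;> simp
  have hN' : O0fᶜ.filter (fun i => signVec c x i = -2) =
      symmDiff (O0fᶜ.filter (fun i => x i = -2)) (c ∩ O0fᶜ) := by
    ext i
    rw [Finset.mem_filter, Finset.mem_symmDiff, Finset.mem_filter, Finset.mem_inter,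
      Finset.mem_compl, signVec_apply]
    by_cases hi : i ∈ O0f
    · tauto
    · by_cases hm : i ∈ c
      · rw [if_pos hm]
        rcases hpmx i hi with h | h <;> rw [h] <;> simp [hi, hm]
      · rw [if_neg hm]
        simp [hi, hm]
  rw [← hN'] at hcard
  have hy8 : (∑ i, signVec c x i) % 8 = 0 :=
    sum_mod8_even hxy.mem_right (i := none) (by rw [hy0 none none_mem_O0f]; rfl)
  obtain ⟨n, hn⟩ := flip_even (x := rep64f0) (y := signVec c x) (D := O0fᶜ) rep64f0_sum hy8
    (fun i => by
      rw [rep64f0_spec]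
      by_cases hi : i ∈ O0f
      · rw [if_pos hi, hy0 i hi]
        left
        rfl
      · rw [if_neg hi]
        exact hypm i hi)
    (fun i hi => by
      rw [rep64f0_spec, if_neg (Finset.mem_compl.mp hi)]
      rfl)
    (fun i hi => by
      rw [Finset.mem_compl, not_not] at hi
      rw [rep64f0_spec, if_pos hi]
      rfl)
  have e2 : O0fᶜ.filter (fun i => signVec c x i ≠ rep64f0 i) =
      O0fᶜ.filter (fun i => signVec c x i = -2) := by
    apply Finset.filter_congr
    intro i hi
    rw [rep64f0_spec, if_neg (Finset.mem_compl.mp hi)]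
    rcases hypm i (Finset.mem_compl.mp hi) with h | h <;> rw [h] <;> norm_num
  rw [e2] at hn
  generalize signVec c x = y at hxy hy0 hypm hcard hn
  have hn01 : n = 0 ∨ n = 1 := by omega
  rcases hn01 with rfl | rfl
  · left
    have e : y = rep64f0 := by
      funext i
      rw [rep64f0_spec]
      by_cases hi : i ∈ O0f
      · rw [if_pos hi, hy0 i hi]
      · rw [if_neg hi]
        rcases hypm i hi with h | h
        · exact h
        · exfalso
          have : i ∈ O0fᶜ.filter (fun i => y i = -2) := by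
            rw [Finset.mem_filter, Finset.mem_compl]
            exact ⟨hi, h⟩
          rw [Finset.card_eq_zero.mp hn] at this
          exact absurd this (Finset.notMem_empty i)
    rw [← e]
    exact hxy
  · right
    obtain ⟨j1, j2, hj12, hM⟩ := Finset.card_eq_two.mp hn
    have hj1 : j1 ∈ O0fᶜ.filter (fun i => y i = -2) := by
      rw [hM]
      simp
    have hj2 : j2 ∈ O0fᶜ.filter (fun i => y i = -2) := by
      rw [hM]
      simp
    rw [Finset.mem_filter, Finset.mem_compl] at hj1 hj2
    obtain ⟨σ, hσ, hσO, hσ1, hσ2⟩ := oct0_out_two hj1.1 hj2.1 hj12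
    refine hxy.trans (coeq_perm' hxy.mem_right hσ ?_)
    intro q
    rw [rep64f1_spec]
    have hσmem : σ q ∈ O0f ↔ q ∈ O0f := by
      have := Finset.smul_mem_smul_finset_iff (a := σ) (b := q) (s := O0f)
      rw [hσO] at this
      exact this
    by_cases hq : q ∈ O0f
    · rw [if_pos (hσmem.mpr hq), hy0 q hq]
    · rw [if_neg (fun h => hq (hσmem.mp h))]
      by_cases hq1 : q = j1
      · rw [hq1, hσ1, if_pos (Or.inl rfl), hj1.2]
      · by_cases hq2 : q = j2
        · rw [hq2, hσ2, if_pos (Or.inr rfl), hj2.2]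
        · have e1 : σ q ≠ some 4 := fun h => hq1 (σ.injective (h.trans hσ1.symm))
          have e2 : σ q ≠ some 6 := fun h => hq2 (σ.injective (h.trans hσ2.symm))
          rw [if_neg (by tauto)]
          rcases hypm q hq with h | h
          · exact h.symm
          · exfalso
            have : q ∈ O0fᶜ.filter (fun i => y i = -2) := by
              rw [Finset.mem_filter, Finset.mem_compl]
              exact ⟨hq, h⟩
            rw [hM, Finset.mem_insert, Finset.mem_singleton] at this
            tauto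

/-! ### Even vectors with a coordinate congruent to 2 modulo 4 -/

theorem even64 {x : GolayPt → ℤ} (hx : x ∈ leechLattice) (hn : sqNorm x = 64) {i0 : GolayPt}
    (h2 : x i0 % 4 = 2) :
    (CoEq x rep64c ∧ ∃ p, x p ^ 2 = 36) ∨
      (CoEq x rep64d ∧ ∃ p q, p ≠ q ∧ x p ^ 2 = 16 ∧ x q ^ 2 = 16) ∨
      (CoEq x rep64e ∧ ∃ p, x p ^ 2 = 16 ∧ ∀ q, x q ^ 2 = 16 → q = p) ∨
      ((CoEq x rep64f0 ∨ CoEq x rep64f1) ∧ ∀ p, x p ^ 2 ≠ 16 ∧ x p ^ 2 ≠ 36) := by
  classical
  obtain ⟨S, hSg, hi0, hcard8, hin, hout, hsum8⟩ := even_struct hx h2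
  obtain ⟨hA, hB, hC⟩ := even64_shape hn hin hout
  obtain ⟨k, hk⟩ := golay_doubly_even hSg
  have m36 : ∀ i, i ∈ Finset.univ.filter (fun i => i ∈ S ∧ x i ^ 2 = 36) ↔
      i ∈ S ∧ x i ^ 2 = 36 := fun i => by
    rw [Finset.mem_filter]
    simp
  have m16 : ∀ i, i ∈ Finset.univ.filter (fun i => i ∉ S ∧ x i ^ 2 = 16) ↔
      i ∉ S ∧ x i ^ 2 = 16 := fun i => by
    rw [Finset.mem_filter]
    simp
  have m64 : ∀ i, i ∈ Finset.univ.filter (fun i => i ∉ S ∧ x i ^ 2 = 64) ↔
      i ∉ S ∧ x i ^ 2 = 64 := fun i => by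
    rw [Finset.mem_filter]
    simp
  generalize Finset.univ.filter (fun i => i ∈ S ∧ x i ^ 2 = 36) = F36 at hC m36
  generalize Finset.univ.filter (fun i => i ∉ S ∧ x i ^ 2 = 16) = F16 at hC m16
  generalize Finset.univ.filter (fun i => i ∉ S ∧ x i ^ 2 = 64) = F64 at hC m64
  have hcases : (S.card = 8 ∧ F36.card = 1 ∧ F16.card = 0 ∧ F64.card = 0) ∨
      (S.card = 8 ∧ F36.card = 0 ∧ F16.card = 2 ∧ F64.card = 0) ∨
      (S.card = 12 ∧ F36.card = 0 ∧ F16.card = 1 ∧ F64.card = 0) ∨
      (S.card = 16 ∧ F36.card = 0 ∧ F16.card = 0 ∧ F64.card = 0) := by omega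
  have h16out : ∀ q, x q ^ 2 = 16 → q ∈ F16 := by
    intro q h
    refine (m16 q).mpr ⟨fun hq => ?_, h⟩
    rcases hA q hq with h' | h' <;> omega
  have h64z : F64.card = 0 → ∀ i, i ∉ S → x i = 0 ∨ x i ^ 2 = 16 := by
    intro h64 i hi
    rcases hB i hi with h | h | h
    · exact Or.inl h
    · exact Or.inr h
    · have := (m64 i).mpr ⟨hi, h⟩
      rw [Finset.card_eq_zero.mp h64] at this
      exact absurd this (Finset.notMem_empty i)
  have h36z : F36.card = 0 → ∀ i ∈ S, x i ^ 2 = 4 := by
    intro h36 i hi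
    rcases hA i hi with h | h
    · exact h
    · have := (m36 i).mpr ⟨hi, h⟩
      rw [Finset.card_eq_zero.mp h36] at this
      exact absurd this (Finset.notMem_empty i)
  rcases hcases with ⟨hS8, h36, h16, h64⟩ | ⟨hS8, h36, h16, h64⟩ | ⟨hS12, h36, h16, h64⟩ |
    ⟨hS16, h36, h16, h64⟩
  · -- shape c
    left
    have hoct : S ∈ octads := ⟨hSg, hS8⟩
    obtain ⟨a, ha⟩ := Finset.card_eq_one.mp h36
    have haS : a ∈ S ∧ x a ^ 2 = 36 := (m36 a).mp (by rw [ha]; exact Finset.mem_singleton_self a)
    have hx4 : ∀ i ∈ S, i ≠ a → x i ^ 2 = 4 := by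
      intro i hi hia
      rcases hA i hi with h | h
      · exact h
      · have := (m36 i).mpr ⟨hi, h⟩
        rw [ha, Finset.mem_singleton] at this
        exact absurd this hia
    have hzero : ∀ i, i ∉ S → x i = 0 := by
      intro i hi
      rcases h64z h64 i hi with h | h
      · exact h
      · have := (m16 i).mpr ⟨hi, h⟩
        rw [Finset.card_eq_zero.mp h16] at this
        exact absurd this (Finset.notMem_empty i)
    refine ⟨?_, a, haS.2⟩
    obtain ⟨σ, hσ, hσS, hσa⟩ := oct_move_pt hoct haS.1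
    refine coeq_frame_perm (S := S) (D := O0f) (V := O0f) (σ := σ) hx hσ hin hout hσS rep64c_sum
      ?_ ?_ (cut_oct O0f_mem)
    · intro q
      rw [rep64c_spec]
      by_cases hqa : q = a
      · rw [hqa, hσa, if_pos rfl, haS.2]
        norm_num
      · have e1 : σ q ≠ none := fun h => hqa (σ.injective (h.trans hσa.symm))
        rw [if_neg e1]
        by_cases hq : q ∈ S
        · rw [if_pos ((hσS q).mpr hq), hx4 q hq hqa]
          norm_num
        · rw [if_neg (fun h => hq ((hσS q).mp h)), hzero q hq]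
    · intro i hi
      have hne : i ≠ none := fun h => hi (by rw [h]; exact none_mem_O0f)
      rw [rep64c_spec, if_neg hne, if_neg hi]
  · -- shape d
    right; left
    have hoct : S ∈ octads := ⟨hSg, hS8⟩
    obtain ⟨j1, j2, hj12, hF⟩ := Finset.card_eq_two.mp h16
    have hj1 : j1 ∉ S ∧ x j1 ^ 2 = 16 := (m16 j1).mp (by rw [hF]; simp)
    have hj2 : j2 ∉ S ∧ x j2 ^ 2 = 16 := (m16 j2).mp (by rw [hF]; simp)
    have hzero : ∀ i, i ∉ S → i ≠ j1 → i ≠ j2 → x i = 0 := by
      intro i hi h1 h2
      rcases h64z h64 i hi with h | h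
      · exact h
      · have := (m16 i).mpr ⟨hi, h⟩
        rw [hF, Finset.mem_insert, Finset.mem_singleton] at this
        tauto
    refine ⟨?_, j1, j2, hj12, hj1.2, hj2.2⟩
    obtain ⟨σ, hσ, hσS, hσ1, hσ2⟩ := oct_move_two hoct hj1.1 hj2.1 hj12
    refine coeq_frame_perm (S := S) (D := O0f) (V := Vd) (σ := σ) hx hσ hin hout hσS rep64d_sum
      ?_ ?_ cut_Vd
    · intro q
      rw [rep64d_spec]
      by_cases hq : q ∈ S
      · rw [if_pos ((hσS q).mpr hq), h36z h36 q hq]
        norm_num
      · rw [if_neg (fun h => hq ((hσS q).mp h))]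
        by_cases hq1 : q = j1
        · rw [hq1, hσ1, if_pos (Or.inl rfl), hj1.2]
          norm_num
        · by_cases hq2 : q = j2
          · rw [hq2, hσ2, if_pos (Or.inr rfl), hj2.2]
            norm_num
          · have e1 : σ q ≠ some 4 := fun h => hq1 (σ.injective (h.trans hσ1.symm))
            have e2 : σ q ≠ some 6 := fun h => hq2 (σ.injective (h.trans hσ2.symm))
            rw [if_neg (by tauto), hzero q hq hq1 hq2]
    · intro i hi
      rw [Vd, Finset.mem_insert, Finset.mem_insert] at hi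
      rw [rep64d_spec, if_neg (by tauto), if_neg (by tauto)]
  · -- shape e
    right; right; left
    have hdod : S ∈ dodecads := ⟨hSg, hS12⟩
    obtain ⟨j, hF⟩ := Finset.card_eq_one.mp h16
    have hj : j ∉ S ∧ x j ^ 2 = 16 := (m16 j).mp (by rw [hF]; exact Finset.mem_singleton_self j)
    have hzero : ∀ i, i ∉ S → i ≠ j → x i = 0 := by
      intro i hi h1
      rcases h64z h64 i hi with h | h
      · exact h
      · have := (m16 i).mpr ⟨hi, h⟩
        rw [hF, Finset.mem_singleton] at this
        exact absurd this h1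
    refine ⟨?_, j, hj.2, fun q hq => ?_⟩
    · obtain ⟨σ, hσ, hσS, hσj⟩ := dod_move hdod hj.1
      refine coeq_frame_perm (S := S) (D := Cfsg.Agent.Lib.Helper36.d0) (V := Ve) (σ := σ) hx hσ
        hin hout hσS rep64e_sum ?_ rep64e_Ve cut_Ve
      intro q
      rw [rep64e_sq]
      by_cases hq : q ∈ S
      · rw [if_pos ((hσS q).mpr hq), h36z h36 q hq]
      · rw [if_neg (fun h => hq ((hσS q).mp h))]
        by_cases hqj : q = j
        · rw [hqj, hσj, if_pos rfl, hj.2]
        · have e1 : σ q ≠ some 5 := fun h => hqj (σ.injective (h.trans hσj.symm))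
          rw [if_neg e1, hzero q hq hqj]
          norm_num
    · have := h16out q hq
      rw [hF, Finset.mem_singleton] at this
      exact this
  · -- shape f
    right; right; right
    have hzero : ∀ i, i ∉ S → x i = 0 := by
      intro i hi
      rcases h64z h64 i hi with h | h
      · exact h
      · have := (m16 i).mpr ⟨hi, h⟩
        rw [Finset.card_eq_zero.mp h16] at this
        exact absurd this (Finset.notMem_empty i)
    refine ⟨?_, fun p => ?_⟩
    · have hoct : Sᶜ ∈ octads := by
        refine ⟨compl_mem_gsup hSg, ?_⟩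
        have hcc : S.card + Sᶜ.card = 24 := by
          rw [Finset.card_add_card_compl]
          exact card_golayPt
        omega
      obtain ⟨σ, hσ, hσS⟩ := oct_move hoct
      have h1 := coeq_perm hx hσ
      have hf := f_frame h1.mem_right
        (fun i hi => by
          show x (σ.symm i) = 0
          apply hzero
          have := (hσS (σ.symm i)).mp (by rw [Equiv.apply_symm_apply]; exact hi)
          exact Finset.mem_compl.mp this)
        (fun i hi => by
          show x (σ.symm i) ^ 2 = 4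
          apply h36z h36
          by_contra hcon
          apply hi
          have := (hσS (σ.symm i)).mpr (Finset.mem_compl.mpr hcon)
          rw [Equiv.apply_symm_apply] at this
          exact this)
      rcases hf with h | h
      · exact Or.inl (h1.trans h)
      · exact Or.inr (h1.trans h)
    · by_cases hp : p ∈ S
      · rw [h36z h36 p hp]
        norm_num
      · rw [hzero p hp]
        norm_num

end Cfsg.Agent.Lib.Helper10
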