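import Mathlib
import Cfsg.Prelude.Def_Sporadic_a
import Cfsg.Agent.Lib.Helper10.Lambda4c

set_option autoImplicit false

namespace Cfsg.Agent.Lib.Helper10

open Cfsg Cfsg.Agent.Lib.Helper9
open scoped Pointwise

/-! ### Links between the shapes of squared length 64 -/

theorem coeq_xi_idx {L : ℕ → ℤ} (h : (fun q : GolayPt => L (idx q)) ∈ leechLattice) :
    CoEq (fun q : GolayPt => L (idx q)) (fun q : GolayPt => xi2N L (idx q) / 2) := by
  have h2 := coeq_xi h
  have e : xiVec (fun q : GolayPt => L (idx q)) = fun q : GolayPt => xi2N L (idx q) / 2 :=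
    funext (xiVec_idx L)
  rw [e] at h2
  exact h2

/-- `4` at the points `0, 1, 2, 3`. -/
def lBC (c : ℕ) : ℤ := if c ≤ 3 then 4 else 0

/-- `-6` at `0` and `2` on the rest of an octad. -/
def lCH (c : ℕ) : ℤ := if c = 0 then -6 else if (8391797 : ℕ).testBit c then 2 else 0

/-- `-3` at the points `0, …, 4` and `1` elsewhere. -/
def lHG (c : ℕ) : ℤ := if c ≤ 4 then -3 else 1

/-- `2` off an octad. -/
def lGF (c : ℕ) : ℤ := if (8391797 : ℕ).testBit c then 0 else 2

/-- `-6` at `0` and `2` on the rest of another octad. -/
def lCD (c : ℕ) : ℤ := if c = 0 then -6 else if (18147 : ℕ).testBit c then 2 else 0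

/-- `2` on an octad and `4` at the points `2` and `4`. -/
def lDE (c : ℕ) : ℤ := if (18147 : ℕ).testBit c then 2 else if c = 2 ∨ c = 4 then 4 else 0

theorem rep64a_mem : rep64a ∈ leechLattice :=
  mem_LL_of (Spor.mem_leechSet_of_const_mod_four _ 0 0 (by decide) (by decide +kernel)
    (by decide +kernel))

theorem lBC_mem : (fun q : GolayPt => lBC (idx q)) ∈ leechLattice :=
  mem_LL_of (Spor.mem_leechSet_of_const_mod_four _ 0 0 (by decide) (by decide +kernel)
    (by decide +kernel))

theorem lCH_mem : (fun q : GolayPt => lCH (idx q)) ∈ leechLattice := by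
  apply mem_LL_of
  rw [mem_leechSet_struct]
  exact ⟨0, by norm_num, 8391797, mem_sums_of_inCode (by decide +kernel), by decide +kernel,
    by decide +kernel⟩

theorem lHG_mem : (fun q : GolayPt => lHG (idx q)) ∈ leechLattice :=
  mem_LL_of (Spor.mem_leechSet_of_const_mod_four _ 1 1 (by decide) (by decide +kernel)
    (by decide +kernel))

theorem lGF_mem : (fun q : GolayPt => lGF (idx q)) ∈ leechLattice := by
  apply mem_LL_of
  rw [mem_leechSet_struct]
  exact ⟨0, by norm_num, 8385418, mem_sums_of_inCode (by decide +kernel), by decide +kernel,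
    by decide +kernel⟩

theorem lCD_mem : (fun q : GolayPt => lCD (idx q)) ∈ leechLattice := by
  apply mem_LL_of
  rw [mem_leechSet_struct]
  exact ⟨0, by norm_num, 18147, mem_sums_of_inCode (by decide +kernel), by decide +kernel,
    by decide +kernel⟩

theorem lDE_mem : (fun q : GolayPt => lDE (idx q)) ∈ leechLattice := by
  apply mem_LL_of
  rw [mem_leechSet_struct]
  exact ⟨0, by norm_num, 18147, mem_sums_of_inCode (by decide +kernel), by decide +kernel,
    by decide +kernel⟩

theorem rep64f1_mem : rep64f1 ∈ leechLattice := by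
  apply mem_LL_of
  rw [mem_leechSet_struct]
  exact ⟨0, by norm_num, 8241104, mem_sums_of_inCode (by decide +kernel), by decide +kernel,
    by decide +kernel⟩

theorem rep64a_norm : sqNorm rep64a = 64 := by decide +kernel

theorem lBC_norm : sqNorm (fun q : GolayPt => lBC (idx q)) = 64 := by decide +kernel

theorem lCH_norm : sqNorm (fun q : GolayPt => lCH (idx q)) = 64 := by decide +kernel

theorem lHG_norm : sqNorm (fun q : GolayPt => lHG (idx q)) = 64 := by decide +kernel

theorem lGF_norm : sqNorm (fun q : GolayPt => lGF (idx q)) = 64 := by decide +kernel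

theorem lCD_norm : sqNorm (fun q : GolayPt => lCD (idx q)) = 64 := by decide +kernel

theorem lDE_norm : sqNorm (fun q : GolayPt => lDE (idx q)) = 64 := by decide +kernel

theorem rep64f1_norm : sqNorm rep64f1 = 64 := by decide +kernel

theorem link64_ab : CoEq rep64a rep64b := by
  have h2 : CoEq rep64a (fun q : GolayPt => xi2N r64a (idx q) / 2) := coeq_xi_idx rep64a_mem
  refine h2.trans ?_
  rcases zero64 h2.mem_right (by rw [h2.norm, rep64a_norm]) (by decide +kernel) with h | h
  · exact absurd h.2 (by decide +kernel)
  · exact h.1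

theorem link64_bc : CoEq rep64b rep64c := by
  have h1 : CoEq (fun q : GolayPt => lBC (idx q)) rep64b := by
    rcases zero64 lBC_mem lBC_norm (by decide +kernel) with h | h
    · exact absurd h.2 (by decide +kernel)
    · exact h.1
  have h2 := coeq_xi_idx lBC_mem
  refine h1.symm.trans (h2.trans ?_)
  rcases even64 h2.mem_right (by rw [h2.norm, lBC_norm]) (i0 := some 0) (by decide +kernel)
    with h | h | h | h
  · exact h.1
  · exact absurd h.2 (by decide +kernel)
  · exact absurd h.2 (by decide +kernel)
  · exact absurd h.2 (by decide +kernel)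

theorem link64_ch : CoEq rep64c rep64h := by
  have h1 : CoEq (fun q : GolayPt => lCH (idx q)) rep64c := by
    rcases even64 lCH_mem lCH_norm (i0 := some 0) (by decide +kernel) with h | h | h | h
    · exact h.1
    · exact absurd h.2 (by decide +kernel)
    · exact absurd h.2 (by decide +kernel)
    · exact absurd h.2 (by decide +kernel)
  have h2 := coeq_xi_idx lCH_mem
  refine h1.symm.trans (h2.trans ?_)
  rcases odd64 h2.mem_right (by rw [h2.norm, lCH_norm]) (i0 := some 0) (by decide +kernel)
    with h | h
  · exact absurd h.2 (by decide +kernel)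
  · exact h.1

theorem link64_hg : CoEq rep64h rep64g := by
  have h1 : CoEq (fun q : GolayPt => lHG (idx q)) rep64g := by
    rcases odd64 lHG_mem lHG_norm (i0 := some 0) (by decide +kernel) with h | h
    · exact h.1
    · exact absurd h.2 (by decide +kernel)
  have h2 := coeq_xi_idx lHG_mem
  have h3 : CoEq (fun q : GolayPt => xi2N lHG (idx q) / 2) rep64h := by
    rcases odd64 h2.mem_right (by rw [h2.norm, lHG_norm]) (i0 := some 0) (by decide +kernel)
      with h | h
    · exact absurd h.2 (by decide +kernel)
    · exact h.1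
  exact h3.symm.trans (h2.symm.trans h1)

theorem link64_gf : CoEq rep64g rep64f0 := by
  have h1 : CoEq (fun q : GolayPt => lGF (idx q)) rep64f0 := by
    obtain ⟨σ, hσ, hσS⟩ := oct_move (S := Cfsg.Agent.Lib.Helper36.ms 8391797)
      (Cfsg.Agent.Lib.Helper36.ms_mem_octads (by decide +kernel) (by decide +kernel))
    refine coeq_perm' lGF_mem hσ ?_
    intro q
    rw [rep64f0_spec]
    have hq := hσS q
    rw [Cfsg.Agent.Lib.Helper36.mem_ms] at hq
    show _ = lGF (idx q)
    unfold lGF
    by_cases hb : (8391797 : ℕ).testBit (idx q) = true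
    · rw [if_pos (hq.mpr hb), if_pos hb]
    · rw [if_neg (fun h => hb (hq.mp h)), if_neg hb]
  have h2 := coeq_xi_idx lGF_mem
  have h3 : CoEq (fun q : GolayPt => xi2N lGF (idx q) / 2) rep64g := by
    rcases odd64 h2.mem_right (by rw [h2.norm, lGF_norm]) (i0 := some 0) (by decide +kernel)
      with h | h
    · exact h.1
    · exact absurd h.2 (by decide +kernel)
  exact h3.symm.trans (h2.symm.trans h1)

theorem link64_cd : CoEq rep64c rep64d := by
  have h1 : CoEq (fun q : GolayPt => lCD (idx q)) rep64c := by
    rcases even64 lCD_mem lCD_norm (i0 := some 0) (by decide +kernel) with h | h | h | h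
    · exact h.1
    · exact absurd h.2 (by decide +kernel)
    · exact absurd h.2 (by decide +kernel)
    · exact absurd h.2 (by decide +kernel)
  have h2 := coeq_xi_idx lCD_mem
  refine h1.symm.trans (h2.trans ?_)
  rcases even64 h2.mem_right (by rw [h2.norm, lCD_norm]) (i0 := some 2) (by decide +kernel)
    with h | h | h | h
  · exact absurd h.2 (by decide +kernel)
  · exact h.1
  · exact absurd h.2 (by decide +kernel)
  · exact absurd h.2 (by decide +kernel)

theorem link64_de : CoEq rep64d rep64e := by
  have h1 : CoEq (fun q : GolayPt => lDE (idx q)) rep64d := by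
    rcases even64 lDE_mem lDE_norm (i0 := some 0) (by decide +kernel) with h | h | h | h
    · exact absurd h.2 (by decide +kernel)
    · exact h.1
    · exact absurd h.2 (by decide +kernel)
    · exact absurd h.2 (by decide +kernel)
  have h2 := coeq_xi_idx lDE_mem
  refine h1.symm.trans (h2.trans ?_)
  rcases even64 h2.mem_right (by rw [h2.norm, lDE_norm]) (i0 := some 0) (by decide +kernel)
    with h | h | h | h
  · exact absurd h.2 (by decide +kernel)
  · exact absurd h.2 (by decide +kernel)
  · exact h.1
  · exact absurd h.2 (by decide +kernel)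

theorem link64_f1d : CoEq rep64f1 rep64d := by
  have h2 : CoEq rep64f1 (fun q : GolayPt => xi2N r64f1 (idx q) / 2) := coeq_xi_idx rep64f1_mem
  refine h2.trans ?_
  rcases even64 h2.mem_right (by rw [h2.norm, rep64f1_norm]) (i0 := some 8) (by decide +kernel)
    with h | h | h | h
  · exact absurd h.2 (by decide +kernel)
  · exact h.1
  · exact absurd h.2 (by decide +kernel)
  · exact absurd h.2 (by decide +kernel)

/-- Every lattice vector of squared length 64 is in the orbit of `(8, 0, …, 0)`. -/
theorem coeq_norm64 {x : GolayPt → ℤ} (hx : x ∈ leechLattice) (hn : sqNorm x = 64) :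
    CoEq x rep64a := by
  have hba : CoEq rep64b rep64a := link64_ab.symm
  have hca : CoEq rep64c rep64a := link64_bc.symm.trans hba
  have hha : CoEq rep64h rep64a := link64_ch.symm.trans hca
  have hga : CoEq rep64g rep64a := link64_hg.symm.trans hha
  have hda : CoEq rep64d rep64a := link64_cd.symm.trans hca
  by_cases hodd : x none % 2 = 1
  · rcases odd64 hx hn hodd with h | h
    · exact h.1.trans hga
    · exact h.1.trans hha
  · by_cases h2 : ∃ i, x i % 4 = 2
    · obtain ⟨i0, hi0⟩ := h2
      rcases even64 hx hn hi0 with h | h | h | h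
      · exact h.1.trans hca
      · exact h.1.trans hda
      · exact h.1.trans (link64_de.symm.trans hda)
      · rcases h.1 with h' | h'
        · exact h'.trans (link64_gf.symm.trans hga)
        · exact h'.trans (link64_f1d.trans hda)
    · have h4 : ∀ i, x i % 4 = 0 := by
        intro i
        obtain ⟨par, hpar, μ, hμ, hmod, -⟩ :=
          (mem_leechSet_struct x).mp ((mem_leechLattice_iff x).mp hx)
        have hp0 : par = 0 := by
          have := hmod none
          rcases bitZ_cases μ none with ⟨-, hz⟩ | ⟨-, hz⟩ <;> rw [hz] at this <;> omega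
        subst hp0
        have h3 : x i % 4 ≠ 2 := fun h => h2 ⟨i, h⟩
        have := hmod i
        rcases bitZ_cases μ i with ⟨-, hz⟩ | ⟨-, hz⟩ <;> rw [hz] at this <;> omega
      rcases zero64 hx hn h4 with h | h
      · exact h.1
      · exact h.1.trans hba

theorem trans_norm64 (v w : leechLattice) (hv : sqNorm (v : GolayPt → ℤ) = 64)
    (hw : sqNorm (w : GolayPt → ℤ) = 64) : ∃ g : Co0, g • v = w :=
  (coeq_iff v w).mp ((coeq_norm64 v.2 hv).trans (coeq_norm64 w.2 hw).symm)

end Cfsg.Agent.Lib.Helper10
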