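import Mathlib

set_option autoImplicit false

namespace Cfsg.Agent.Lib.Helper10

/-! ### Counting by digits of a product of sums of powers -/

/-- The base-`B` digit of `∑ x ∈ s, B ^ E x` at position `k` counts the `x` with `E x = k`,
as soon as `B` exceeds the number of elements of `s`. -/
theorem digit_sum {X : Type*} (s : Finset X) (E : X → ℕ) (B : ℕ) (hB : s.card < B) (k : ℕ) :
    ((∑ x ∈ s, B ^ E x) / B ^ k) % B = (s.filter (fun x => E x = k)).card := by
  classical
  have hB0 : 0 < B := by omega
  have h1 : ∑ x ∈ s, B ^ E x = ∑ x ∈ s.filter (fun x => E x < k), B ^ E x +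
      ∑ x ∈ s.filter (fun x => ¬ E x < k), B ^ E x :=
    (Finset.sum_filter_add_sum_filter_not s _ _).symm
  have h2 : ∑ x ∈ s.filter (fun x => ¬ E x < k), B ^ E x =
      B ^ k * ((s.filter (fun x => E x = k)).card +
        B * ∑ x ∈ s.filter (fun x => k < E x), B ^ (E x - k - 1)) := by
    rw [mul_add, ← Finset.sum_filter_add_sum_filter_not (s.filter (fun x => ¬ E x < k))
      (fun x => E x = k), Finset.filter_filter, Finset.filter_filter]
    have e1 : s.filter (fun x => ¬ E x < k ∧ E x = k) = s.filter (fun x => E x = k) := by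
      apply Finset.filter_congr
      intro x _
      omega
    have e2 : s.filter (fun x => ¬ E x < k ∧ ¬ E x = k) = s.filter (fun x => k < E x) := by
      apply Finset.filter_congr
      intro x _
      omega
    rw [e1, e2]
    congr 1
    · rw [Finset.sum_congr rfl (fun x hx => by rw [(Finset.mem_filter.mp hx).2]),
        Finset.sum_const, smul_eq_mul, mul_comm]
    · rw [Finset.mul_sum, Finset.mul_sum]
      apply Finset.sum_congr rfl
      intro x hx
      have hx' := (Finset.mem_filter.mp hx).2
      rw [← mul_assoc, ← pow_succ, ← pow_add]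
      congr 1
      omega
  have h3 : ∑ x ∈ s.filter (fun x => E x < k), B ^ E x < B ^ k := by
    have h4 : B * ∑ x ∈ s.filter (fun x => E x < k), B ^ E x ≤
        (s.filter (fun x => E x < k)).card * B ^ k := by
      rw [Finset.mul_sum]
      calc ∑ x ∈ s.filter (fun x => E x < k), B * B ^ E x
          ≤ ∑ x ∈ s.filter (fun x => E x < k), B ^ k := Finset.sum_le_sum (fun x hx => by
              have hx' := (Finset.mem_filter.mp hx).2
              rw [← pow_succ']
              exact Nat.pow_le_pow_right hB0 hx')
        _ = _ := by rw [Finset.sum_const, smul_eq_mul]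
    have hc : (s.filter (fun x => E x < k)).card < B :=
      lt_of_le_of_lt (Finset.card_filter_le _ _) hB
    by_contra hcon
    rw [not_lt] at hcon
    have h5 : B * B ^ k ≤ (s.filter (fun x => E x < k)).card * B ^ k :=
      le_trans (Nat.mul_le_mul_left B hcon) h4
    have hpos : 0 < B ^ k := Nat.pow_pos hB0
    have h6 := Nat.le_of_mul_le_mul_right h5 hpos
    omega
  rw [h1, h2, Nat.add_mul_div_left _ _ (Nat.pow_pos hB0), Nat.div_eq_of_lt h3, zero_add,
    Nat.add_mul_mod_self_left,
    Nat.mod_eq_of_lt (lt_of_le_of_lt (Finset.card_filter_le _ _) hB)]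

/-- A product of sums of powers is a sum of powers over the product set. -/
theorem prod_pow_sum {ι : Type*} [Fintype ι] [DecidableEq ι] (V : ι → Finset ℤ) (B : ℕ)
    (e : ℤ → ℕ) :
    ∏ i, ∑ v ∈ V i, B ^ e v = ∑ x ∈ Fintype.piFinset V, B ^ ∑ i, e (x i) := by
  rw [Finset.prod_univ_sum]
  apply Finset.sum_congr rfl
  intro x _
  rw [Finset.prod_pow_eq_pow_sum]

end Cfsg.Agent.Lib.Helper10
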