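import Mathlib
import Cfsg.Prelude.Def_Sporadic_a
import Cfsg.Agent.Lib.Helper9.Golay
import Cfsg.Agent.Lib.Helper10.LeechStruct
import Cfsg.Agent.Lib.Helper10.Kronecker

set_option autoImplicit false

namespace Cfsg.Agent.Lib.Helper10

open Cfsg Cfsg.Agent.Lib.Helper9

/-! ### Counting lattice vectors of a given norm -/

/-- The base. -/
def kB : ℕ := 2 ^ 64

/-- The multiplier separating the two components of the exponent. -/
def kK : ℕ := 2048

/-- The exponent attached to a coordinate value: its square and its residue modulo 8. -/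
def kE (v : ℤ) : ℕ := (v ^ 2).toNat + kK * (v % 8).toNat

/-- The coordinate values between `-8` and `8` congruent to `par + 2 * b` modulo 4. -/
def kV (par : ℕ) (b : Bool) : List ℤ :=
  match par, b with
  | 0, false => [-8, -4, 0, 4, 8]
  | 0, true => [-6, -2, 2, 6]
  | _, false => [-7, -3, 1, 5]
  | _, true => [-5, -1, 3, 7]

/-- The generating number of one coordinate. -/
def kP (par : ℕ) (b : Bool) : ℕ := ((kV par b).map (fun v => kB ^ kE v)).sum

/-- The generating number of all vectors of parity `par` over a code word of weight `t`. -/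
def kPi (par t : ℕ) : ℕ := kP par true ^ t * kP par false ^ (24 - t)

/-- The digit at position `k`. -/
def kDigit (n k : ℕ) : ℕ := (n >>> (64 * k)) % kB

/-- The admissible sums of residues modulo 8. -/
def kT (par : ℕ) : List ℕ := (List.range 169).filter (fun s => s % 8 == 4 * par)

/-- The number of vectors of parity `par` and norm `N` over a code word of weight `t`. -/
def kCnt (par t N : ℕ) : ℕ := ((kT par).map (fun s => kDigit (kPi par t) (N + kK * s))).sum

theorem kV_nodup (par : ℕ) (b : Bool) : (kV par b).Nodup := by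
  unfold kV
  split <;> decide

theorem kV_length (par : ℕ) (b : Bool) : (kV par b).length ≤ 5 := by
  unfold kV
  split <;> decide

theorem kT_nodup (par : ℕ) : (kT par).Nodup := List.Nodup.filter _ List.nodup_range

theorem mem_kV {par : ℕ} (hpar : par < 2) (b : Bool) (v : ℤ) :
    v ∈ kV par b ↔ (-8 ≤ v ∧ v ≤ 8 ∧ v % 4 = (par : ℤ) + 2 * (if b = true then 1 else 0)) := by
  interval_cases par <;> cases b <;> simp [kV] <;> omega

/-- The admissible values at the point `i`. -/
def kVf (par μ : ℕ) (i : GolayPt) : Finset ℤ := (kV par (μ.testBit (idx i))).toFinset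

/-- The vectors of parity `par` over the code word `μ` of norm `N`. -/
def classSet (par μ N : ℕ) : Finset (GolayPt → ℤ) :=
  (Fintype.piFinset (kVf par μ)).filter
    (fun x => (∑ i, x i) % 8 = 4 * (par : ℤ) ∧ sqNorm x = (N : ℤ))

theorem mem_pi_kVf {par : ℕ} (hpar : par < 2) (μ : ℕ) (x : GolayPt → ℤ) :
    x ∈ Fintype.piFinset (kVf par μ) ↔
      ∀ i, (-8 ≤ x i ∧ x i ≤ 8 ∧ x i % 4 = (par : ℤ) + 2 * bitZ μ i) := by
  rw [Fintype.mem_piFinset]
  apply forall_congr'
  intro i
  rw [kVf, List.mem_toFinset, mem_kV hpar]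
  rfl

theorem coord_bound {x : GolayPt → ℤ} {N : ℕ} (hN : N ≤ 64) (h : sqNorm x = (N : ℤ))
    (i : GolayPt) : -8 ≤ x i ∧ x i ≤ 8 := by
  have h1 : x i ^ 2 ≤ sqNorm x :=
    Finset.single_le_sum (f := fun j => x j ^ 2) (fun j _ => sq_nonneg (x j)) (Finset.mem_univ i)
  rw [h] at h1
  have h2 : x i ^ 2 ≤ 64 := le_trans h1 (by exact_mod_cast hN)
  constructor <;> nlinarith

theorem mem_classSet {par : ℕ} (hpar : par < 2) (μ : ℕ) {N : ℕ} (hN : N ≤ 64)
    (x : GolayPt → ℤ) :
    x ∈ classSet par μ N ↔ (∀ i, x i % 4 = (par : ℤ) + 2 * bitZ μ i) ∧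
      (∑ i, x i) % 8 = 4 * (par : ℤ) ∧ sqNorm x = (N : ℤ) := by
  rw [classSet, Finset.mem_filter, mem_pi_kVf hpar]
  constructor
  · rintro ⟨h1, h2, h3⟩
    exact ⟨fun i => (h1 i).2.2, h2, h3⟩
  · rintro ⟨h1, h2, h3⟩
    exact ⟨fun i => ⟨(coord_bound hN h3 i).1, (coord_bound hN h3 i).2, h1 i⟩, h2, h3⟩

theorem norm_set_eq {N : ℕ} (hN : N ≤ 64) :
    {x : GolayPt → ℤ | x ∈ leechLattice ∧ sqNorm x = (N : ℤ)} =
      ↑((Finset.range 2 ×ˢ (sums gB).toFinset).biUnion (fun pm => classSet pm.1 pm.2 N)) := by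
  ext x
  rw [Finset.mem_coe, Finset.mem_biUnion]
  show (x ∈ leechLattice ∧ sqNorm x = (N : ℤ)) ↔ _
  constructor
  · rintro ⟨hx, hn⟩
    obtain ⟨par, hpar, μ, hμ, h1, h2⟩ :=
      (mem_leechSet_struct x).mp ((mem_leechLattice_iff x).mp hx)
    exact ⟨(par, μ), Finset.mem_product.mpr ⟨Finset.mem_range.mpr hpar, List.mem_toFinset.mpr hμ⟩,
      (mem_classSet hpar μ hN x).mpr ⟨h1, h2, hn⟩⟩
  · rintro ⟨⟨par, μ⟩, hpm, hx⟩
    rw [Finset.mem_product] at hpm
    have hpar := Finset.mem_range.mp hpm.1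
    have hμ := List.mem_toFinset.mp hpm.2
    obtain ⟨h1, h2, h3⟩ := (mem_classSet hpar μ hN x).mp hx
    exact ⟨(mem_leechLattice_iff x).mpr ((mem_leechSet_struct x).mpr ⟨par, hpar, μ, hμ, h1, h2⟩),
      h3⟩

theorem classSet_disjoint {N : ℕ} (hN : N ≤ 64) :
    ((Finset.range 2 ×ˢ (sums gB).toFinset : Finset (ℕ × ℕ)) : Set (ℕ × ℕ)).PairwiseDisjoint
      (fun pm => classSet pm.1 pm.2 N) := by
  rintro ⟨par, μ⟩ hpm ⟨par', μ'⟩ hpm' hne
  rw [Finset.mem_coe, Finset.mem_product] at hpm hpm'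
  have hpar := Finset.mem_range.mp hpm.1
  have hμ := List.mem_toFinset.mp hpm.2
  have hpar' := Finset.mem_range.mp hpm'.1
  have hμ' := List.mem_toFinset.mp hpm'.2
  show Disjoint (classSet par μ N) (classSet par' μ' N)
  rw [Finset.disjoint_left]
  intro x hx hx'
  apply hne
  obtain ⟨h1, -, -⟩ := (mem_classSet hpar μ hN x).mp hx
  obtain ⟨h1', -, -⟩ := (mem_classSet hpar' μ' hN x).mp hx'
  have hpp : par = par' := by
    have a := h1 none
    have b := h1' none
    rcases bitZ_cases μ none with ⟨_, hz⟩ | ⟨_, hz⟩ <;>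
      rcases bitZ_cases μ' none with ⟨_, hz'⟩ | ⟨_, hz'⟩ <;> rw [hz] at a <;> rw [hz'] at b <;>
      omega
  subst hpp
  have hμμ : μ = μ' := by
    apply dec_injOn (sums_gB_lt μ hμ) (sums_gB_lt μ' hμ')
    funext i
    have a := h1 i
    have b := h1' i
    unfold dec
    rcases bitZ_cases μ i with ⟨hb, hz⟩ | ⟨hb, hz⟩ <;>
      rcases bitZ_cases μ' i with ⟨hb', hz'⟩ | ⟨hb', hz'⟩ <;> rw [hz] at a <;> rw [hz'] at b <;>
      rw [hb, hb'] <;> first | rfl | omega
  rw [hμμ]

theorem kP_eq (par μ : ℕ) (i : GolayPt) :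
    ∑ v ∈ kVf par μ i, kB ^ kE v = kP par (μ.testBit (idx i)) := by
  rw [kVf, List.sum_toFinset _ (kV_nodup par _)]
  rfl

theorem card_bits (μ : ℕ) :
    (Finset.univ.filter (fun i : GolayPt => μ.testBit (idx i) = true)).card = popc μ := by
  have hf : Finset.univ.filter (fun j : GolayPt => μ.testBit (idx j) = true) =
      support₂ (dec μ) := by
    ext j
    simp only [Finset.mem_filter, Finset.mem_univ, true_and, mem_support₂, dec_ne_zero_iff]
  rw [hf, card_support₂, hammingNorm_dec]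

theorem popc_le (μ : ℕ) : popc μ ≤ 24 := by
  rw [← card_bits]
  exact le_trans (Finset.card_filter_le _ _) (by decide)

theorem kPi_eq (par μ : ℕ) :
    kPi par (popc μ) = ∑ x ∈ Fintype.piFinset (kVf par μ), kB ^ ∑ i, kE (x i) := by
  rw [← prod_pow_sum]
  have h1 : ∀ i : GolayPt, ∑ v ∈ kVf par μ i, kB ^ kE v =
      if μ.testBit (idx i) = true then kP par true else kP par false := by
    intro i
    rw [kP_eq]
    cases μ.testBit (idx i) <;> simp
  rw [Finset.prod_congr rfl (fun i _ => h1 i), Finset.prod_ite, Finset.prod_const,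
    Finset.prod_const, card_bits]
  have h2 : (Finset.univ.filter (fun i : GolayPt => ¬ μ.testBit (idx i) = true)).card =
      24 - popc μ := by
    have h3 := Finset.card_filter_add_card_filter_not (s := (Finset.univ : Finset GolayPt))
      (fun i : GolayPt => μ.testBit (idx i) = true)
    rw [card_bits] at h3
    have h4 : (Finset.univ : Finset GolayPt).card = 24 := by decide
    omega
  rw [h2]
  rfl

theorem card_pi_lt (par μ : ℕ) : (Fintype.piFinset (kVf par μ)).card < kB := by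
  rw [Fintype.card_piFinset]
  have h1 : ∏ i, (kVf par μ i).card ≤ ∏ _i : GolayPt, 5 :=
    Finset.prod_le_prod (fun i _ => Nat.zero_le _)
      (fun i _ => le_trans (List.toFinset_card_le _) (kV_length par _))
  have h2 : ∏ _i : GolayPt, 5 = 5 ^ 24 := by
    rw [Finset.prod_const]
    rfl
  have h3 : 5 ^ 24 < kB := by
    unfold kB
    norm_num
  omega

theorem kE_cast (v : ℤ) : ((kE v : ℕ) : ℤ) = v ^ 2 + 2048 * (v % 8) := by
  unfold kE kK
  push_cast
  rw [Int.toNat_of_nonneg (sq_nonneg v), Int.toNat_of_nonneg (Int.emod_nonneg v (by norm_num))]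

theorem kE_sum_cast (x : GolayPt → ℤ) :
    ((∑ i, kE (x i) : ℕ) : ℤ) = sqNorm x + 2048 * ∑ i, x i % 8 := by
  rw [Nat.cast_sum]
  simp only [kE_cast]
  rw [Finset.sum_add_distrib, ← Finset.mul_sum]
  rfl

theorem class_iff {par : ℕ} (hpar : par < 2) (μ : ℕ) {N : ℕ} (hN : N ≤ 64) {x : GolayPt → ℤ}
    (hx : x ∈ Fintype.piFinset (kVf par μ)) :
    ((∑ i, x i) % 8 = 4 * (par : ℤ) ∧ sqNorm x = (N : ℤ)) ↔
      ∃ k ∈ kT par, ∑ i, kE (x i) = N + kK * k := by
  have hb := (mem_pi_kVf hpar μ x).mp hx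
  have hq0 : 0 ≤ sqNorm x := Finset.sum_nonneg (fun i _ => sq_nonneg (x i))
  have hq1 : sqNorm x ≤ 1536 := by
    have h1 : sqNorm x ≤ ∑ _i : GolayPt, (64 : ℤ) :=
      Finset.sum_le_sum (fun i _ => by
        have := hb i
        nlinarith)
    have h2 : ∑ _i : GolayPt, (64 : ℤ) = 1536 := by
      rw [Finset.sum_const]
      rfl
    omega
  have hS0 : 0 ≤ ∑ i, x i % 8 := Finset.sum_nonneg (fun i _ => Int.emod_nonneg _ (by norm_num))
  have hS1 : ∑ i, x i % 8 ≤ 168 := by
    have h1 : ∑ i, x i % 8 ≤ ∑ _i : GolayPt, (7 : ℤ) :=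
      Finset.sum_le_sum (fun i _ => by
        have := Int.emod_lt_of_pos (x i) (show (0 : ℤ) < 8 by norm_num)
        omega)
    have h2 : ∑ _i : GolayPt, (7 : ℤ) = 168 := by
      rw [Finset.sum_const]
      rfl
    omega
  have hmod : (∑ i, x i) % 8 = (∑ i, x i % 8) % 8 := Finset.sum_int_mod _ _ _
  have hE := kE_sum_cast x
  simp only [kT, List.mem_filter, List.mem_range, beq_iff_eq]
  unfold kK
  constructor
  · rintro ⟨h1, h2⟩
    refine ⟨(∑ i, x i % 8).toNat, ⟨by omega, by omega⟩, ?_⟩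
    omega
  · rintro ⟨k, ⟨hk1, hk2⟩, hk3⟩
    constructor <;> omega

theorem card_classSet {par : ℕ} (hpar : par < 2) (μ : ℕ) {N : ℕ} (hN : N ≤ 64) :
    (classSet par μ N).card = kCnt par (popc μ) N := by
  have h1 : classSet par μ N = (kT par).toFinset.biUnion
      (fun k => (Fintype.piFinset (kVf par μ)).filter (fun x => ∑ i, kE (x i) = N + kK * k)) := by
    ext x
    rw [classSet, Finset.mem_filter, Finset.mem_biUnion]
    constructor
    · rintro ⟨hx, hP⟩
      obtain ⟨k, hk, hk'⟩ := (class_iff hpar μ hN hx).mp hP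
      exact ⟨k, List.mem_toFinset.mpr hk, Finset.mem_filter.mpr ⟨hx, hk'⟩⟩
    · rintro ⟨k, hk, hx⟩
      rw [Finset.mem_filter] at hx
      exact ⟨hx.1, (class_iff hpar μ hN hx.1).mpr ⟨k, List.mem_toFinset.mp hk, hx.2⟩⟩
  rw [h1, Finset.card_biUnion]
  · rw [List.sum_toFinset _ (kT_nodup par)]
    unfold kCnt
    congr 1
    apply List.map_congr_left
    intro k _
    rw [kDigit, kPi_eq, Nat.shiftRight_eq_div_pow, pow_mul]
    exact (digit_sum _ _ kB (card_pi_lt par μ) _).symm
  · intro k _ k' _ hkk'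
    show Disjoint _ _
    rw [Finset.disjoint_left]
    intro x hx hx'
    rw [Finset.mem_filter] at hx hx'
    apply hkk'
    have h2 := hx.2.symm.trans hx'.2
    unfold kK at h2
    omega

theorem ncard_norm {N : ℕ} (hN : N ≤ 64) :
    {x : GolayPt → ℤ | x ∈ leechLattice ∧ sqNorm x = (N : ℤ)}.ncard =
      ((sums gB).map (fun μ => kCnt 0 (popc μ) N)).sum +
        ((sums gB).map (fun μ => kCnt 1 (popc μ) N)).sum := by
  have e : ∀ par < 2, ∑ μ ∈ (sums gB).toFinset, (classSet par μ N).card =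
      ((sums gB).map (fun μ => kCnt par (popc μ) N)).sum := by
    intro par hpar
    rw [← List.sum_toFinset _ nodup_sums_gB]
    apply Finset.sum_congr rfl
    intro μ _
    exact card_classSet hpar μ hN
  rw [norm_set_eq hN, Set.ncard_coe_finset, Finset.card_biUnion (classSet_disjoint hN),
    Finset.sum_product' (f := fun a b => (classSet a b N).card), Finset.sum_range_succ,
    Finset.sum_range_one, e 0 (by norm_num), e 1 (by norm_num)]

/-! ### Summation over the code by weight -/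

/-- Indicator of weight `t`. -/
def wInd (t μ : ℕ) : ℕ := if popc μ = t then 1 else 0

theorem wInd_counts : ((sums gB).map (wInd 0)).sum = 1 ∧ ((sums gB).map (wInd 8)).sum = 759 ∧
    ((sums gB).map (wInd 12)).sum = 2576 ∧ ((sums gB).map (wInd 16)).sum = 759 ∧
    ((sums gB).map (wInd 24)).sum = 1 := by decide +kernel

theorem sum_by_weight (f : ℕ → ℕ) :
    ((sums gB).map (fun μ => f (popc μ))).sum =
      f 0 + 759 * f 8 + 2576 * f 12 + 759 * f 16 + f 24 := by
  have key : ∀ μ ∈ sums gB, f (popc μ) = f 0 * wInd 0 μ + f 8 * wInd 8 μ + f 12 * wInd 12 μ +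
      f 16 * wInd 16 μ + f 24 * wInd 24 μ := by
    intro μ hμ
    have h := wtOK_of_mem_sums hμ
    simp only [wtOK, Bool.or_eq_true, beq_iff_eq] at h
    unfold wInd
    rcases h with (((h | h) | h) | h) | h <;> rw [h] <;> simp
  obtain ⟨c0, c8, c12, c16, c24⟩ := wInd_counts
  rw [List.map_congr_left key]
  simp only [List.sum_map_add, List.sum_map_mul_left]
  rw [c0, c8, c12, c16, c24]
  ring

end Cfsg.Agent.Lib.Helper10
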