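import Mathlib
import Cfsg.Prelude.Def_Sporadic_a
import Cfsg.Agent.Lib.Helper10.LeechCount

set_option autoImplicit false

namespace Cfsg.Agent.Lib.Helper10

open Cfsg Cfsg.Agent.Lib.Helper9

/-! ### The numbers of lattice vectors of norms 32, 48 and 64 -/

theorem kc_0_0 : kCnt 0 0 32 = 1104 ∧ kCnt 0 0 48 = 0 ∧
    kCnt 0 0 64 = 170064 := by decide +kernel

theorem kc_0_8 : kCnt 0 8 32 = 128 ∧ kCnt 0 8 48 = 4096 ∧
    kCnt 0 8 64 = 62464 := by decide +kernel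

theorem kc_0_12 : kCnt 0 12 32 = 0 ∧ kCnt 0 12 48 = 2048 ∧
    kCnt 0 12 64 = 49152 := by decide +kernel

theorem kc_0_16 : kCnt 0 16 32 = 0 ∧ kCnt 0 16 48 = 0 ∧
    kCnt 0 16 64 = 32768 := by decide +kernel

theorem kc_0_24 : kCnt 0 24 32 = 0 ∧ kCnt 0 24 48 = 0 ∧
    kCnt 0 24 64 = 0 := by decide +kernel

theorem kc_1_0 : kCnt 1 0 32 = 24 ∧ kCnt 1 0 48 = 2048 ∧
    kCnt 1 0 64 = 48576 := by decide +kernel

theorem kc_1_8 : kCnt 1 8 32 = 24 ∧ kCnt 1 8 48 = 2048 ∧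
    kCnt 1 8 64 = 48576 := by decide +kernel

theorem kc_1_12 : kCnt 1 12 32 = 24 ∧ kCnt 1 12 48 = 2048 ∧
    kCnt 1 12 64 = 48576 := by decide +kernel

theorem kc_1_16 : kCnt 1 16 32 = 24 ∧ kCnt 1 16 48 = 2048 ∧
    kCnt 1 16 64 = 48576 := by decide +kernel

theorem kc_1_24 : kCnt 1 24 32 = 24 ∧ kCnt 1 24 48 = 2048 ∧
    kCnt 1 24 64 = 48576 := by decide +kernel

theorem leech_count_32 :
    {x : GolayPt → ℤ | x ∈ leechLattice ∧ sqNorm x = 32}.ncard = 196560 := by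
  have h := ncard_norm (N := 32) (by norm_num)
  rw [sum_by_weight (fun t => kCnt 0 t 32), sum_by_weight (fun t => kCnt 1 t 32)] at h
  simp only [kc_0_0.1, kc_0_8.1, kc_0_12.1, kc_0_16.1, kc_0_24.1, kc_1_0.1, kc_1_8.1, kc_1_12.1, kc_1_16.1, kc_1_24.1] at h
  exact h

theorem leech_count_48 :
    {x : GolayPt → ℤ | x ∈ leechLattice ∧ sqNorm x = 48}.ncard = 16773120 := by
  have h := ncard_norm (N := 48) (by norm_num)
  rw [sum_by_weight (fun t => kCnt 0 t 48), sum_by_weight (fun t => kCnt 1 t 48)] at h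
  simp only [kc_0_0.2.1, kc_0_8.2.1, kc_0_12.2.1, kc_0_16.2.1, kc_0_24.2.1, kc_1_0.2.1, kc_1_8.2.1, kc_1_12.2.1, kc_1_16.2.1, kc_1_24.2.1] at h
  exact h

theorem leech_count_64 :
    {x : GolayPt → ℤ | x ∈ leechLattice ∧ sqNorm x = 64}.ncard = 398034000 := by
  have h := ncard_norm (N := 64) (by norm_num)
  rw [sum_by_weight (fun t => kCnt 0 t 64), sum_by_weight (fun t => kCnt 1 t 64)] at h
  simp only [kc_0_0.2.2, kc_0_8.2.2, kc_0_12.2.2, kc_0_16.2.2, kc_0_24.2.2, kc_1_0.2.2, kc_1_8.2.2, kc_1_12.2.2, kc_1_16.2.2, kc_1_24.2.2] at h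
  exact h

end Cfsg.Agent.Lib.Helper10
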