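import Mathlib
import Cfsg.Prelude.Def_Sporadic_a
import Cfsg.Prelude.Def_SporadicCombinatorics
import Cfsg.Agent.Lib.Helper10.Lambda2
import Cfsg.Agent.Lib.Helper9.M24Data

set_option autoImplicit false

namespace Cfsg.Agent.Lib.Helper10

open Cfsg Cfsg.Agent.Lib.Helper9
open scoped Pointwise

/-! ### The stabiliser of the standard cross -/

theorem dotInt_single (x : GolayPt → ℤ) (j : GolayPt) (s : ℤ) :
    dotInt x (Pi.single j s) = x j * s := by
  unfold dotInt
  rw [Finset.sum_eq_single j]
  · rw [Pi.single_eq_same]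
  · intro b _ hb
    rw [Pi.single_eq_of_ne hb, mul_zero]
  · intro h
    exact absurd (Finset.mem_univ j) h

theorem mem_M24_of_smul {π : Equiv.Perm GolayPt} (h : ∀ C ∈ gsup, π • C ∈ gsup) : π ∈ M24 := by
  have h1 : π⁻¹ ∈ M24 := by
    apply mem_M24_of_comp
    intro w hw
    obtain ⟨w', hw', he⟩ := h (support₂ w) ⟨w, hw, rfl⟩
    have he' : support₂ w' = support₂ (w ∘ ⇑π⁻¹) := by rw [he, smul_support₂]
    rw [← support₂_injective he']
    exact hw'
  have h2 := M24.inv_mem h1
  rwa [inv_inv] at h2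

theorem signedPerm_single (σ : Equiv.Perm GolayPt) (c : Finset GolayPt) (i : GolayPt) (s : ℤ) :
    signedPerm σ c (Pi.single i s) = Pi.single (σ i) (if σ i ∈ c then -s else s) := by
  funext j
  unfold signedPerm
  by_cases hj : j = σ i
  · subst hj
    rw [Equiv.symm_apply_apply, Pi.single_eq_same, Pi.single_eq_same]
  · have h1 : σ.symm j ≠ i := fun h => hj (by rw [← h, Equiv.apply_symm_apply])
    rw [Pi.single_eq_of_ne h1, Pi.single_eq_of_ne hj]
    simp

/-- An automorphism preserving the standard cross is a signed permutation from the monomial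
group of the code. -/
theorem monomial_of_cross {g : Equiv.Perm leechLattice} (hg : g ∈ Co0)
    (hc : ∀ v : leechLattice, (v : GolayPt → ℤ) ∈ stdCross →
      ((g v : leechLattice) : GolayPt → ℤ) ∈ stdCross) :
    ∃ σ ∈ M24, ∃ c ∈ gsup, ∀ v : leechLattice,
      ((g v : leechLattice) : GolayPt → ℤ) = signedPerm σ c (v : GolayPt → ℤ) := by
  classical
  have hax : ∀ i, ((axisVec i : leechLattice) : GolayPt → ℤ) ∈ stdCross :=
    fun i => ⟨i, 8, Or.inl rfl, rfl⟩
  choose π ε hε hπ using fun i => hc (axisVec i) (hax i)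
  have key : ∀ (v : leechLattice) (i : GolayPt),
      ((g v : leechLattice) : GolayPt → ℤ) (π i) * ε i = (v : GolayPt → ℤ) i * 8 := by
    intro v i
    have h := co0_dot hg v (axisVec i)
    rw [hπ i, dotInt_single] at h
    have h2 : ((axisVec i : leechLattice) : GolayPt → ℤ) = Pi.single i 8 := rfl
    rw [h2, dotInt_single] at h
    exact h
  have hε0 : ∀ i, ε i ≠ 0 := fun i => by rcases hε i with h | h <;> rw [h] <;> norm_num
  have hinj : Function.Injective π := by
    intro i i' hii
    by_contra hne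
    have h := key (axisVec i') i
    rw [hπ i', hii, Pi.single_eq_same] at h
    have h2 : ((axisVec i' : leechLattice) : GolayPt → ℤ) i = 0 := by
      rw [axisVec_apply, if_neg hne]
    rw [h2, zero_mul] at h
    rcases mul_eq_zero.mp h with h | h
    · exact hε0 i' h
    · exact hε0 i h
  have hbij : Function.Bijective π := Finite.injective_iff_bijective.mp hinj
  have hσ : ∀ i, (Equiv.ofBijective π hbij) i = π i := fun i => rfl
  generalize Equiv.ofBijective π hbij = σ at hσ
  have hmemc : ∀ j, j ∈ Finset.univ.filter (fun j => ε (σ.symm j) = -8) ↔ ε (σ.symm j) = -8 :=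
    fun j => by simp
  generalize Finset.univ.filter (fun j => ε (σ.symm j) = -8) = c at hmemc
  have formula : ∀ v : leechLattice,
      ((g v : leechLattice) : GolayPt → ℤ) = signedPerm σ c (v : GolayPt → ℤ) := by
    intro v
    funext j
    have h := key v (σ.symm j)
    rw [← hσ, Equiv.apply_symm_apply] at h
    unfold signedPerm
    by_cases hj : j ∈ c
    · rw [if_pos hj]
      rw [(hmemc j).mp hj] at h
      linarith
    · rw [if_neg hj]
      have h8 : ε (σ.symm j) = 8 := by
        rcases hε (σ.symm j) with h' | h'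
        · exact h'
        · exact absurd ((hmemc j).mpr h') hj
      rw [h8] at h
      linarith
  have hσM : σ ∈ M24 := by
    apply mem_M24_of_smul
    rintro C ⟨w, hw, rfl⟩
    obtain ⟨μ, hμ, rfl⟩ := (mem_golayCode_iff w).mp hw
    have hv := formula ⟨_, mem_LL_of (two_mask_mem hμ)⟩
    have hL := mem_set_of_LL (g ⟨_, mem_LL_of (two_mask_mem hμ)⟩)
    rw [hv, mem_leechSet_iff] at hL
    obtain ⟨m, -, -, h3⟩ := hL
    have h2 := h3 2
    have e : resSet (signedPerm σ c
        (fun j : GolayPt => if μ.testBit (idx j) then (2 : ℤ) else 0)) 2 =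
          σ • support₂ (dec μ) := by
      ext j
      rw [mem_resSet, ← Finset.inv_smul_mem_iff, mem_supp_dec]
      show (signedPerm σ c _ j) % 4 = 2 % 4 ↔ μ.testBit (idx (σ.symm j)) = true
      have hval : signedPerm σ c (fun j : GolayPt => if μ.testBit (idx j) then (2 : ℤ) else 0) j =
          if j ∈ c then -(if μ.testBit (idx (σ.symm j)) then (2 : ℤ) else 0)
            else (if μ.testBit (idx (σ.symm j)) then (2 : ℤ) else 0) := rfl
      rw [hval]
      rcases Bool.eq_false_or_eq_true (μ.testBit (idx (σ.symm j))) with hb | hb <;> rw [hb] <;>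
        by_cases hj : j ∈ c <;> simp [hj]
    rw [e] at h2
    exact h2
  have hcM : c ∈ gsup := by
    have hv := formula ⟨oddRep, link23.mem_right⟩
    have hL := mem_set_of_LL (g ⟨oddRep, link23.mem_right⟩)
    rw [hv, mem_leechSet_iff] at hL
    obtain ⟨m, -, -, h3⟩ := hL
    have h2 := h3 3
    have e : resSet (signedPerm σ c oddRep) 3 = c := by
      ext j
      rw [mem_resSet]
      unfold signedPerm oddRep
      by_cases hj : j ∈ c
      · simp only [hj, if_true, iff_true]
        split_ifs <;> norm_num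
      · simp only [hj, if_false, iff_false]
        split_ifs <;> norm_num
    rw [e] at h2
    exact h2
  exact ⟨σ, hσM, c, hcM, formula⟩

/-- The signed permutation of the lattice given by an element of the monomial group. -/
def monoPerm (σ : Equiv.Perm GolayPt) (hσ : σ ∈ M24) (c : Finset GolayPt) (hc : c ∈ gsup) :
    Equiv.Perm leechLattice := signPerm c hc * permPerm σ hσ

theorem monoPerm_apply (σ : Equiv.Perm GolayPt) (hσ : σ ∈ M24) (c : Finset GolayPt)
    (hc : c ∈ gsup) (v : leechLattice) :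
    ((monoPerm σ hσ c hc v : leechLattice) : GolayPt → ℤ) =
      signedPerm σ c (v : GolayPt → ℤ) := rfl

theorem monoPerm_mem (σ : Equiv.Perm GolayPt) (hσ : σ ∈ M24) (c : Finset GolayPt)
    (hc : c ∈ gsup) : monoPerm σ hσ c hc ∈ Co0 :=
  Co0.mul_mem (signPerm_mem c hc) (permPerm_mem σ hσ)

theorem monoPerm_cross (σ : Equiv.Perm GolayPt) (hσ : σ ∈ M24) (c : Finset GolayPt)
    (hc : c ∈ gsup) (v : leechLattice) (hv : (v : GolayPt → ℤ) ∈ stdCross) :
    ((monoPerm σ hσ c hc v : leechLattice) : GolayPt → ℤ) ∈ stdCross := by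
  obtain ⟨i, s, hs, hv⟩ := hv
  rw [monoPerm_apply, hv, signedPerm_single]
  refine ⟨σ i, _, ?_, rfl⟩
  split_ifs <;> rcases hs with rfl | rfl <;> simp

/-- The automorphisms of the lattice preserving the standard cross. -/
abbrev CrossStab : Type :=
  {g : ↥Co0 // ∀ v : ↥leechLattice, (v : GolayPt → ℤ) ∈ stdCross →
    ((g • v : ↥leechLattice) : GolayPt → ℤ) ∈ stdCross}

/-- The monomial group maps onto the stabiliser of the standard cross. -/
def monoMap (p : ↥M24 × ↥gsup) : CrossStab :=
  ⟨⟨monoPerm p.1.1 p.1.2 p.2.1 p.2.2, monoPerm_mem p.1.1 p.1.2 p.2.1 p.2.2⟩,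
    fun v hv => monoPerm_cross p.1.1 p.1.2 p.2.1 p.2.2 v hv⟩

theorem monoMap_injective : Function.Injective monoMap := by
  rintro ⟨⟨σ, hσ⟩, ⟨c, hc⟩⟩ ⟨⟨σ', hσ'⟩, ⟨c', hc'⟩⟩ h
  have h1 : ∀ v : leechLattice,
      signedPerm σ c (v : GolayPt → ℤ) = signedPerm σ' c' (v : GolayPt → ℤ) := by
    intro v
    have := congrArg (fun f : CrossStab => ((f.1.1 v : leechLattice) : GolayPt → ℤ)) h
    exact this
  have h2 : ∀ i, σ i = σ' i ∧ (σ i ∈ c ↔ σ i ∈ c') := by
    intro i
    have h3 := h1 (axisVec i)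
    have h4 : ((axisVec i : leechLattice) : GolayPt → ℤ) = Pi.single i 8 := rfl
    rw [h4, signedPerm_single, signedPerm_single] at h3
    have h5 := congrFun h3 (σ i)
    rw [Pi.single_eq_same] at h5
    have h6 : σ i = σ' i := by
      by_contra hne
      rw [Pi.single_eq_of_ne hne] at h5
      split_ifs at h5
      all_goals norm_num at h5
    refine ⟨h6, ?_⟩
    rw [← h6, Pi.single_eq_same] at h5
    by_cases ha : σ i ∈ c <;> by_cases hb : σ i ∈ c' <;> simp [ha, hb] at h5 ⊢
  have hσσ : σ = σ' := Equiv.ext fun i => (h2 i).1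
  subst hσσ
  have hcc : c = c' := by
    ext j
    have := (h2 (σ.symm j)).2
    rwa [Equiv.apply_symm_apply] at this
  subst hcc
  rfl

theorem monoMap_surjective : Function.Surjective monoMap := by
  rintro ⟨⟨g, hg⟩, hpres⟩
  obtain ⟨σ, hσ, c, hc, hf⟩ := monomial_of_cross hg hpres
  refine ⟨(⟨σ, hσ⟩, ⟨c, hc⟩), ?_⟩
  apply Subtype.ext
  apply Subtype.ext
  apply Equiv.ext
  intro v
  apply Subtype.ext
  exact (hf v).symm

theorem card_gsup : Nat.card ↥gsup = 4096 := by
  rw [Nat.card_coe_set_eq]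
  show (support₂ '' (golayCode : Set (GolayPt → ZMod 2))).ncard = 4096
  rw [Set.ncard_image_of_injective _ support₂_injective, ncard_golay]

theorem card_crossStab : Nat.card CrossStab = 4096 * 244823040 := by
  rw [← Nat.card_congr (Equiv.ofBijective monoMap ⟨monoMap_injective, monoMap_surjective⟩),
    Nat.card_prod, card_M24, card_gsup]

theorem cross_stab_monomial (g : ↥Co0)
    (h : ∀ v : ↥leechLattice, (v : GolayPt → ℤ) ∈ stdCross →
      ((g • v : ↥leechLattice) : GolayPt → ℤ) ∈ stdCross) :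
    ∃ f ∈ golayMonomialMaps, ∀ v : ↥leechLattice,
      ((g • v : ↥leechLattice) : GolayPt → ℤ) = f (v : GolayPt → ℤ) := by
  obtain ⟨σ, hσ, c, hc, hf⟩ := monomial_of_cross g.2 h
  exact ⟨signedPerm σ c, ⟨σ, hσ, c, hc, rfl⟩, hf⟩

end Cfsg.Agent.Lib.Helper10
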