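import Mathlib
import Cfsg.Prelude.Def_Sporadic_a
import Cfsg.Prelude.Def_SporadicCombinatorics
import Cfsg.Agent.Lib.Helper10.Lambda4d
import Cfsg.Agent.Lib.Helper10.Monomial
import Cfsg.Agent.Lib.Helper10.LeechCountNum

set_option autoImplicit false

namespace Cfsg.Agent.Lib.Helper10

open Cfsg Cfsg.Agent.Lib.Helper9
open scoped Pointwise

/-! ### Crosses -/

/-- The cross through a lattice vector, as a set of lattice vectors. -/
def crossL (v : leechLattice) : Set leechLattice :=
  {w | (w : GolayPt → ℤ) ∈ cross (v : GolayPt → ℤ)}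

theorem val_image_crossL (v : leechLattice) :
    Subtype.val '' crossL v = cross (v : GolayPt → ℤ) := by
  ext y
  constructor
  · rintro ⟨w, hw, rfl⟩
    exact hw
  · intro hy
    exact ⟨⟨y, hy.1⟩, hy, rfl⟩

theorem ncard_crossL (v : leechLattice) :
    (crossL v).ncard = (cross (v : GolayPt → ℤ)).ncard := by
  rw [← val_image_crossL, Set.ncard_image_of_injective _ Subtype.val_injective]

theorem co0_map_sub {f : Equiv.Perm leechLattice} (hf : f ∈ Co0) (v w : leechLattice) :
    f (v - w) = f v - f w := by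
  rw [sub_eq_add_neg, hf.1, co0_map_neg hf, ← sub_eq_add_neg]

theorem co0_map_two {f : Equiv.Perm leechLattice} (hf : f ∈ Co0) (z : leechLattice) :
    f (2 • z) = 2 • f z := by
  rw [two_nsmul, hf.1, two_nsmul]

theorem crossL_map {g : Equiv.Perm leechLattice} (hg : g ∈ Co0) (v : leechLattice)
    {w : leechLattice} (hw : w ∈ crossL v) : g w ∈ crossL (g v) := by
  obtain ⟨-, hn, z, hz, hvz⟩ := hw
  refine ⟨(g w).2, ?_, ((g ⟨z, hz⟩ : leechLattice) : GolayPt → ℤ), (g ⟨z, hz⟩).2, ?_⟩
  · rw [hg.2 w, hg.2 v]
    exact hn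
  · have e : v - w = 2 • (⟨z, hz⟩ : leechLattice) := Subtype.ext hvz
    have e2 : g v - g w = 2 • g ⟨z, hz⟩ := by rw [← co0_map_sub hg, e, co0_map_two hg]
    exact congrArg (fun u : leechLattice => (u : GolayPt → ℤ)) e2

theorem crossL_image {g : Equiv.Perm leechLattice} (hg : g ∈ Co0) (v : leechLattice) :
    g '' crossL v = crossL (g v) := by
  ext w
  constructor
  · rintro ⟨u, hu, rfl⟩
    exact crossL_map hg v hu
  · intro hw
    refine ⟨g⁻¹ w, ?_, Equiv.apply_symm_apply g w⟩
    have h := crossL_map (Co0.inv_mem hg) (g v) hw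
    have e : g⁻¹ (g v) = v := Equiv.symm_apply_apply g v
    rw [e] at h
    exact h

theorem sqNorm_single (i : GolayPt) (s : ℤ) : sqNorm (Pi.single i s : GolayPt → ℤ) = s ^ 2 := by
  unfold sqNorm
  rw [Finset.sum_eq_single i]
  · rw [Pi.single_eq_same]
  · intro b _ hb
    rw [Pi.single_eq_of_ne hb]
    norm_num
  · intro h
    exact absurd (Finset.mem_univ i) h

theorem stdCross_ncard : stdCross.ncard = 48 := by
  have e : stdCross = Set.range (fun p : GolayPt × Bool =>
      (Pi.single p.1 (if p.2 then (8 : ℤ) else -8) : GolayPt → ℤ)) := by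
    ext y
    constructor
    · rintro ⟨i, s, hs, rfl⟩
      rcases hs with rfl | rfl
      · exact ⟨(i, true), by simp⟩
      · exact ⟨(i, false), by simp⟩
    · rintro ⟨⟨i, b⟩, rfl⟩
      refine ⟨i, _, ?_, rfl⟩
      cases b <;> simp
  rw [e, Set.ncard_range_of_injective, Nat.card_prod]
  · rw [Nat.card_eq_fintype_card, Nat.card_eq_fintype_card]
    decide
  · rintro ⟨i, b⟩ ⟨j, b'⟩ h
    have h1 := congrFun h i
    simp only [Pi.single_eq_same] at h1
    have hij : i = j := by
      by_contra hne
      rw [Pi.single_eq_of_ne hne] at h1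
      cases b <;> simp at h1
    subst hij
    rw [Pi.single_eq_same] at h1
    have hb : b = b' := by
      cases b <;> cases b' <;> simp at h1 ⊢
    rw [hb]

theorem axis_norm (j : GolayPt) : sqNorm ((axisVec j : leechLattice) : GolayPt → ℤ) = 64 := by
  show sqNorm (Pi.single j (8 : ℤ) : GolayPt → ℤ) = 64
  rw [sqNorm_single]
  norm_num

theorem single_mem {i : GolayPt} {s : ℤ} (hs : s = 8 ∨ s = -8) :
    (Pi.single i s : GolayPt → ℤ) ∈ leechLattice := by
  rcases hs with rfl | rfl
  · exact (axisVec i).2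
  · rw [Pi.single_neg]
    exact leechLattice.neg_mem (axisVec i).2

/-- The cross through `8 e_∞` is the standard cross. -/
theorem cross_axis : cross ((axisVec none : leechLattice) : GolayPt → ℤ) = stdCross := by
  ext y
  constructor
  · rintro ⟨hy, hn, z, hz, hvz⟩
    have hn64 : ∑ i, y i ^ 2 = 64 := by
      rw [axis_norm] at hn
      exact hn
    have hy_eq : ∀ i, y i = (if i = none then 8 else 0) - 2 * z i := by
      intro i
      have h := congrFun hvz i
      rw [Pi.sub_apply, axisVec_apply, Pi.smul_apply, nsmul_eq_mul] at h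
      push_cast at h
      linarith
    obtain ⟨par, hpar, μ, hμ, hmod, -⟩ :=
      (mem_leechSet_struct z).mp ((mem_leechLattice_iff z).mp hz)
    have hp0 : par = 0 := by
      by_contra hne
      have hp1 : par = 1 := by omega
      subst hp1
      have hge : ∀ i, 4 ≤ y i ^ 2 := by
        intro i
        have h1 := hmod i
        have h2 := hy_eq i
        have h3 : y i % 4 = 2 := by
          rcases bitZ_cases μ i with ⟨-, hb⟩ | ⟨-, hb⟩ <;> rw [hb] at h1 <;> split_ifs at h2 <;>
            omega
        have h : y i ≤ -2 ∨ 2 ≤ y i := by omega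
        rcases h with h | h <;> nlinarith
      have h96 := Finset.card_nsmul_le_sum (Finset.univ : Finset GolayPt) (fun i => y i ^ 2) 4
        (fun i _ => hge i)
      rw [card_golayPt, hn64] at h96
      norm_num at h96
    subst hp0
    have hy8 : ∀ i, y i % 8 = 4 * bitZ μ i := by
      intro i
      have h1 := hmod i
      have h2 := hy_eq i
      rcases bitZ_cases μ i with ⟨-, hb⟩ | ⟨-, hb⟩ <;> rw [hb] at h1 ⊢ <;> split_ifs at h2 <;> omega
    have hC : ∀ i, bitZ μ i = 0 := by
      by_contra hcon
      rw [not_forall] at hcon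
      obtain ⟨i0, hi0⟩ := hcon
      have hSg : support₂ (dec μ) ∈ gsup := ⟨dec μ, dec_mem_golay hμ, rfl⟩
      have hi0S : i0 ∈ support₂ (dec μ) := by
        rw [mem_supp_dec]
        rcases bitZ_cases μ i0 with ⟨hb, -⟩ | ⟨-, hb⟩
        · exact hb
        · exact absurd hb hi0
      obtain ⟨k, hk⟩ := golay_doubly_even hSg
      have hne := no_weight4 hSg
      have hpos : 0 < (support₂ (dec μ)).card := Finset.card_pos.mpr ⟨i0, hi0S⟩
      have hcard8 : 8 ≤ (support₂ (dec μ)).card := by omega
      have hge : ∀ i ∈ support₂ (dec μ), 16 ≤ y i ^ 2 := by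
        intro i hi
        have h8 := hy8 i
        rw [mem_supp_dec] at hi
        rcases bitZ_cases μ i with ⟨-, hb⟩ | ⟨hb', -⟩
        · rw [hb] at h8
          have h : y i ≤ -4 ∨ 4 ≤ y i := by omega
          rcases h with h | h <;> nlinarith
        · rw [hb'] at hi
          exact absurd hi (by decide)
      have h1 := Finset.card_nsmul_le_sum (support₂ (dec μ)) (fun i => y i ^ 2) 16 hge
      have h2 : ∑ i ∈ support₂ (dec μ), y i ^ 2 ≤ ∑ i, y i ^ 2 :=
        Finset.sum_le_sum_of_subset_of_nonneg (Finset.subset_univ _) (fun i _ _ => sq_nonneg _)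
      rw [nsmul_eq_mul] at h1
      have h3 : (8 : ℤ) ≤ ((support₂ (dec μ)).card : ℤ) := by exact_mod_cast hcard8
      linarith
    have hge64 : ∀ i, y i ≠ 0 → 64 ≤ y i ^ 2 := by
      intro i hi
      have h8 := hy8 i
      rw [hC i] at h8
      have h : y i ≤ -8 ∨ 8 ≤ y i := by omega
      rcases h with h | h <;> nlinarith
    have hex : ∃ j, y j ≠ 0 := by
      by_contra hcon
      have hcon' : ∀ i, y i = 0 := fun i => by
        by_contra h
        exact hcon ⟨i, h⟩
      rw [Finset.sum_eq_zero (fun i _ => by rw [hcon' i]; norm_num)] at hn64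
      norm_num at hn64
    obtain ⟨j, hj⟩ := hex
    have hsplit : ∑ i, y i ^ 2 = y j ^ 2 + ∑ i ∈ Finset.univ.erase j, y i ^ 2 :=
      (Finset.add_sum_erase _ _ (Finset.mem_univ j)).symm
    have hnn : 0 ≤ ∑ i ∈ Finset.univ.erase j, y i ^ 2 :=
      Finset.sum_nonneg (fun i _ => sq_nonneg _)
    have h64 := hge64 j hj
    have hyj : y j ^ 2 = 64 := by linarith
    have hz0 : ∀ i, i ≠ j → y i = 0 := by
      intro i hi
      by_contra hne
      have h1 : y i ^ 2 ≤ ∑ k ∈ Finset.univ.erase j, y k ^ 2 :=
        Finset.single_le_sum (f := fun k => y k ^ 2) (fun k _ => sq_nonneg _)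
          (Finset.mem_erase.mpr ⟨hi, Finset.mem_univ i⟩)
      have := hge64 i hne
      linarith
    refine ⟨j, y j, sq_eq_sq_cases 8 (by rw [hyj]; norm_num), ?_⟩
    funext i
    by_cases hi : i = j
    · subst hi
      rw [Pi.single_eq_same]
    · rw [Pi.single_eq_of_ne hi, hz0 i hi]
  · rintro ⟨i, s, hs, rfl⟩
    refine ⟨single_mem hs, ?_, ?_⟩
    · rw [axis_norm, sqNorm_single]
      rcases hs with rfl | rfl <;> norm_num
    · refine ⟨fun j => (if j = none then 4 else 0) - (if j = i then s / 2 else 0), ?_, ?_⟩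
      · apply mem_LL_of
        apply Spor.mem_leechSet_of_const_mod_four _ 0 0 (by decide)
        · intro j
          rcases hs with rfl | rfl <;> split_ifs <;> decide
        · rw [Finset.sum_sub_distrib, Finset.sum_ite_eq', Finset.sum_ite_eq']
          simp only [Finset.mem_univ, if_true]
          rcases hs with rfl | rfl <;> decide
      · funext j
        rw [Pi.sub_apply, axisVec_apply, Pi.smul_apply, nsmul_eq_mul, Pi.single_apply]
        push_cast
        rcases hs with rfl | rfl <;> split_ifs <;> norm_num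

/-- Every cross has 48 vectors. -/
theorem cross_ncard {x : GolayPt → ℤ} (hx : x ∈ leechLattice) (hxn : sqNorm x = 64) :
    (cross x).ncard = 48 := by
  obtain ⟨g, hg⟩ := trans_norm64 (axisVec none) ⟨x, hx⟩ (axis_norm none) hxn
  have h1 : crossL ⟨x, hx⟩ = (g : Equiv.Perm leechLattice) '' crossL (axisVec none) := by
    rw [crossL_image g.2]
    congr 1
    exact hg.symm
  have h2 : (crossL ⟨x, hx⟩).ncard = (cross x).ncard := ncard_crossL ⟨x, hx⟩
  rw [← h2, h1, Set.ncard_image_of_injective _ (g : Equiv.Perm leechLattice).injective,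
    ncard_crossL, cross_axis, stdCross_ncard]

/-! ### The order of the automorphism group -/

theorem mem_crossL_axis (v : leechLattice) :
    v ∈ crossL (axisVec none) ↔ (v : GolayPt → ℤ) ∈ stdCross := by
  show (v : GolayPt → ℤ) ∈ cross _ ↔ _
  rw [cross_axis]

/-- The stabiliser of the standard cross, as a subgroup. -/
def crossSub : Subgroup ↥Co0 where
  carrier := {g | ∀ v : leechLattice, (v : GolayPt → ℤ) ∈ stdCross →
    ((g • v : leechLattice) : GolayPt → ℤ) ∈ stdCross}
  one_mem' := fun v hv => by
    rw [one_smul]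
    exact hv
  mul_mem' := fun {a b} ha hb v hv => by
    rw [mul_smul]
    exact ha _ (hb v hv)
  inv_mem' := by
    intro g hg w hw
    have hfin : (crossL (axisVec none)).Finite := Set.finite_of_ncard_ne_zero (by
      rw [ncard_crossL, cross_axis, stdCross_ncard]
      norm_num)
    have hsub : (fun v : leechLattice => g • v) '' crossL (axisVec none) ⊆
        crossL (axisVec none) := by
      rintro _ ⟨v, hv, rfl⟩
      exact (mem_crossL_axis _).mpr (hg v ((mem_crossL_axis v).mp hv))
    have heq := Set.eq_of_subset_of_ncard_le hsub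
      (by rw [Set.ncard_image_of_injective _ (MulAction.injective g)]) hfin
    have hw' : w ∈ (fun v : leechLattice => g • v) '' crossL (axisVec none) := by
      rw [heq]
      exact (mem_crossL_axis w).mpr hw
    obtain ⟨v, hv, rfl⟩ := hw'
    show ((g⁻¹ • g • v : leechLattice) : GolayPt → ℤ) ∈ stdCross
    rw [inv_smul_smul]
    exact (mem_crossL_axis v).mp hv

theorem card_crossSub : Nat.card crossSub = 4096 * 244823040 := by
  rw [← card_crossStab]
  exact Nat.card_congr (Equiv.subtypeEquivRight (fun g => Iff.rfl))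

theorem orbit_axis : MulAction.orbit ↥Co0 (axisVec none) =
    {v : leechLattice | sqNorm (v : GolayPt → ℤ) = 64} := by
  ext v
  constructor
  · rintro ⟨g, rfl⟩
    show sqNorm ((g • axisVec none : leechLattice) : GolayPt → ℤ) = 64
    rw [← axis_norm none]
    exact g.2.2 (axisVec none)
  · intro hv
    obtain ⟨g, hg⟩ := trans_norm64 (axisVec none) v (axis_norm none) hv
    exact ⟨g, hg⟩

theorem ncard_norm64 :
    {v : leechLattice | sqNorm (v : GolayPt → ℤ) = 64}.ncard = 398034000 := by
  rw [← leech_count_64, ← Set.ncard_image_of_injective _ Subtype.val_injective]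
  congr 1
  ext y
  constructor
  · rintro ⟨v, hv, rfl⟩
    exact ⟨v.2, hv⟩
  · rintro ⟨hy, hn⟩
    exact ⟨⟨y, hy⟩, hn, rfl⟩

theorem stab_le_crossSub : MulAction.stabilizer ↥Co0 (axisVec none) ≤ crossSub := by
  intro g hg v hv
  rw [MulAction.mem_stabilizer_iff] at hg
  have h := crossL_map g.2 (axisVec none) (w := v) ((mem_crossL_axis v).mpr hv)
  have e : (g : Equiv.Perm leechLattice) (axisVec none) = axisVec none := hg
  rw [e] at h
  exact (mem_crossL_axis _).mp h

theorem orbit_crossSub :
    MulAction.orbit ↥crossSub (axisVec none) = crossL (axisVec none) := by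
  ext w
  constructor
  · rintro ⟨h, rfl⟩
    exact (mem_crossL_axis _).mpr (h.2 (axisVec none) ⟨none, 8, Or.inl rfl, rfl⟩)
  · intro hw
    obtain ⟨i, s, hs, hws⟩ := (mem_crossL_axis w).mp hw
    obtain ⟨σ, hσ, hσi⟩ := m24_trans1 none i
    have hc : ∃ c ∈ gsup, (i ∈ c ↔ s = -8) := by
      rcases hs with rfl | rfl
      · exact ⟨∅, Spor.empty_mem_supports_golayCode, by simp⟩
      · exact ⟨Finset.univ, Spor.univ_mem_supports_golayCode, by simp⟩
    obtain ⟨c, hc, hci⟩ := hc
    refine ⟨⟨⟨monoPerm σ hσ c hc, monoPerm_mem σ hσ c hc⟩,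
      fun v hv => monoPerm_cross σ hσ c hc v hv⟩, ?_⟩
    apply Subtype.ext
    show ((monoPerm σ hσ c hc (axisVec none) : leechLattice) : GolayPt → ℤ) = w
    have h4 : ((axisVec none : leechLattice) : GolayPt → ℤ) = Pi.single none 8 := rfl
    rw [monoPerm_apply, hws, h4, signedPerm_single, hσi]
    congr 1
    rcases hs with rfl | rfl
    · rw [if_neg (fun h => by have := hci.mp h; norm_num at this)]
    · rw [if_pos (hci.mpr rfl)]

/-- The order of the automorphism group of the lattice. -/
theorem card_co0 : Nat.card ↥Co0 = 8315553613086720000 := by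
  have h1 := Subgroup.index_mul_card (MulAction.stabilizer ↥Co0 (axisVec none))
  rw [MulAction.index_stabilizer, orbit_axis, ncard_norm64] at h1
  have h2 := Subgroup.index_mul_card
    ((MulAction.stabilizer ↥Co0 (axisVec none)).subgroupOf crossSub)
  have h3 : (MulAction.stabilizer ↥Co0 (axisVec none)).subgroupOf crossSub =
      MulAction.stabilizer ↥crossSub (axisVec none) := by
    ext h
    rw [Subgroup.mem_subgroupOf, MulAction.mem_stabilizer_iff, MulAction.mem_stabilizer_iff]
    rfl
  have h4 : Nat.card ((MulAction.stabilizer ↥Co0 (axisVec none)).subgroupOf crossSub) =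
      Nat.card (MulAction.stabilizer ↥Co0 (axisVec none)) :=
    Nat.card_congr (Subgroup.subgroupOfEquivOfLe stab_le_crossSub).toEquiv
  rw [h4, h3, MulAction.index_stabilizer, orbit_crossSub, ncard_crossL, cross_axis, stdCross_ncard,
    card_crossSub] at h2
  omega

end Cfsg.Agent.Lib.Helper10
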