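import Mathlib
import Cfsg.Prelude.Def_Sporadic_a
import Cfsg.Agent.Lib.Helper9.Golay
import Cfsg.Agent.Lib.Helper10.LeechCount
import Cfsg.Agent.Lib.Helper10.Co0Center
import Cfsg.Agent.Lib.Helper10.Co0Perm

set_option autoImplicit false

namespace Cfsg.Agent.Lib.Helper10

open Cfsg Cfsg.Agent.Lib.Helper9

/-! ### Counting minimal vectors by their dot product with `(a, 1, …, 1)` -/

/-- The vector with coordinate `a` at the point at infinity and `1` elsewhere. -/
def cvec (a : ℤ) : GolayPt → ℤ := fun q => if q = none then a else 1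

/-- The base. -/
def dB : ℕ := 2 ^ 40

/-- The multiplier separating the two components of the exponent. -/
def dK : ℕ := 1024

/-- The exponent attached to a coordinate value `v` at a coordinate of coefficient `c`. -/
def dE (c v : ℤ) : ℕ := (v * v).toNat + dK * (c * v + 5 * (c.natAbs : ℤ)).toNat

/-- The coordinate values between `-5` and `5` congruent to `par + 2 * b` modulo 4. -/
def dV (par : ℕ) (b : Bool) : List ℤ :=
  match par, b with
  | 0, false => [-4, 0, 4]
  | 0, true => [-2, 2]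
  | _, false => [-3, 1, 5]
  | _, true => [-5, -1, 3]

/-- The generating number of one coordinate of coefficient `c`. -/
def dP (c : ℤ) (par : ℕ) (b : Bool) : ℕ := ((dV par b).map (fun v => dB ^ dE c v)).sum

/-- The generating number of the vectors of parity `par` over a code word with bit `b` at
infinity and `t` further bits. -/
def dG (a : ℤ) (par t : ℕ) (b : Bool) : ℕ :=
  dP a par b * (dP 1 par true ^ t * dP 1 par false ^ (23 - t))

/-- The digit at position `k`. -/
def dDigit (n k : ℕ) : ℕ := (n >>> (40 * k)) % dB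

/-- The number of vectors of norm 32 and dot product `D` with `cvec a`, of parity `par`, over a
code word with bit `b` at infinity and `t` further bits. -/
def dCnt (a : ℤ) (par t : ℕ) (b : Bool) (D : ℤ) : ℕ :=
  dDigit (dG a par t b) (32 + dK * (D + 5 * (23 + (a.natAbs : ℤ))).toNat)

theorem dV_nodup (par : ℕ) (b : Bool) : (dV par b).Nodup := by
  unfold dV
  split <;> decide

theorem dV_length (par : ℕ) (b : Bool) : (dV par b).length ≤ 3 := by
  unfold dV
  split <;> decide

theorem mem_dV {par : ℕ} (hpar : par < 2) (b : Bool) (v : ℤ) :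
    v ∈ dV par b ↔ (-5 ≤ v ∧ v ≤ 5 ∧ v % 4 = (par : ℤ) + 2 * (if b = true then 1 else 0)) := by
  interval_cases par <;> cases b <;> simp [dV] <;> omega

/-- The admissible values at the point `i`. -/
def dVf (par μ : ℕ) (i : GolayPt) : Finset ℤ := (dV par (μ.testBit (idx i))).toFinset

/-- The vectors of parity `par` over the code word `μ` of norm 32 and dot product `D` with
`cvec a`. -/
def dSet (a : ℤ) (par μ : ℕ) (D : ℤ) : Finset (GolayPt → ℤ) :=
  (Fintype.piFinset (dVf par μ)).filter (fun x => sqNorm x = 32 ∧ dotInt (cvec a) x = D)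

theorem mem_pi_dVf {par : ℕ} (hpar : par < 2) (μ : ℕ) (x : GolayPt → ℤ) :
    x ∈ Fintype.piFinset (dVf par μ) ↔
      ∀ i, (-5 ≤ x i ∧ x i ≤ 5 ∧ x i % 4 = (par : ℤ) + 2 * bitZ μ i) := by
  rw [Fintype.mem_piFinset]
  apply forall_congr'
  intro i
  rw [dVf, List.mem_toFinset, mem_dV hpar]
  rfl

theorem dot_cvec (a : ℤ) (x : GolayPt → ℤ) :
    dotInt (cvec a) x = (∑ i, x i) + (a - 1) * x none := by
  unfold dotInt cvec
  rw [Fintype.sum_option, Fintype.sum_option]
  simp only [↓reduceIte, reduceCtorEq, one_mul]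
  ring

theorem sum_abs_cvec (a : ℤ) : ∑ i, ((cvec a i).natAbs : ℤ) = 23 + (a.natAbs : ℤ) := by
  unfold cvec
  rw [Fintype.sum_option]
  simp only [↓reduceIte, reduceCtorEq, Int.natAbs_one, Nat.cast_one, Finset.sum_const,
    Finset.card_univ, ZMod.card, nsmul_eq_mul, mul_one]
  push_cast
  ring

theorem dE_cast {c v : ℤ} (hv : -5 ≤ v ∧ v ≤ 5) :
    ((dE c v : ℕ) : ℤ) = v ^ 2 + 1024 * (c * v + 5 * (c.natAbs : ℤ)) := by
  unfold dE dK
  have h0 : 0 ≤ c * v + 5 * (c.natAbs : ℤ) := by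
    rcases Int.natAbs_eq c with h | h
    · have hc : (0 : ℤ) ≤ c.natAbs := Int.natCast_nonneg _
      rw [← h]
      nlinarith
    · have hc : (0 : ℤ) ≤ c.natAbs := Int.natCast_nonneg _
      have hc' : c = -(c.natAbs : ℤ) := h
      nlinarith
  rw [Nat.cast_add, Nat.cast_mul, Int.toNat_of_nonneg (mul_self_nonneg v),
    Int.toNat_of_nonneg h0]
  push_cast
  ring

theorem dE_sum_cast (a : ℤ) {x : GolayPt → ℤ} (hb : ∀ i, -5 ≤ x i ∧ x i ≤ 5) :
    ((∑ i, dE (cvec a i) (x i) : ℕ) : ℤ) =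
      sqNorm x + 1024 * (dotInt (cvec a) x + 5 * (23 + (a.natAbs : ℤ))) := by
  rw [Nat.cast_sum, Finset.sum_congr rfl (fun i _ => dE_cast (c := cvec a i) (hb i)),
    Finset.sum_add_distrib, ← Finset.mul_sum, Finset.sum_add_distrib, ← Finset.mul_sum,
    sum_abs_cvec]
  rfl

theorem dSet_iff (a : ℤ) {par : ℕ} (hpar : par < 2) (μ : ℕ) (D : ℤ)
    (hD : 0 ≤ D + 5 * (23 + (a.natAbs : ℤ))) {x : GolayPt → ℤ}
    (hx : x ∈ Fintype.piFinset (dVf par μ)) :
    (sqNorm x = 32 ∧ dotInt (cvec a) x = D) ↔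
      ∑ i, dE (cvec a i) (x i) = 32 + dK * (D + 5 * (23 + (a.natAbs : ℤ))).toNat := by
  have hb := (mem_pi_dVf hpar μ x).mp hx
  have hq0 : 0 ≤ sqNorm x := Finset.sum_nonneg (fun i _ => sq_nonneg (x i))
  have hq1 : sqNorm x ≤ 600 := by
    have h1 : sqNorm x ≤ ∑ _i : GolayPt, (25 : ℤ) :=
      Finset.sum_le_sum (fun i _ => by
        have := hb i
        nlinarith)
    have h2 : ∑ _i : GolayPt, (25 : ℤ) = 600 := by
      rw [Finset.sum_const]
      rfl
    omega
  have hE := dE_sum_cast a (fun i => ⟨(hb i).1, (hb i).2.1⟩)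
  have hT := Int.toNat_of_nonneg hD
  unfold dK
  constructor
  · rintro ⟨h1, h2⟩
    omega
  · intro h
    constructor <;> omega

theorem prod_pow_sum' {ι : Type*} [Fintype ι] [DecidableEq ι] (V : ι → Finset ℤ) (B : ℕ)
    (e : ι → ℤ → ℕ) :
    ∏ i, ∑ v ∈ V i, B ^ e i v = ∑ x ∈ Fintype.piFinset V, B ^ ∑ i, e i (x i) := by
  rw [Finset.prod_univ_sum]
  apply Finset.sum_congr rfl
  intro x _
  rw [Finset.prod_pow_eq_pow_sum]

theorem card_bits_some (μ : ℕ) :
    (Finset.univ.filter (fun j : ZMod 23 => μ.testBit (idx (some j)) = true)).card =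
      popc μ - (if μ.testBit 23 = true then 1 else 0) := by
  have h := card_bits μ
  rw [Finset.card_filter, Fintype.sum_option] at h
  rw [Finset.card_filter]
  have h23 : idx none = 23 := rfl
  rw [h23] at h
  omega

theorem dG_eq (a : ℤ) (par μ : ℕ) :
    dG a par (Finset.univ.filter (fun j : ZMod 23 => μ.testBit (idx (some j)) = true)).card
        (μ.testBit 23) =
      ∑ x ∈ Fintype.piFinset (dVf par μ), dB ^ ∑ i, dE (cvec a i) (x i) := by
  rw [← prod_pow_sum' (dVf par μ) dB (fun i => dE (cvec a i)), Fintype.prod_option]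
  have h0 : ∑ v ∈ dVf par μ none, dB ^ dE (cvec a none) v = dP a par (μ.testBit 23) := by
    rw [dVf, List.sum_toFinset _ (dV_nodup par _)]
    rfl
  have h1 : ∀ j : ZMod 23, ∑ v ∈ dVf par μ (some j), dB ^ dE (cvec a (some j)) v =
      if μ.testBit (idx (some j)) = true then dP 1 par true else dP 1 par false := by
    intro j
    rw [dVf, List.sum_toFinset _ (dV_nodup par _)]
    cases μ.testBit (idx (some j)) <;> rfl
  rw [h0, Finset.prod_congr rfl (fun j _ => h1 j), Finset.prod_ite, Finset.prod_const,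
    Finset.prod_const]
  have h2 : (Finset.univ.filter (fun j : ZMod 23 => ¬ μ.testBit (idx (some j)) = true)).card =
      23 - (Finset.univ.filter (fun j : ZMod 23 => μ.testBit (idx (some j)) = true)).card := by
    have h3 := Finset.card_filter_add_card_filter_not (s := (Finset.univ : Finset (ZMod 23)))
      (fun j : ZMod 23 => μ.testBit (idx (some j)) = true)
    have h4 : (Finset.univ : Finset (ZMod 23)).card = 23 := by
      rw [Finset.card_univ, ZMod.card]
    omega
  rw [h2]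
  rfl

theorem card_pi_lt' (par μ : ℕ) : (Fintype.piFinset (dVf par μ)).card < dB := by
  rw [Fintype.card_piFinset]
  have h1 : ∏ i, (dVf par μ i).card ≤ ∏ _i : GolayPt, 3 :=
    Finset.prod_le_prod (fun i _ => Nat.zero_le _)
      (fun i _ => le_trans (List.toFinset_card_le _) (dV_length par _))
  have h2 : ∏ _i : GolayPt, 3 = 3 ^ 24 := by
    rw [Finset.prod_const]
    rfl
  have h3 : 3 ^ 24 < dB := by
    unfold dB
    norm_num
  omega

theorem card_dSet (a : ℤ) {par : ℕ} (hpar : par < 2) (μ : ℕ) (D : ℤ)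
    (hD : 0 ≤ D + 5 * (23 + (a.natAbs : ℤ))) :
    (dSet a par μ D).card =
      dCnt a par (popc μ - (if μ.testBit 23 = true then 1 else 0)) (μ.testBit 23) D := by
  have h1 : dSet a par μ D = (Fintype.piFinset (dVf par μ)).filter
      (fun x => ∑ i, dE (cvec a i) (x i) = 32 + dK * (D + 5 * (23 + (a.natAbs : ℤ))).toNat) := by
    apply Finset.filter_congr
    intro x hx
    exact dSet_iff a hpar μ D hD hx
  rw [h1, dCnt, dDigit, ← card_bits_some, dG_eq, Nat.shiftRight_eq_div_pow, pow_mul]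
  exact (digit_sum _ _ dB (card_pi_lt' par μ) _).symm

theorem mem_dSet (a : ℤ) {par : ℕ} (hpar : par < 2) (μ : ℕ) (D : ℤ) (x : GolayPt → ℤ) :
    x ∈ dSet a par μ D ↔ (∀ i, x i % 4 = (par : ℤ) + 2 * bitZ μ i) ∧ sqNorm x = 32 ∧
      dotInt (cvec a) x = D := by
  rw [dSet, Finset.mem_filter, mem_pi_dVf hpar]
  constructor
  · rintro ⟨h1, h2, h3⟩
    exact ⟨fun i => (h1 i).2.2, h2, h3⟩
  · rintro ⟨h1, h2, h3⟩
    refine ⟨fun i => ?_, h2, h3⟩
    have h4 : x i ^ 2 ≤ sqNorm x :=
      Finset.single_le_sum (f := fun j => x j ^ 2) (fun j _ => sq_nonneg (x j))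
        (Finset.mem_univ i)
    rw [h2] at h4
    refine ⟨?_, ?_, h1 i⟩ <;> nlinarith

theorem dot_sum_cond {a : ℤ} (ha : a = 5 ∨ a = -3) {par : ℕ} (hpar : par < 2) (μ : ℕ) {D : ℤ}
    (hD8 : D % 8 = 0) {x : GolayPt → ℤ} (h1 : ∀ i, x i % 4 = (par : ℤ) + 2 * bitZ μ i)
    (hd : dotInt (cvec a) x = D) : (∑ i, x i) % 8 = 4 * (par : ℤ) := by
  rw [dot_cvec] at hd
  have h := h1 none
  rcases ha with rfl | rfl <;> rcases bitZ_cases μ none with ⟨-, hz⟩ | ⟨-, hz⟩ <;> rw [hz] at h <;>
    omega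

theorem dSet_subset {a : ℤ} (ha : a = 5 ∨ a = -3) {par : ℕ} (hpar : par < 2) (μ : ℕ) {D : ℤ}
    (hD8 : D % 8 = 0) : dSet a par μ D ⊆ classSet par μ 32 := by
  intro x hx
  obtain ⟨h1, h2, h3⟩ := (mem_dSet a hpar μ D x).mp hx
  exact (mem_classSet hpar μ (by norm_num) x).mpr
    ⟨h1, dot_sum_cond ha hpar μ hD8 h1 h3, by exact_mod_cast h2⟩

theorem dot_set_eq {a : ℤ} (ha : a = 5 ∨ a = -3) {D : ℤ} (hD8 : D % 8 = 0) :
    {x : GolayPt → ℤ | x ∈ leechLattice ∧ sqNorm x = 32 ∧ dotInt (cvec a) x = D} =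
      ↑((Finset.range 2 ×ˢ (sums gB).toFinset).biUnion (fun pm => dSet a pm.1 pm.2 D)) := by
  ext x
  rw [Finset.mem_coe, Finset.mem_biUnion]
  show (x ∈ leechLattice ∧ sqNorm x = 32 ∧ dotInt (cvec a) x = D) ↔ _
  constructor
  · rintro ⟨hx, hn, hd⟩
    obtain ⟨par, hpar, μ, hμ, h1, h2⟩ :=
      (mem_leechSet_struct x).mp ((mem_leechLattice_iff x).mp hx)
    exact ⟨(par, μ), Finset.mem_product.mpr ⟨Finset.mem_range.mpr hpar, List.mem_toFinset.mpr hμ⟩,
      (mem_dSet a hpar μ D x).mpr ⟨h1, hn, hd⟩⟩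
  · rintro ⟨⟨par, μ⟩, hpm, hx⟩
    rw [Finset.mem_product] at hpm
    have hpar := Finset.mem_range.mp hpm.1
    have hμ := List.mem_toFinset.mp hpm.2
    obtain ⟨h1, h2, h3⟩ := (mem_dSet a hpar μ D x).mp hx
    exact ⟨(mem_leechLattice_iff x).mpr ((mem_leechSet_struct x).mpr
      ⟨par, hpar, μ, hμ, h1, dot_sum_cond ha hpar μ hD8 h1 h3⟩), h2, h3⟩

/-- The number of minimal vectors with a given dot product with `cvec a`. -/
theorem dot_ncard {a : ℤ} (ha : a = 5 ∨ a = -3) {D : ℤ} (hD8 : D % 8 = 0)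
    (hD : 0 ≤ D + 5 * (23 + (a.natAbs : ℤ))) :
    {x : GolayPt → ℤ | x ∈ leechLattice ∧ sqNorm x = 32 ∧ dotInt (cvec a) x = D}.ncard =
      ((sums gB).map (fun μ => dCnt a 0 (popc μ - (if μ.testBit 23 = true then 1 else 0))
        (μ.testBit 23) D)).sum +
      ((sums gB).map (fun μ => dCnt a 1 (popc μ - (if μ.testBit 23 = true then 1 else 0))
        (μ.testBit 23) D)).sum := by
  have e : ∀ par < 2, ∑ μ ∈ (sums gB).toFinset, (dSet a par μ D).card =
      ((sums gB).map (fun μ => dCnt a par (popc μ - (if μ.testBit 23 = true then 1 else 0))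
        (μ.testBit 23) D)).sum := by
    intro par hpar
    rw [← List.sum_toFinset _ nodup_sums_gB]
    apply Finset.sum_congr rfl
    intro μ _
    exact card_dSet a hpar μ D hD
  have hdisj : ((Finset.range 2 ×ˢ (sums gB).toFinset : Finset (ℕ × ℕ)) : Set (ℕ × ℕ)).PairwiseDisjoint
      (fun pm => dSet a pm.1 pm.2 D) := by
    intro pm hpm pm' hpm' hne
    have hp := Finset.mem_range.mp (Finset.mem_product.mp (Finset.mem_coe.mp hpm)).1
    have hp' := Finset.mem_range.mp (Finset.mem_product.mp (Finset.mem_coe.mp hpm')).1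
    exact Finset.disjoint_of_subset_left (dSet_subset ha hp pm.2 hD8)
      (Finset.disjoint_of_subset_right (dSet_subset ha hp' pm'.2 hD8)
        (classSet_disjoint (N := 32) (by norm_num) hpm hpm' hne))
  rw [dot_set_eq ha hD8, Set.ncard_coe_finset, Finset.card_biUnion hdisj,
    Finset.sum_product' (f := fun p m => (dSet a p m D).card), Finset.sum_range_succ,
    Finset.sum_range_one, e 0 (by norm_num), e 1 (by norm_num)]

/-! ### Summation over the code by weight and the bit at infinity -/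

/-- Indicator of weight `t` and bit `b` at infinity. -/
def wbInd (t : ℕ) (b : Bool) (μ : ℕ) : ℕ := if popc μ = t ∧ μ.testBit 23 = b then 1 else 0

theorem wbInd_counts :
    ((sums gB).map (wbInd 0 false)).sum = 1 ∧ ((sums gB).map (wbInd 0 true)).sum = 0 ∧
    ((sums gB).map (wbInd 8 false)).sum = 506 ∧ ((sums gB).map (wbInd 8 true)).sum = 253 ∧
    ((sums gB).map (wbInd 12 false)).sum = 1288 ∧ ((sums gB).map (wbInd 12 true)).sum = 1288 ∧
    ((sums gB).map (wbInd 16 false)).sum = 253 ∧ ((sums gB).map (wbInd 16 true)).sum = 506 ∧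
    ((sums gB).map (wbInd 24 false)).sum = 0 ∧ ((sums gB).map (wbInd 24 true)).sum = 1 := by
  decide +kernel

theorem sum_by_weight_bit (f : ℕ → Bool → ℕ) :
    ((sums gB).map (fun μ => f (popc μ) (μ.testBit 23))).sum =
      f 0 false + 506 * f 8 false + 253 * f 8 true + 1288 * f 12 false + 1288 * f 12 true +
        253 * f 16 false + 506 * f 16 true + f 24 true := by
  have key : ∀ μ ∈ sums gB, f (popc μ) (μ.testBit 23) =
      f 0 false * wbInd 0 false μ + f 0 true * wbInd 0 true μ +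
      f 8 false * wbInd 8 false μ + f 8 true * wbInd 8 true μ +
      f 12 false * wbInd 12 false μ + f 12 true * wbInd 12 true μ +
      f 16 false * wbInd 16 false μ + f 16 true * wbInd 16 true μ +
      f 24 false * wbInd 24 false μ + f 24 true * wbInd 24 true μ := by
    intro μ hμ
    have h := wtOK_of_mem_sums hμ
    simp only [wtOK, Bool.or_eq_true, beq_iff_eq] at h
    unfold wbInd
    rcases h with (((h | h) | h) | h) | h <;> rw [h] <;> cases μ.testBit 23 <;> simp
  obtain ⟨c1, c2, c3, c4, c5, c6, c7, c8, c9, c10⟩ := wbInd_counts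
  rw [List.map_congr_left key]
  simp only [List.sum_map_add, List.sum_map_mul_left]
  rw [c1, c2, c3, c4, c5, c6, c7, c8, c9, c10]
  ring

/-- The count as a sum of eight digits for each parity. -/
def dTot (a : ℤ) (par : ℕ) (D : ℤ) : ℕ :=
  dCnt a par 0 false D + 506 * dCnt a par 8 false D + 253 * dCnt a par 7 true D +
    1288 * dCnt a par 12 false D + 1288 * dCnt a par 11 true D + 253 * dCnt a par 16 false D +
    506 * dCnt a par 15 true D + dCnt a par 23 true D

theorem dot_ncard' {a : ℤ} (ha : a = 5 ∨ a = -3) {D : ℤ} (hD8 : D % 8 = 0)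
    (hD : 0 ≤ D + 5 * (23 + (a.natAbs : ℤ))) :
    {x : GolayPt → ℤ | x ∈ leechLattice ∧ sqNorm x = 32 ∧ dotInt (cvec a) x = D}.ncard =
      dTot a 0 D + dTot a 1 D := by
  rw [dot_ncard ha hD8 hD,
    sum_by_weight_bit (fun t b => dCnt a 0 (t - (if b = true then 1 else 0)) b D),
    sum_by_weight_bit (fun t b => dCnt a 1 (t - (if b = true then 1 else 0)) b D)]
  rfl

/-! ### Transport along the automorphism group -/

theorem ncard_dot_transfer (v v' : leechLattice) (h : ∃ g : Co0, g • v = v') (N d : ℤ) :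
    {w : GolayPt → ℤ | w ∈ leechLattice ∧ sqNorm w = N ∧
        dotInt (v : GolayPt → ℤ) w = d}.ncard =
      {w : GolayPt → ℤ | w ∈ leechLattice ∧ sqNorm w = N ∧
        dotInt (v' : GolayPt → ℤ) w = d}.ncard := by
  obtain ⟨g, rfl⟩ := h
  apply Set.ncard_congr (fun w hw => ((g.1 ⟨w, hw.1⟩ : leechLattice) : GolayPt → ℤ))
  · intro w hw
    refine ⟨(g.1 ⟨w, hw.1⟩).2, ?_, ?_⟩
    · rw [g.2.2 ⟨w, hw.1⟩]
      exact hw.2.1
    · have := co0_dot g.2 v ⟨w, hw.1⟩
      exact this.trans hw.2.2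
  · intro w w' hw hw' he
    have := g.1.injective (Subtype.ext he)
    exact congrArg Subtype.val this
  · intro w hw
    refine ⟨((g.1.symm ⟨w, hw.1⟩ : leechLattice) : GolayPt → ℤ), ⟨(g.1.symm ⟨w, hw.1⟩).2, ?_, ?_⟩, ?_⟩
    · have := g.2.2 (g.1.symm ⟨w, hw.1⟩)
      rw [Equiv.apply_symm_apply] at this
      rw [← this]
      exact hw.2.1
    · have := co0_dot g.2 v (g.1.symm ⟨w, hw.1⟩)
      rw [Equiv.apply_symm_apply] at this
      rw [← this]
      exact hw.2.2
    · show ((g.1 ⟨((g.1.symm ⟨w, hw.1⟩ : leechLattice) : GolayPt → ℤ), _⟩ : leechLattice) :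
        GolayPt → ℤ) = w
      have e : (⟨((g.1.symm ⟨w, hw.1⟩ : leechLattice) : GolayPt → ℤ),
          (g.1.symm ⟨w, hw.1⟩).2⟩ : leechLattice) = g.1.symm ⟨w, hw.1⟩ := rfl
      rw [e, Equiv.apply_symm_apply]

end Cfsg.Agent.Lib.Helper10
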