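import Mathlib
import Cfsg.Prelude.Def_Sporadic_a
import Cfsg.Agent.Lib.Helper10.DotCount

set_option autoImplicit false

namespace Cfsg.Agent.Lib.Helper10

open Cfsg Cfsg.Agent.Lib.Helper9

/-! ### Counting minimal vectors with prescribed values at three coordinates -/

/-- The test `v = a` for a prescribed value, always true when nothing is prescribed. -/
def okb (o : Option ℤ) (v : ℤ) : Bool :=
  match o with
  | none => true
  | some a => decide (v = a)

theorem okb_none (v : ℤ) : okb none v = true := rfl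

theorem okb_some (a v : ℤ) : okb (some a) v = true ↔ v = a := by
  simp [okb]

/-- The test at the point `i`: the values at `∞`, `0`, `1` are prescribed by `o1`, `o2`, `o3`. -/
def okAt (o1 o2 o3 : Option ℤ) (i : GolayPt) (v : ℤ) : Bool :=
  match i with
  | none => okb o1 v
  | some j => if j = 0 then okb o2 v else if j = 1 then okb o3 v else true

theorem okAt_none (o1 o2 o3 : Option ℤ) (v : ℤ) : okAt o1 o2 o3 none v = okb o1 v := rfl

theorem okAt_zero (o1 o2 o3 : Option ℤ) (v : ℤ) : okAt o1 o2 o3 (some 0) v = okb o2 v := by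
  simp [okAt]

theorem okAt_one (o1 o2 o3 : Option ℤ) (v : ℤ) : okAt o1 o2 o3 (some 1) v = okb o3 v := by
  have h : (1 : ZMod 23) ≠ 0 := by decide
  simp [okAt, h]

theorem okAt_other (o1 o2 o3 : Option ℤ) {j : ZMod 23} (h0 : j ≠ 0) (h1 : j ≠ 1) (v : ℤ) :
    okAt o1 o2 o3 (some j) v = true := by
  simp [okAt, h0, h1]

/-- The joint test. -/
def ok3b (o1 o2 o3 : Option ℤ) (x : GolayPt → ℤ) : Bool :=
  okb o1 (x none) && okb o2 (x (some 0)) && okb o3 (x (some 1))

/-- The admissible values at the point `i`. -/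
def dW3 (par μ : ℕ) (o1 o2 o3 : Option ℤ) (i : GolayPt) : Finset ℤ :=
  ((dV par (μ.testBit (idx i))).filter (okAt o1 o2 o3 i)).toFinset

/-- The generating number of a coordinate with a prescribed value. -/
def dQ (o : Option ℤ) (c : ℤ) (par : ℕ) (b : Bool) : ℕ :=
  (((dV par b).filter (okb o)).map (fun v => dB ^ dE c v)).sum

/-- The generating number of a class. -/
def dG3 (A : ℤ) (par t : ℕ) (b1 b2 b3 : Bool) (o1 o2 o3 : Option ℤ) : ℕ :=
  dQ o1 A par b1 * (dQ o2 1 par b2 * (dQ o3 1 par b3 *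
    (dP 1 par true ^ t * dP 1 par false ^ (21 - t))))

/-- The position of the digit. -/
def dPos (A D : ℤ) : ℕ := 32 + dK * (D + 5 * (23 + (A.natAbs : ℤ))).toNat

/-- The number of vectors of a class. -/
def dCnt3 (A : ℤ) (par t : ℕ) (b1 b2 b3 : Bool) (D : ℤ) (o1 o2 o3 : Option ℤ) : ℕ :=
  dDigit (dG3 A par t b1 b2 b3 o1 o2 o3) (dPos A D)

theorem mem_pi_dW3 (par μ : ℕ) (o1 o2 o3 : Option ℤ) (x : GolayPt → ℤ) :
    x ∈ Fintype.piFinset (dW3 par μ o1 o2 o3) ↔
      x ∈ Fintype.piFinset (dVf par μ) ∧ ok3b o1 o2 o3 x = true := by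
  simp only [Fintype.mem_piFinset, dW3, dVf, List.mem_toFinset, List.mem_filter]
  constructor
  · intro h
    refine ⟨fun i => (h i).1, ?_⟩
    have h1 := (h none).2
    have h2 := (h (some 0)).2
    have h3 := (h (some 1)).2
    rw [okAt_none] at h1
    rw [okAt_zero] at h2
    rw [okAt_one] at h3
    simp only [ok3b, h1, h2, h3, Bool.and_self]
  · rintro ⟨h, hok⟩ i
    refine ⟨h i, ?_⟩
    simp only [ok3b, Bool.and_eq_true] at hok
    cases i with
    | none => rw [okAt_none]; exact hok.1.1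
    | some j =>
      by_cases h0 : j = 0
      · subst h0; rw [okAt_zero]; exact hok.1.2
      · by_cases h1 : j = 1
        · subst h1; rw [okAt_one]; exact hok.2
        · exact okAt_other o1 o2 o3 h0 h1 _

theorem card_pi_lt3 (par μ : ℕ) (o1 o2 o3 : Option ℤ) :
    (Fintype.piFinset (dW3 par μ o1 o2 o3)).card < dB := by
  rw [Fintype.card_piFinset]
  have h1 : ∏ i, (dW3 par μ o1 o2 o3 i).card ≤ ∏ _i : GolayPt, 3 :=
    Finset.prod_le_prod (fun i _ => Nat.zero_le _)
      (fun i _ => le_trans (List.toFinset_card_le _)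
        (le_trans (List.length_filter_le _ _) (dV_length par _)))
  have h2 : ∏ _i : GolayPt, 3 = 3 ^ 24 := by
    rw [Finset.prod_const]
    rfl
  have h3 : 3 ^ 24 < dB := by
    unfold dB
    norm_num
  omega

/-- The ordinary points. -/
def dR : Finset GolayPt := ((Finset.univ.erase none).erase (some 0)).erase (some 1)

theorem dR_m0 : (some 0 : GolayPt) ∈ (Finset.univ : Finset GolayPt).erase none := by decide

theorem dR_m1 : (some 1 : GolayPt) ∈ ((Finset.univ : Finset GolayPt).erase none).erase (some 0) := by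
  decide

theorem dR_card : dR.card = 21 := by decide

theorem sum_split_dR (f : GolayPt → ℕ) :
    ∑ i, f i = f none + (f (some 0) + (f (some 1) + ∑ i ∈ dR, f i)) := by
  rw [← Finset.add_sum_erase Finset.univ f (Finset.mem_univ none),
    ← Finset.add_sum_erase _ f dR_m0, ← Finset.add_sum_erase _ f dR_m1]
  rfl

theorem prod_split_dR (F : GolayPt → ℕ) :
    ∏ i, F i = F none * (F (some 0) * (F (some 1) * ∏ i ∈ dR, F i)) := by
  rw [← Finset.mul_prod_erase Finset.univ F (Finset.mem_univ none),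
    ← Finset.mul_prod_erase _ F dR_m0, ← Finset.mul_prod_erase _ F dR_m1]
  rfl

theorem card_bits_dR (μ : ℕ) :
    (dR.filter (fun i : GolayPt => μ.testBit (idx i) = true)).card =
      popc μ - (if μ.testBit 23 = true then 1 else 0) - (if μ.testBit 0 = true then 1 else 0) -
        (if μ.testBit 1 = true then 1 else 0) := by
  have h := card_bits μ
  rw [Finset.card_filter] at h ⊢
  rw [sum_split_dR] at h
  have e23 : idx none = 23 := rfl
  have e0 : idx (some 0) = 0 := rfl
  have e1 : idx (some 1) = 1 := rfl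
  rw [e23, e0, e1] at h
  omega

theorem dG3_eq (A : ℤ) (par μ : ℕ) (o1 o2 o3 : Option ℤ) :
    dG3 A par (popc μ - (if μ.testBit 23 = true then 1 else 0) -
        (if μ.testBit 0 = true then 1 else 0) - (if μ.testBit 1 = true then 1 else 0))
        (μ.testBit 23) (μ.testBit 0) (μ.testBit 1) o1 o2 o3 =
      ∑ x ∈ Fintype.piFinset (dW3 par μ o1 o2 o3), dB ^ ∑ i, dE (cvec A i) (x i) := by
  classical
  rw [← prod_pow_sum' (dW3 par μ o1 o2 o3) dB (fun i => dE (cvec A i))]
  rw [prod_split_dR]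
  have hn : ∑ v ∈ dW3 par μ o1 o2 o3 none, dB ^ dE (cvec A none) v =
      dQ o1 A par (μ.testBit 23) := by
    rw [dW3, List.sum_toFinset _ ((dV_nodup par _).filter _)]
    rfl
  have h0 : ∑ v ∈ dW3 par μ o1 o2 o3 (some 0), dB ^ dE (cvec A (some 0)) v =
      dQ o2 1 par (μ.testBit 0) := by
    rw [dW3, List.sum_toFinset _ ((dV_nodup par _).filter _)]
    have e : okAt o1 o2 o3 (some 0) = okb o2 := funext (okAt_zero o1 o2 o3)
    rw [e]
    rfl
  have h1 : ∑ v ∈ dW3 par μ o1 o2 o3 (some 1), dB ^ dE (cvec A (some 1)) v =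
      dQ o3 1 par (μ.testBit 1) := by
    rw [dW3, List.sum_toFinset _ ((dV_nodup par _).filter _)]
    have e : okAt o1 o2 o3 (some 1) = okb o3 := funext (okAt_one o1 o2 o3)
    rw [e]
    rfl
  have hR : ∀ i ∈ dR, ∑ v ∈ dW3 par μ o1 o2 o3 i, dB ^ dE (cvec A i) v =
      if μ.testBit (idx i) = true then dP 1 par true else dP 1 par false := by
    intro i hi
    simp only [dR, Finset.mem_erase, Finset.mem_univ, and_true] at hi
    obtain ⟨j, rfl⟩ := Option.ne_none_iff_exists'.mp hi.2.2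
    have hj0 : j ≠ 0 := fun h => hi.2.1 (by rw [h])
    have hj1 : j ≠ 1 := fun h => hi.1 (by rw [h])
    have e : okAt o1 o2 o3 (some j) = fun _ => true := funext (okAt_other o1 o2 o3 hj0 hj1)
    rw [dW3, e, List.filter_true, List.sum_toFinset _ (dV_nodup par _)]
    cases μ.testBit (idx (some j)) <;> rfl
  rw [hn, h0, h1, Finset.prod_congr rfl hR, Finset.prod_ite, Finset.prod_const,
    Finset.prod_const]
  have hc' : (dR.filter (fun i : GolayPt => ¬ μ.testBit (idx i) = true)).card =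
      21 - (dR.filter (fun i : GolayPt => μ.testBit (idx i) = true)).card := by
    have h3 := Finset.card_filter_add_card_filter_not (s := dR)
      (fun i : GolayPt => μ.testBit (idx i) = true)
    rw [dR_card] at h3
    omega
  rw [hc', card_bits_dR]
  rfl

theorem card_dSet3 (A : ℤ) {par : ℕ} (hpar : par < 2) (μ : ℕ) (D : ℤ)
    (hD : 0 ≤ D + 5 * (23 + (A.natAbs : ℤ))) (o1 o2 o3 : Option ℤ) :
    ((dSet A par μ D).filter (fun x => ok3b o1 o2 o3 x = true)).card =
      dCnt3 A par (popc μ - (if μ.testBit 23 = true then 1 else 0) -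
        (if μ.testBit 0 = true then 1 else 0) - (if μ.testBit 1 = true then 1 else 0))
        (μ.testBit 23) (μ.testBit 0) (μ.testBit 1) D o1 o2 o3 := by
  have h1 : (dSet A par μ D).filter (fun x => ok3b o1 o2 o3 x = true) =
      (Fintype.piFinset (dW3 par μ o1 o2 o3)).filter
        (fun x => ∑ i, dE (cvec A i) (x i) = dPos A D) := by
    ext x
    rw [Finset.mem_filter, Finset.mem_filter, mem_pi_dW3, dSet, Finset.mem_filter]
    constructor
    · rintro ⟨⟨hx, hP⟩, hok⟩
      exact ⟨⟨hx, hok⟩, (dSet_iff A hpar μ D hD hx).mp hP⟩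
    · rintro ⟨⟨hx, hok⟩, hE⟩
      exact ⟨⟨hx, (dSet_iff A hpar μ D hD hx).mpr hE⟩, hok⟩
  rw [h1, dCnt3, dDigit, dG3_eq, Nat.shiftRight_eq_div_pow, pow_mul]
  exact (digit_sum _ _ dB (card_pi_lt3 par μ o1 o2 o3) _).symm

/-- All minimal vectors with dot product `D` with `cvec A`. -/
@[irreducible] def dAll (A D : ℤ) : Finset (GolayPt → ℤ) :=
  (Finset.range 2 ×ˢ (sums gB).toFinset).biUnion (fun pm => dSet A pm.1 pm.2 D)

theorem dAll_coe {A : ℤ} (hA : A = 5 ∨ A = -3) {D : ℤ} (hD8 : D % 8 = 0) :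
    {x : GolayPt → ℤ | x ∈ leechLattice ∧ sqNorm x = 32 ∧ dotInt (cvec A) x = D} =
      ↑(dAll A D) := by
  unfold dAll
  exact dot_set_eq hA hD8

theorem mem_dAll {A : ℤ} (hA : A = 5 ∨ A = -3) {D : ℤ} (hD8 : D % 8 = 0) (x : GolayPt → ℤ) :
    x ∈ dAll A D ↔ x ∈ leechLattice ∧ sqNorm x = 32 ∧ dotInt (cvec A) x = D := by
  have h := dAll_coe hA hD8
  rw [Set.ext_iff] at h
  exact (h x).symm

/-- The weight of a code word on the ordinary points. -/
def dWt (μ : ℕ) : ℕ :=
  popc μ - (if μ.testBit 23 = true then 1 else 0) - (if μ.testBit 0 = true then 1 else 0) -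
    (if μ.testBit 1 = true then 1 else 0)

theorem card_dAll_filter {A : ℤ} (hA : A = 5 ∨ A = -3) {D : ℤ} (hD8 : D % 8 = 0)
    (hD : 0 ≤ D + 5 * (23 + (A.natAbs : ℤ))) (o1 o2 o3 : Option ℤ) :
    ((dAll A D).filter (fun x => ok3b o1 o2 o3 x = true)).card =
      ((sums gB).map (fun μ => dCnt3 A 0 (dWt μ) (μ.testBit 23) (μ.testBit 0) (μ.testBit 1) D
        o1 o2 o3)).sum +
      ((sums gB).map (fun μ => dCnt3 A 1 (dWt μ) (μ.testBit 23) (μ.testBit 0) (μ.testBit 1) D
        o1 o2 o3)).sum := by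
  have e : ∀ par < 2, ∑ μ ∈ (sums gB).toFinset,
      ((dSet A par μ D).filter (fun x => ok3b o1 o2 o3 x = true)).card =
      ((sums gB).map (fun μ => dCnt3 A par (dWt μ) (μ.testBit 23) (μ.testBit 0) (μ.testBit 1) D
        o1 o2 o3)).sum := by
    intro par hpar
    rw [← List.sum_toFinset _ nodup_sums_gB]
    apply Finset.sum_congr rfl
    intro μ _
    exact card_dSet3 A hpar μ D hD o1 o2 o3
  have hdisj : ((Finset.range 2 ×ˢ (sums gB).toFinset : Finset (ℕ × ℕ)) : Set (ℕ × ℕ)).PairwiseDisjoint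
      (fun pm => (dSet A pm.1 pm.2 D).filter (fun x => ok3b o1 o2 o3 x = true)) := by
    intro pm hpm pm' hpm' hne
    have hp := Finset.mem_range.mp (Finset.mem_product.mp (Finset.mem_coe.mp hpm)).1
    have hp' := Finset.mem_range.mp (Finset.mem_product.mp (Finset.mem_coe.mp hpm')).1
    exact Finset.disjoint_of_subset_left
      ((Finset.filter_subset _ _).trans (dSet_subset hA hp pm.2 hD8))
      (Finset.disjoint_of_subset_right
        ((Finset.filter_subset _ _).trans (dSet_subset hA hp' pm'.2 hD8))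
        (classSet_disjoint (N := 32) (by norm_num) hpm hpm' hne))
  unfold dAll
  rw [Finset.filter_biUnion, Finset.card_biUnion hdisj,
    Finset.sum_product' (f := fun p m =>
      ((dSet A p m D).filter (fun x => ok3b o1 o2 o3 x = true)).card),
    Finset.sum_range_succ, Finset.sum_range_one, e 0 (by norm_num), e 1 (by norm_num)]

/-! ### Summation over the code by classes -/

theorem sum_by_key {α κ : Type*} [DecidableEq κ] (key : α → κ) (ks : List κ) (hks : ks.Nodup)
    (F : κ → ℕ) : ∀ l : List α, (∀ x ∈ l, key x ∈ ks) →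
      (l.map (fun x => F (key x))).sum =
        (ks.map (fun k => l.countP (fun x => decide (key x = k)) * F k)).sum := by
  intro l
  induction l with
  | nil =>
    intro _
    simp
  | cons x l ih =>
    intro h
    have hx : key x ∈ ks := h x List.mem_cons_self
    have hl := ih (fun y hy => h y (List.mem_cons_of_mem _ hy))
    rw [List.map_cons, List.sum_cons, hl]
    have e : ∀ k ∈ ks, (x :: l).countP (fun y => decide (key y = k)) * F k =
        l.countP (fun y => decide (key y = k)) * F k + (if key x = k then F k else 0) := by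
      intro k _
      rw [List.countP_cons]
      by_cases hk : key x = k <;> simp [hk, add_mul]
    rw [List.map_congr_left e, List.sum_map_add]
    have e2 : (ks.map (fun k => if key x = k then F k else 0)).sum = F (key x) := by
      rw [← List.sum_toFinset _ hks, Finset.sum_ite_eq]
      simp [hx]
    omega

theorem map_zip_sum {κ : Type*} (c F : κ → ℕ) (ks : List κ) :
    (ks.map (fun k => c k * F k)).sum =
      ((ks.zip (ks.map c)).map (fun kn => kn.2 * F kn.1)).sum := by
  induction ks with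
  | nil => rfl
  | cons k ks ih =>
    simp only [List.map_cons, List.sum_cons, List.zip_cons_cons, ih]

/-- The class of a code word. -/
def key3 (μ : ℕ) : ℕ × Bool × Bool × Bool := (popc μ, μ.testBit 23, μ.testBit 0, μ.testBit 1)

/-- The classes. -/
def keys3 : List (ℕ × Bool × Bool × Bool) :=
  [0, 8, 12, 16, 24].flatMap (fun t => [false, true].flatMap (fun a =>
    [false, true].flatMap (fun b => [false, true].map (fun d => (t, a, b, d)))))

/-- The class sizes. -/
def cnts3 : List ℕ :=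
  [1, 0, 0, 0, 0, 0, 0, 0, 210, 120, 120, 56, 120, 56, 56, 21, 280, 336, 336, 336, 336, 336,
    336, 280, 21, 56, 56, 120, 56, 120, 120, 210, 0, 0, 0, 0, 0, 0, 0, 1]

theorem keys3_nodup : keys3.Nodup := by decide

theorem key3_mem {μ : ℕ} (hμ : μ ∈ sums gB) : key3 μ ∈ keys3 := by
  have h := wtOK_of_mem_sums hμ
  simp only [wtOK, Bool.or_eq_true, beq_iff_eq] at h
  unfold key3
  rcases h with (((h | h) | h) | h) | h <;> rw [h] <;> cases μ.testBit 23 <;>
    cases μ.testBit 0 <;> cases μ.testBit 1 <;> decide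

theorem cnts3_eq :
    keys3.map (fun k => (sums gB).countP (fun μ => decide (key3 μ = k))) = cnts3 := by
  decide +kernel

theorem sum_by_key3 (F : ℕ × Bool × Bool × Bool → ℕ) :
    ((sums gB).map (fun μ => F (key3 μ))).sum =
      ((keys3.zip cnts3).map (fun kn => kn.2 * F kn.1)).sum := by
  rw [sum_by_key key3 keys3 keys3_nodup F (sums gB) (fun μ hμ => key3_mem hμ),
    map_zip_sum (fun k => (sums gB).countP (fun μ => decide (key3 μ = k))) F keys3, cnts3_eq]

/-- The number of set bits. -/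
def dNb (b : Bool) : ℕ := if b = true then 1 else 0

/-- The count of a class, computed only when the class can be non-empty. -/
def dCnt3s (A : ℤ) (par : ℕ) (D : ℤ) (o1 o2 o3 : Option ℤ) (k : ℕ × Bool × Bool × Bool) : ℕ :=
  if ((dV par k.2.1).filter (okb o1)).isEmpty || ((dV par k.2.2.1).filter (okb o2)).isEmpty ||
      ((dV par k.2.2.2).filter (okb o3)).isEmpty then 0
  else dCnt3 A par (k.1 - dNb k.2.1 - dNb k.2.2.1 - dNb k.2.2.2) k.2.1 k.2.2.1 k.2.2.2 D o1 o2 o3

theorem dDigit_zero (k : ℕ) : dDigit 0 k = 0 := by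
  simp [dDigit]

theorem dCnt3s_eq (A : ℤ) (par : ℕ) (D : ℤ) (o1 o2 o3 : Option ℤ)
    (k : ℕ × Bool × Bool × Bool) :
    dCnt3s A par D o1 o2 o3 k =
      dCnt3 A par (k.1 - dNb k.2.1 - dNb k.2.2.1 - dNb k.2.2.2) k.2.1 k.2.2.1 k.2.2.2 D
        o1 o2 o3 := by
  unfold dCnt3s
  split_ifs with h
  · simp only [Bool.or_eq_true, List.isEmpty_iff] at h
    unfold dCnt3 dG3 dQ
    rcases h with (h | h) | h <;> rw [h] <;>
      simp only [List.map_nil, List.sum_nil, zero_mul, mul_zero, dDigit_zero]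
  · rfl

/-- The sum over the classes for one parity. -/
def dSum3 (A : ℤ) (par : ℕ) (D : ℤ) (o1 o2 o3 : Option ℤ) : ℕ :=
  ((keys3.zip cnts3).map (fun kn => if kn.2 = 0 then 0 else
    kn.2 * dCnt3s A par D o1 o2 o3 kn.1)).sum

/-- The total count. -/
def dTot3 (A D : ℤ) (o1 o2 o3 : Option ℤ) : ℕ := dSum3 A 0 D o1 o2 o3 + dSum3 A 1 D o1 o2 o3

theorem dSum3_eq (A : ℤ) (par : ℕ) (D : ℤ) (o1 o2 o3 : Option ℤ) :
    ((sums gB).map (fun μ => dCnt3 A par (dWt μ) (μ.testBit 23) (μ.testBit 0) (μ.testBit 1) D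
      o1 o2 o3)).sum = dSum3 A par D o1 o2 o3 := by
  have h := sum_by_key3 (fun k => dCnt3 A par (k.1 - dNb k.2.1 - dNb k.2.2.1 - dNb k.2.2.2)
    k.2.1 k.2.2.1 k.2.2.2 D o1 o2 o3)
  have e : ((sums gB).map (fun μ => dCnt3 A par (dWt μ) (μ.testBit 23) (μ.testBit 0)
      (μ.testBit 1) D o1 o2 o3)) = ((sums gB).map (fun μ =>
      (fun k : ℕ × Bool × Bool × Bool => dCnt3 A par (k.1 - dNb k.2.1 - dNb k.2.2.1 - dNb k.2.2.2)
        k.2.1 k.2.2.1 k.2.2.2 D o1 o2 o3) (key3 μ))) := rfl
  rw [e, h, dSum3]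
  refine congrArg List.sum (List.map_congr_left ?_)
  intro kn _
  rw [dCnt3s_eq]
  split_ifs with h0
  · rw [h0, zero_mul]
  · rfl

/-- The number of minimal vectors with dot product `D` with `cvec A` and prescribed values at
the points `∞`, `0`, `1`. -/
theorem card_dAll_filter' {A : ℤ} (hA : A = 5 ∨ A = -3) {D : ℤ} (hD8 : D % 8 = 0)
    (hD : 0 ≤ D + 5 * (23 + (A.natAbs : ℤ))) (o1 o2 o3 : Option ℤ) :
    ((dAll A D).filter (fun x => ok3b o1 o2 o3 x = true)).card = dTot3 A D o1 o2 o3 := by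
  rw [card_dAll_filter hA hD8 hD, dSum3_eq, dSum3_eq]
  rfl

theorem dAll_bound {A : ℤ} (hA : A = 5 ∨ A = -3) {D : ℤ} (hD8 : D % 8 = 0) {x : GolayPt → ℤ}
    (hx : x ∈ dAll A D) (i : GolayPt) : x i ∈ Finset.Icc (-5 : ℤ) 5 := by
  have hn : sqNorm x = 32 := ((mem_dAll hA hD8 x).mp hx).2.1
  have h4 : x i ^ 2 ≤ sqNorm x :=
    Finset.single_le_sum (f := fun j => x j ^ 2) (fun j _ => sq_nonneg (x j))
      (Finset.mem_univ i)
  rw [hn] at h4
  rw [Finset.mem_Icc]
  constructor <;> nlinarith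

end Cfsg.Agent.Lib.Helper10
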