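import Mathlib
import Cfsg.Prelude.Def_Sporadic_a
import Cfsg.Agent.Lib.Helper10.DotCount3

set_option autoImplicit false

namespace Cfsg.Agent.Lib.Helper10

open Cfsg Cfsg.Agent.Lib.Helper9

/-! ### Counts by the value at the point at infinity -/

/-- Counting by the value at `∞`, the values at `0` and `1` being prescribed in terms of it. -/
theorem card_fiber_none {A : ℤ} (hA : A = 5 ∨ A = -3) {D : ℤ} (hD8 : D % 8 = 0)
    (hD : 0 ≤ D + 5 * (23 + (A.natAbs : ℤ))) (P : (GolayPt → ℤ) → Prop) [DecidablePred P]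
    (o2 o3 : ℤ → Option ℤ)
    (hP : ∀ x : GolayPt → ℤ, P x ↔ (okb (o2 (x none)) (x (some 0)) = true ∧
      okb (o3 (x none)) (x (some 1)) = true)) :
    ((dAll A D).filter P).card = ∑ a ∈ Finset.Icc (-5 : ℤ) 5, dTot3 A D (some a) (o2 a) (o3 a) := by
  rw [Finset.card_eq_sum_card_fiberwise (f := fun x : GolayPt → ℤ => x none)
    (t := Finset.Icc (-5 : ℤ) 5)
    (fun x hx => dAll_bound hA hD8 (Finset.mem_filter.mp hx).1 none)]
  apply Finset.sum_congr rfl
  intro a _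
  rw [Finset.filter_filter, ← card_dAll_filter' hA hD8 hD (some a) (o2 a) (o3 a)]
  congr 1
  apply Finset.filter_congr
  intro x _
  simp only [ok3b, Bool.and_eq_true, okb_some, hP]
  constructor
  · rintro ⟨⟨h2, h3⟩, ha⟩
    subst ha
    exact ⟨⟨rfl, h2⟩, h3⟩
  · rintro ⟨⟨ha, h2⟩, h3⟩
    subst ha
    exact ⟨⟨h2, h3⟩, rfl⟩

theorem num_hs100 :
    ∑ a ∈ Finset.Icc (-5 : ℤ) 5, dTot3 5 24 (some a) (some a) none = 100 := by decide +kernel

theorem num_hs22 : dTot3 5 24 (some 1) (some 1) none = 22 := by decide +kernel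

theorem num_mcl275 :
    ∑ a ∈ Finset.Icc (-5 : ℤ) 5, dTot3 5 24 (some a) (some (4 - a)) none = 275 := by
  decide +kernel

theorem num_mcl112 :
    ∑ a ∈ Finset.Icc (-5 : ℤ) 5, dTot3 5 24 (some a) (some (4 - a)) (some (2 - a)) = 112 := by
  decide +kernel

theorem num_mcl162 :
    ∑ a ∈ Finset.Icc (-5 : ℤ) 5, dTot3 5 24 (some a) (some (4 - a)) (some (4 - a)) = 162 := by
  decide +kernel

end Cfsg.Agent.Lib.Helper10
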