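import Mathlib
import Cfsg.Prelude.Def_Sporadic_a
import Cfsg.Agent.Lib.Helper10.DotCount
import Cfsg.Agent.Lib.Helper10.Lambda2
import Cfsg.Agent.Lib.Helper10.Lambda3

set_option autoImplicit false

namespace Cfsg.Agent.Lib.Helper10

open Cfsg Cfsg.Agent.Lib.Helper9

/-! ### Numerical evaluation of the dot-product counts -/

theorem dtot_m3_m16 : dTot (-3) 0 (-16) + dTot (-3) 1 (-16) = 4600 := by decide +kernel

theorem dtot_m3_m8 : dTot (-3) 0 (-8) + dTot (-3) 1 (-8) = 47104 := by decide +kernel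

theorem dtot_m3_0 : dTot (-3) 0 0 + dTot (-3) 1 0 = 93150 := by decide +kernel

theorem dtot_5_24 : dTot 5 0 24 + dTot 5 1 24 = 552 := by decide +kernel

theorem dtot_5_m16 : dTot 5 0 (-16) + dTot 5 1 (-16) = 11178 := by decide +kernel

end Cfsg.Agent.Lib.Helper10

namespace Cfsg.Agent.Lib.Helper10

open Cfsg Cfsg.Agent.Lib.Helper9

/-- The number of minimal vectors with dot product `D` with a given minimal vector. -/
theorem census_min (v : GolayPt → ℤ) (hv : v ∈ leechLattice) (hvn : sqNorm v = 32) (D : ℤ)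
    (hD8 : D % 8 = 0) (hD : 0 ≤ D + 130) :
    {w : GolayPt → ℤ | w ∈ leechLattice ∧ sqNorm w = 32 ∧ dotInt v w = D}.ncard =
      dTot (-3) 0 D + dTot (-3) 1 D := by
  have hc : CoEq v oddRep := (coeq_norm32 hv hvn).trans (link12.trans link23)
  have hg := (coeq_iff ⟨v, hv⟩ ⟨oddRep, hc.mem_right⟩).mp hc
  exact (ncard_dot_transfer ⟨v, hv⟩ ⟨oddRep, hc.mem_right⟩ hg 32 D).trans
    (dot_ncard' (a := -3) (Or.inr rfl) hD8 (by
      have : ((-3 : ℤ).natAbs : ℤ) = 3 := rfl
      rw [this]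
      omega))

/-- The number of minimal vectors with dot product `D` with a given vector of norm 48. -/
theorem census_48 (u : GolayPt → ℤ) (hu : u ∈ leechLattice) (hun : sqNorm u = 48) (D : ℤ)
    (hD8 : D % 8 = 0) (hD : 0 ≤ D + 140) :
    {w : GolayPt → ℤ | w ∈ leechLattice ∧ sqNorm w = 32 ∧ dotInt u w = D}.ncard =
      dTot 5 0 D + dTot 5 1 D := by
  have hc : CoEq u repD := coeq_norm48 hu hun
  have hg := (coeq_iff ⟨u, hu⟩ ⟨repD, hc.mem_right⟩).mp hc
  exact (ncard_dot_transfer ⟨u, hu⟩ ⟨repD, hc.mem_right⟩ hg 32 D).trans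
    (dot_ncard' (a := 5) (Or.inl rfl) hD8 (by
      have : ((5 : ℤ).natAbs : ℤ) = 5 := rfl
      rw [this]
      omega))

/-- Sets of lattice vectors as sets of elements of the lattice. -/
theorem ncard_subtype_dot (u : GolayPt → ℤ) (N D : ℤ) :
    {x : leechLattice | sqNorm (x : GolayPt → ℤ) = N ∧ dotInt u (x : GolayPt → ℤ) = D}.ncard =
      {w : GolayPt → ℤ | w ∈ leechLattice ∧ sqNorm w = N ∧ dotInt u w = D}.ncard := by
  rw [← Set.ncard_image_of_injective _ Subtype.val_injective]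
  congr 1
  ext w
  constructor
  · rintro ⟨x, hx, rfl⟩
    exact ⟨x.2, hx.1, hx.2⟩
  · rintro ⟨hw, h1, h2⟩
    exact ⟨⟨w, hw⟩, ⟨h1, h2⟩, rfl⟩

theorem sqNorm_sub (a b : GolayPt → ℤ) :
    sqNorm (a - b) = sqNorm a - 2 * dotInt a b + sqNorm b := by
  simp only [sqNorm, dotInt, Pi.sub_apply, Finset.mul_sum, ← Finset.sum_add_distrib,
    ← Finset.sum_sub_distrib]
  apply Finset.sum_congr rfl
  intro i _
  ring

/-- The 4600, 47104 and 93150 minimal vectors at dot product −16, −8 and 0 from a minimal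
vector. -/
theorem census_min_all (v : GolayPt → ℤ) (hv : v ∈ leechLattice) (hvn : sqNorm v = 32) :
    {w : GolayPt → ℤ | w ∈ leechLattice ∧ sqNorm w = 32 ∧ dotInt v w = -16}.ncard = 4600 ∧
    {w : GolayPt → ℤ | w ∈ leechLattice ∧ sqNorm w = 32 ∧ dotInt v w = -8}.ncard = 47104 ∧
    {w : GolayPt → ℤ | w ∈ leechLattice ∧ sqNorm w = 32 ∧ dotInt v w = 0}.ncard = 93150 :=
  ⟨(census_min v hv hvn (-16) (by norm_num) (by norm_num)).trans dtot_m3_m16,
    (census_min v hv hvn (-8) (by norm_num) (by norm_num)).trans dtot_m3_m8,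
    (census_min v hv hvn 0 (by norm_num) (by norm_num)).trans dtot_m3_0⟩

/-- The 552 minimal vectors `v` with `u - v` minimal, for `u` of norm 48. -/
theorem ncard_min_sub (u : leechLattice) (hu : sqNorm (u : GolayPt → ℤ) = 48) :
    {v : leechLattice | sqNorm (v : GolayPt → ℤ) = 32 ∧
      sqNorm ((u : GolayPt → ℤ) - (v : GolayPt → ℤ)) = 32}.ncard = 552 := by
  have h1 : {v : leechLattice | sqNorm (v : GolayPt → ℤ) = 32 ∧
      sqNorm ((u : GolayPt → ℤ) - (v : GolayPt → ℤ)) = 32} =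
      {x : leechLattice | sqNorm (x : GolayPt → ℤ) = 32 ∧
        dotInt (u : GolayPt → ℤ) (x : GolayPt → ℤ) = 24} := by
    ext x
    show (sqNorm (x : GolayPt → ℤ) = 32 ∧
      sqNorm ((u : GolayPt → ℤ) - (x : GolayPt → ℤ)) = 32) ↔
      (sqNorm (x : GolayPt → ℤ) = 32 ∧ dotInt (u : GolayPt → ℤ) (x : GolayPt → ℤ) = 24)
    rw [sqNorm_sub, hu]
    constructor
    · rintro ⟨h1, h2⟩
      exact ⟨h1, by omega⟩
    · rintro ⟨h1, h2⟩
      exact ⟨h1, by omega⟩
  rw [h1, ncard_subtype_dot]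
  exact (census_48 u u.2 hu 24 (by norm_num) (by norm_num)).trans dtot_5_24

/-- The 11178 minimal vectors at dot product −16 from a vector of norm 48. -/
theorem ncard_48_m16 (u : leechLattice) (hu : sqNorm (u : GolayPt → ℤ) = 48) :
    {x : leechLattice | sqNorm (x : GolayPt → ℤ) = 32 ∧
      dotInt (u : GolayPt → ℤ) (x : GolayPt → ℤ) = -16}.ncard = 11178 := by
  rw [ncard_subtype_dot]
  exact (census_48 u u.2 hu (-16) (by norm_num) (by norm_num)).trans dtot_5_m16

end Cfsg.Agent.Lib.Helper10
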