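import Mathlib
import Cfsg.Prelude.Def_Sporadic_a
import Cfsg.Agent.Lib.Helper10.Co0Order

set_option autoImplicit false

namespace Cfsg.Agent.Lib.Helper10

open Cfsg Cfsg.Agent.Lib.Helper9
open scoped Pointwise

/-! ### Orthogonal pairs of minimal vectors -/

theorem dotInt_add_right (a b c : GolayPt → ℤ) : dotInt a (b + c) = dotInt a b + dotInt a c := by
  simp only [dotInt, Pi.add_apply, mul_add, Finset.sum_add_distrib]

theorem dotInt_self (a : GolayPt → ℤ) : dotInt a a = sqNorm a := by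
  simp only [dotInt, sqNorm, sq]

theorem signedPerm_add (σ : Equiv.Perm GolayPt) (c : Finset GolayPt) (x y : GolayPt → ℤ) :
    signedPerm σ c (x + y) = signedPerm σ c x + signedPerm σ c y := by
  funext i
  simp only [signedPerm, Pi.add_apply]
  split_ifs <;> ring

/-- A minimal vector with coordinate `4` at the extra point is `4 e_∞ ± 4 e_j`. -/
theorem min_four {a : GolayPt → ℤ} (ha : a ∈ leechLattice) (hn : sqNorm a = 32)
    (h4 : a none = 4) :
    ∃ j, j ≠ none ∧ ∃ s : ℤ, (s = 4 ∨ s = -4) ∧ a = Pi.single none 4 + Pi.single j s := by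
  classical
  have hall : ∀ i, a i % 4 = 0 := by
    obtain ⟨par, hpar, μ, hμ, hmod, -⟩ :=
      (mem_leechSet_struct a).mp ((mem_leechLattice_iff a).mp ha)
    have hp0 : par = 0 := by
      have := hmod none
      rw [h4] at this
      rcases bitZ_cases μ none with ⟨-, hz⟩ | ⟨-, hz⟩ <;> rw [hz] at this <;> omega
    subst hp0
    intro i
    by_contra hne
    have h2 : a i % 4 = 2 := by
      have := hmod i
      rcases bitZ_cases μ i with ⟨-, hz⟩ | ⟨-, hz⟩ <;> rw [hz] at this <;> omega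
    obtain ⟨S, hSg, hiS, hcard8, hin, hout, -⟩ := even_struct ha h2
    have hnS : (none : GolayPt) ∉ S := fun h => by
      have := hin none h
      rw [h4] at this
      norm_num at this
    have hge : ∀ i ∈ S, 4 ≤ a i ^ 2 := by
      intro i hi
      have := hin i hi
      have h : a i ≤ -2 ∨ 2 ≤ a i := by omega
      rcases h with h | h <;> nlinarith
    have h1 := Finset.card_nsmul_le_sum S (fun i => a i ^ 2) 4 hge
    have h2' : ∑ i ∈ insert none S, a i ^ 2 ≤ ∑ i, a i ^ 2 :=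
      Finset.sum_le_sum_of_subset_of_nonneg (Finset.subset_univ _) (fun i _ _ => sq_nonneg _)
    rw [Finset.sum_insert hnS, h4] at h2'
    unfold sqNorm at hn
    rw [nsmul_eq_mul] at h1
    have h3 : (8 : ℤ) ≤ (S.card : ℤ) := by exact_mod_cast hcard8
    linarith
  have hge16 : ∀ i, a i ≠ 0 → 16 ≤ a i ^ 2 := fun i hi => sq_ge_16 (hall i) hi
  have hsplit : ∑ i, a i ^ 2 = a none ^ 2 + ∑ i ∈ Finset.univ.erase none, a i ^ 2 :=
    (Finset.add_sum_erase _ _ (Finset.mem_univ none)).symm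
  have hrest : ∑ i ∈ Finset.univ.erase none, a i ^ 2 = 16 := by
    unfold sqNorm at hn
    rw [hsplit, h4] at hn
    linarith
  have hex : ∃ j, j ≠ none ∧ a j ≠ 0 := by
    by_contra hcon
    have h0 : ∑ i ∈ Finset.univ.erase none, a i ^ 2 = 0 := Finset.sum_eq_zero (fun i hi => by
      have hi' := (Finset.mem_erase.mp hi).1
      have h0 : a i = 0 := by
        by_contra h
        exact hcon ⟨i, hi', h⟩
      rw [h0]
      norm_num)
    omega
  obtain ⟨j, hj, haj⟩ := hex
  have hsplit2 : ∑ i ∈ Finset.univ.erase none, a i ^ 2 =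
      a j ^ 2 + ∑ i ∈ (Finset.univ.erase none).erase j, a i ^ 2 :=
    (Finset.add_sum_erase _ _ (Finset.mem_erase.mpr ⟨hj, Finset.mem_univ j⟩)).symm
  have hnn : 0 ≤ ∑ i ∈ (Finset.univ.erase none).erase j, a i ^ 2 :=
    Finset.sum_nonneg (fun i _ => sq_nonneg _)
  have h16 := hge16 j haj
  have haj16 : a j ^ 2 = 16 := by linarith
  have hz0 : ∀ i, i ≠ none → i ≠ j → a i = 0 := by
    intro i hi hij
    by_contra hne
    have h1 : a i ^ 2 ≤ ∑ k ∈ (Finset.univ.erase none).erase j, a k ^ 2 :=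
      Finset.single_le_sum (f := fun k => a k ^ 2) (fun k _ => sq_nonneg _)
        (Finset.mem_erase.mpr ⟨hij, Finset.mem_erase.mpr ⟨hi, Finset.mem_univ i⟩⟩)
    have := hge16 i hne
    linarith
  refine ⟨j, hj, a j, sq_eq_sq_cases 4 (by rw [haj16]; norm_num), ?_⟩
  funext i
  rw [Pi.add_apply]
  by_cases hi : i = none
  · subst hi
    rw [Pi.single_eq_same, Pi.single_eq_of_ne (Ne.symm hj), h4, add_zero]
  · by_cases hij : i = j
    · subst hij
      rw [Pi.single_eq_of_ne hi, Pi.single_eq_same, zero_add]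
    · rw [Pi.single_eq_of_ne hi, Pi.single_eq_of_ne hij, hz0 i hi hij, add_zero]

/-- An orthogonal pair of minimal vectors can be moved to `4 e_∞ ± 4 e_j`. -/
theorem orth_normal (v w : leechLattice) (hv : sqNorm (v : GolayPt → ℤ) = 32)
    (hw : sqNorm (w : GolayPt → ℤ) = 32)
    (hd : dotInt (v : GolayPt → ℤ) (w : GolayPt → ℤ) = 0) :
    ∃ g : Equiv.Perm leechLattice, g ∈ Co0 ∧ ∃ j, j ≠ none ∧ ∃ s : ℤ, (s = 4 ∨ s = -4) ∧
      ((g v : leechLattice) : GolayPt → ℤ) = Pi.single none 4 + Pi.single j s ∧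
      ((g w : leechLattice) : GolayPt → ℤ) = Pi.single none 4 - Pi.single j s := by
  have hn : sqNorm ((v + w : leechLattice) : GolayPt → ℤ) = 64 := by
    show sqNorm ((v : GolayPt → ℤ) + (w : GolayPt → ℤ)) = 64
    rw [sqNorm_add, hv, hw, hd]
    norm_num
  obtain ⟨g, hg⟩ := trans_norm64 (v + w) (axisVec none) hn (axis_norm none)
  have hg' : (g : Equiv.Perm leechLattice) v + (g : Equiv.Perm leechLattice) w = axisVec none := by
    rw [← g.2.1]
    exact hg
  have hsum : ((g.1 v : leechLattice) : GolayPt → ℤ) + ((g.1 w : leechLattice) : GolayPt → ℤ) =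
      Pi.single none 8 := congrArg (fun u : leechLattice => (u : GolayPt → ℤ)) hg'
  have hna : sqNorm ((g.1 v : leechLattice) : GolayPt → ℤ) = 32 := by
    rw [g.2.2]
    exact hv
  have hdot : dotInt ((g.1 v : leechLattice) : GolayPt → ℤ)
      ((g.1 w : leechLattice) : GolayPt → ℤ) = 0 := by
    rw [co0_dot g.2]
    exact hd
  have h4 : ((g.1 v : leechLattice) : GolayPt → ℤ) none = 4 := by
    have h1 : dotInt ((g.1 v : leechLattice) : GolayPt → ℤ) (Pi.single none 8) = 32 := by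
      rw [← hsum, dotInt_add_right, dotInt_self, hna, hdot]
      norm_num
    rw [dotInt_single] at h1
    linarith
  obtain ⟨j, hj, s, hs, ha⟩ := min_four (g.1 v).2 hna h4
  refine ⟨g.1, g.2, j, hj, s, hs, ha, ?_⟩
  have e1 : ((g.1 w : leechLattice) : GolayPt → ℤ) =
      Pi.single none 8 - ((g.1 v : leechLattice) : GolayPt → ℤ) := by
    rw [← hsum]
    abel
  have e2 : (Pi.single none 8 : GolayPt → ℤ) = Pi.single none 4 + Pi.single none 4 := by
    rw [← Pi.single_add]
    norm_num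
  rw [e1, ha, e2]
  abel

/-- A monomial automorphism moving `4 e_∞ ± 4 e_j` to `4 e_∞ ± 4 e_j'`. -/
theorem mono_move {j j' : GolayPt} (hj : j ≠ none) (hj' : j' ≠ none) {s s' : ℤ}
    (hs : s = 4 ∨ s = -4) (hs' : s' = 4 ∨ s' = -4) :
    ∃ m : Equiv.Perm leechLattice, m ∈ Co0 ∧ ∀ p : leechLattice, ∀ t : ℤ,
      (p : GolayPt → ℤ) = Pi.single none 4 + Pi.single j (t * s) →
      ((m p : leechLattice) : GolayPt → ℤ) = Pi.single none 4 + Pi.single j' (t * s') := by
  obtain ⟨σ, hσ, hσ1, hσ2⟩ := m24_trans2 (p := none) (p' := j) (q := none) (q' := j')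
    (Ne.symm hj) (Ne.symm hj')
  obtain ⟨c, hc, hc1, hc2⟩ := exists_sign_two (i := none) (j := j') (Ne.symm hj') False (s' ≠ s)
  refine ⟨monoPerm σ hσ c hc, monoPerm_mem σ hσ c hc, ?_⟩
  intro p t hp
  rw [monoPerm_apply, hp, signedPerm_add, signedPerm_single, signedPerm_single, hσ1, hσ2,
    if_neg (fun h => hc1.mp h)]
  congr 2
  by_cases hss : s' = s
  · rw [if_neg (fun h => (hc2.mp h) hss), hss]
  · rw [if_pos (hc2.mpr hss)]
    rcases hs with rfl | rfl <;> rcases hs' with rfl | rfl <;>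
      first | exact absurd rfl hss | ring

/-- The stabiliser of a minimal vector is transitive on the minimal vectors orthogonal to it. -/
theorem orth_pair_trans (v w w' : leechLattice) (hv : sqNorm (v : GolayPt → ℤ) = 32)
    (hw : sqNorm (w : GolayPt → ℤ) = 32) (hw' : sqNorm (w' : GolayPt → ℤ) = 32)
    (hd : dotInt (v : GolayPt → ℤ) (w : GolayPt → ℤ) = 0)
    (hd' : dotInt (v : GolayPt → ℤ) (w' : GolayPt → ℤ) = 0) :
    ∃ g : ↥Co0, g • v = v ∧ g • w = w' := by
  obtain ⟨g, hg, j, hj, s, hs, hgv, hgw⟩ := orth_normal v w hv hw hd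
  obtain ⟨g', hg', j', hj', s', hs', hgv', hgw'⟩ := orth_normal v w' hv hw' hd'
  obtain ⟨m, hm, hmove⟩ := mono_move hj hj' hs hs'
  refine ⟨⟨g'⁻¹ * m * g, Co0.mul_mem (Co0.mul_mem (Co0.inv_mem hg') hm) hg⟩, ?_, ?_⟩
  · show (g'⁻¹ * m * g) v = v
    rw [Equiv.Perm.mul_apply, Equiv.Perm.mul_apply]
    have e : m (g v) = g' v := by
      apply Subtype.ext
      rw [hmove (g v) 1 (by rw [one_mul]; exact hgv), one_mul, hgv']
    rw [e]
    exact Equiv.symm_apply_apply g' v
  · show (g'⁻¹ * m * g) w = w'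
    rw [Equiv.Perm.mul_apply, Equiv.Perm.mul_apply]
    have e : m (g w) = g' w' := by
      apply Subtype.ext
      rw [hmove (g w) (-1) (by rw [hgw, neg_one_mul, Pi.single_neg, sub_eq_add_neg]), hgw',
        neg_one_mul, Pi.single_neg, sub_eq_add_neg]
    rw [e]
    exact Equiv.symm_apply_apply g' w'

end Cfsg.Agent.Lib.Helper10
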