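import Mathlib
import Cfsg.Prelude.Def_Sporadic_a
import Cfsg.Prelude.Def_Spor_Conway
import Cfsg.Agent.Lib.Helper10.OrthPairs

set_option autoImplicit false

namespace Cfsg.Agent.Lib.Helper10

open Cfsg Cfsg.Agent.Lib.Helper9
open scoped Pointwise

/-! ### Structure of the minimal vectors -/

theorem sq_le_norm (x : GolayPt → ℤ) (q : GolayPt) : x q ^ 2 ≤ sqNorm x :=
  Finset.single_le_sum (f := fun j => x j ^ 2) (fun j _ => sq_nonneg (x j)) (Finset.mem_univ q)

theorem min_cases {x : GolayPt → ℤ} (hx : x ∈ leechLattice) :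
    (∀ i, x i % 4 = 0) ∨ (∃ i0, x i0 % 4 = 2) ∨ (∀ i, x i % 2 = 1) := by
  obtain ⟨par, hpar, μ, hμ, hmod, -⟩ :=
    (mem_leechSet_struct x).mp ((mem_leechLattice_iff x).mp hx)
  have hp : par = 0 ∨ par = 1 := by omega
  rcases hp with rfl | rfl
  · by_cases h2 : ∃ i0, x i0 % 4 = 2
    · exact Or.inr (Or.inl h2)
    · left
      intro i
      have h3 : x i % 4 ≠ 2 := fun h => h2 ⟨i, h⟩
      have := hmod i
      rcases bitZ_cases μ i with ⟨-, hz⟩ | ⟨-, hz⟩ <;> rw [hz] at this <;> omega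
  · right; right
    intro i
    have := hmod i
    rcases bitZ_cases μ i with ⟨-, hz⟩ | ⟨-, hz⟩ <;> rw [hz] at this <;> omega

/-- An even minimal vector with a coordinate congruent to 2 modulo 4 is `±2` on an octad. -/
theorem min_even {x : GolayPt → ℤ} (hx : x ∈ leechLattice) (hn : sqNorm x = 32) {i0 : GolayPt}
    (h2 : x i0 % 4 = 2) :
    ∃ S ∈ octads, i0 ∈ S ∧ (∀ i ∈ S, x i ^ 2 = 4) ∧ ∀ i, i ∉ S → x i = 0 := by
  classical
  obtain ⟨S, hSg, hi0, hcard8, hin, hout, -⟩ := even_struct hx h2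
  have hsplit : ∑ i ∈ S, x i ^ 2 + ∑ i ∈ Sᶜ, x i ^ 2 = 32 := by
    rw [Finset.sum_add_sum_compl]
    exact hn
  have hge : ∀ i ∈ S, 4 ≤ x i ^ 2 := by
    intro i hi
    have := hin i hi
    have h : x i ≤ -2 ∨ 2 ≤ x i := by omega
    rcases h with h | h <;> nlinarith
  have hcardS := Finset.card_nsmul_le_sum S (fun i => x i ^ 2) 4 hge
  have hcardS' : (S.card : ℤ) * 4 ≤ ∑ i ∈ S, x i ^ 2 := by simpa [nsmul_eq_mul] using hcardS
  have hnn : 0 ≤ ∑ i ∈ Sᶜ, x i ^ 2 := Finset.sum_nonneg (fun i _ => sq_nonneg _)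
  have hS8 : S.card = 8 := by omega
  have hSsum : ∑ i ∈ S, x i ^ 2 = 32 := by
    rw [hS8] at hcardS'
    push_cast at hcardS'
    omega
  have hCsum : ∑ i ∈ Sᶜ, x i ^ 2 = 0 := by omega
  refine ⟨S, ⟨hSg, hS8⟩, hi0, ?_, ?_⟩
  · have h0 : ∑ i ∈ S, (x i ^ 2 - 4) = 0 := by
      rw [Finset.sum_sub_distrib, hSsum, Finset.sum_const, hS8]
      norm_num
    intro i hi
    have := (Finset.sum_eq_zero_iff_of_nonneg (fun i hi => by have := hge i hi; omega)).mp h0 i hi
    omega
  · intro i hi
    have h := (Finset.sum_eq_zero_iff_of_nonneg (fun i _ => sq_nonneg (x i))).mp hCsum i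
      (Finset.mem_compl.mpr hi)
    exact pow_eq_zero_iff (two_ne_zero) |>.mp h

/-- An odd minimal vector has one coordinate `±3` and all the others `±1`. -/
theorem min_odd {x : GolayPt → ℤ} (hx : x ∈ leechLattice) (hn : sqNorm x = 32) {i0 : GolayPt}
    (h1 : x i0 % 2 = 1) : ∃ k, x k ^ 2 = 9 ∧ ∀ i, i ≠ k → x i ^ 2 = 1 := by
  classical
  obtain ⟨y, hxy, hy1, hsq⟩ := odd_struct hx h1
  have hyn : sqNorm y = 32 := by rw [hxy.norm, hn]
  simp only [← hsq]
  set F : Finset GolayPt := Finset.univ.filter (fun i => y i ≠ 1) with hF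
  have hmemF : ∀ i, i ∈ F ↔ y i ≠ 1 := fun i => by rw [hF, Finset.mem_filter]; simp
  have hsplit : ∑ i ∈ F, y i ^ 2 + ∑ i ∈ Fᶜ, y i ^ 2 = 32 := by
    rw [Finset.sum_add_sum_compl]
    exact hyn
  have hcompl : ∑ i ∈ Fᶜ, y i ^ 2 = (Fᶜ.card : ℤ) := by
    rw [Finset.sum_congr rfl (g := fun _ => (1 : ℤ))]
    · simp
    · intro i hi
      rw [Finset.mem_compl, hmemF, not_not] at hi
      rw [hi]
      norm_num
  have hge : ∀ i ∈ F, 9 ≤ y i ^ 2 := by
    intro i hi
    have h1 := hy1 i
    have h2 := (hmemF i).mp hi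
    have h : y i ≤ -3 ∨ 5 ≤ y i := by omega
    rcases h with h | h <;> nlinarith
  have hcard := Finset.card_nsmul_le_sum F (fun i => y i ^ 2) 9 hge
  have hcc : F.card + Fᶜ.card = 24 := by
    rw [Finset.card_add_card_compl]
    exact card_golayPt
  have hcard' : (F.card : ℤ) * 9 ≤ ∑ i ∈ F, y i ^ 2 := by simpa [nsmul_eq_mul] using hcard
  have hc1 : F.card ≤ 1 := by omega
  have hc0 : F.card ≠ 0 := by
    intro h0
    have h0' : ∑ i ∈ F, y i ^ 2 = 0 := by
      rw [Finset.card_eq_zero.mp h0, Finset.sum_empty]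
    omega
  have hc : F.card = 1 := by omega
  obtain ⟨j, hj⟩ := Finset.card_eq_one.mp hc
  have hFj : ∑ i ∈ F, y i ^ 2 = y j ^ 2 := by rw [hj, Finset.sum_singleton]
  refine ⟨j, by omega, fun q hq => ?_⟩
  have : y q = 1 := by
    by_contra h
    have : q ∈ F := (hmemF q).mpr h
    rw [hj, Finset.mem_singleton] at this
    exact hq this
  rw [this]
  norm_num

/-! ### Dot products with `(4, 4, 0, …)` and vectors with two coordinates `±4` -/

theorem dotInt_comm (a b : GolayPt → ℤ) : dotInt a b = dotInt b a := by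
  simp only [dotInt, mul_comm]

theorem vecU_eq : Spor.vecU = Pi.single none 4 + Pi.single (some 0) 4 := by
  funext p
  unfold Spor.vecU
  rw [Pi.add_apply, Pi.single_apply, Pi.single_apply]
  by_cases h1 : p = none
  · subst h1
    simp
  · by_cases h2 : p = some 0
    · subst h2
      simp
    · simp [h1, h2]

theorem dotInt_vecU (x : GolayPt → ℤ) : dotInt Spor.vecU x = 4 * (x none + x (some 0)) := by
  rw [dotInt_comm, vecU_eq, dotInt_add_right, dotInt_single, dotInt_single]
  ring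

theorem sqNorm_pair {i j : GolayPt} (hij : i ≠ j) (s t : ℤ) :
    sqNorm (Pi.single i s + Pi.single j t : GolayPt → ℤ) = s ^ 2 + t ^ 2 := by
  rw [sqNorm_add, sqNorm_single, sqNorm_single, dotInt_single, Pi.single_eq_of_ne (Ne.symm hij)]
  ring

theorem pair_mem {i j : GolayPt} (hij : i ≠ j) {s t : ℤ} (hs : s = 4 ∨ s = -4)
    (ht : t = 4 ∨ t = -4) : (Pi.single i s + Pi.single j t : GolayPt → ℤ) ∈ leechLattice := by
  apply mem_LL_of
  apply Spor.mem_leechSet_of_const_mod_four _ 0 0 (by decide)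
  · intro q
    rw [Pi.add_apply, Pi.single_apply, Pi.single_apply]
    rcases hs with rfl | rfl <;> rcases ht with rfl | rfl <;> split_ifs <;> decide
  · simp only [Pi.add_apply]
    rw [Finset.sum_add_distrib, Finset.sum_pi_single', Finset.sum_pi_single']
    simp only [Finset.mem_univ, if_true]
    rcases hs with rfl | rfl <;> rcases ht with rfl | rfl <;> decide

/-- The minimal vector `s e_i + t e_j`. -/
theorem pairU {i j : GolayPt} (hij : i ≠ j) {s t : ℤ} (hs : s = 4 ∨ s = -4)
    (ht : t = 4 ∨ t = -4) :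
    ∃ u : leechLattice, sqNorm (u : GolayPt → ℤ) = 32 ∧
      ∀ x : GolayPt → ℤ, dotInt x (u : GolayPt → ℤ) = x i * s + x j * t := by
  refine ⟨⟨_, pair_mem hij hs ht⟩, ?_, fun x => ?_⟩
  · show sqNorm (Pi.single i s + Pi.single j t : GolayPt → ℤ) = 32
    rw [sqNorm_pair hij]
    rcases hs with rfl | rfl <;> rcases ht with rfl | rfl <;> norm_num
  · show dotInt x (Pi.single i s + Pi.single j t) = _
    rw [dotInt_add_right, dotInt_single, dotInt_single]

theorem vecU_none : Spor.vecU none = 4 := by decide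

theorem vecU_zero : Spor.vecU (some 0) = 4 := by decide

theorem vecU_other {q : GolayPt} (h1 : q ≠ none) (h2 : q ≠ some 0) : Spor.vecU q = 0 := by
  unfold Spor.vecU
  rw [if_neg (by tauto)]

/-- The difference of a vector and its image under the sign change on a set of eight
coordinates `±1`. -/
theorem signDiff {x : GolayPt → ℤ} (hx : x ∈ leechLattice) {c : Finset GolayPt} (hc : c ∈ gsup)
    (hc8 : c.card = 8) (h1 : ∀ i ∈ c, x i ^ 2 = 1) :
    ∃ u : leechLattice, sqNorm (u : GolayPt → ℤ) = 32 ∧ dotInt x (u : GolayPt → ℤ) = -16 ∧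
      ∀ q, q ∉ c → (u : GolayPt → ℤ) q = 0 := by
  classical
  have hval : ∀ i, (signVec c x - x) i = if i ∈ c then -2 * x i else 0 := by
    intro i
    rw [Pi.sub_apply, signVec_apply]
    split_ifs <;> ring
  refine ⟨⟨signVec c x - x, leechLattice.sub_mem (coeq_sign hx hc).mem_right hx⟩, ?_, ?_, ?_⟩
  · show ∑ i, (signVec c x - x) i ^ 2 = 32
    have e : ∀ i ∈ (Finset.univ : Finset GolayPt),
        (signVec c x - x) i ^ 2 = if i ∈ c then (4 : ℤ) else 0 := by
      intro i _
      rw [hval]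
      by_cases hi : i ∈ c
      · rw [if_pos hi, if_pos hi]
        have := h1 i hi
        nlinarith
      · rw [if_neg hi, if_neg hi]
        norm_num
    rw [Finset.sum_congr rfl e, Finset.sum_ite_mem, Finset.univ_inter, Finset.sum_const, hc8]
    norm_num
  · show ∑ i, x i * (signVec c x - x) i = -16
    have e : ∀ i ∈ (Finset.univ : Finset GolayPt),
        x i * (signVec c x - x) i = if i ∈ c then (-2 : ℤ) else 0 := by
      intro i _
      rw [hval]
      by_cases hi : i ∈ c
      · rw [if_pos hi, if_pos hi]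
        have := h1 i hi
        nlinarith
      · rw [if_neg hi, if_neg hi]
        norm_num
    rw [Finset.sum_congr rfl e, Finset.sum_ite_mem, Finset.univ_inter, Finset.sum_const, hc8]
    norm_num
  · intro q hq
    show (signVec c x - x) q = 0
    rw [hval, if_neg hq]

/-! ### Auxiliary minimal vectors -/

/-- An octad avoiding the points `∞` and `0`. -/
def Oaux : Finset GolayPt := Cfsg.Agent.Lib.Helper36.ms 6337856

theorem Oaux_mem : Oaux ∈ gsup := ms_mem_gsup (by decide +kernel)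

theorem Oaux_card : Oaux.card = 8 := by
  rw [Oaux, Cfsg.Agent.Lib.Helper36.card_ms]
  decide +kernel

theorem Oaux_none : (none : GolayPt) ∉ Oaux := by
  rw [Oaux, Cfsg.Agent.Lib.Helper36.mem_ms]
  decide

theorem Oaux_zero : (some 0 : GolayPt) ∉ Oaux := by
  rw [Oaux, Cfsg.Agent.Lib.Helper36.mem_ms]
  decide

theorem sq_one_cases {t : ℤ} (h : t ^ 2 = 1) : t = 1 ∨ t = -1 :=
  sq_eq_sq_cases 1 (by rw [h]; norm_num)

theorem sq_nine_cases {t : ℤ} (h : t ^ 2 = 9) : t = 3 ∨ t = -3 :=
  sq_eq_sq_cases 3 (by rw [h]; norm_num)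

theorem sq_four_cases {t : ℤ} (h : t ^ 2 = 4) : t = 2 ∨ t = -2 :=
  sq_eq_sq_cases 2 (by rw [h]; norm_num)

/-- For a minimal vector `w` with `(4, 4, 0, …) · w = -16` there is a minimal vector orthogonal
to `(4, 4, 0, …)` with inner product `-16` with `w`. -/
theorem exists_u16 {x : GolayPt → ℤ} (hx : x ∈ leechLattice) (hw : sqNorm x = 32)
    (hd : dotInt Spor.vecU x = -16) :
    ∃ u : leechLattice, sqNorm (u : GolayPt → ℤ) = 32 ∧
      dotInt Spor.vecU (u : GolayPt → ℤ) = 0 ∧ dotInt x (u : GolayPt → ℤ) = -16 := by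
  classical
  rw [dotInt_vecU] at hd
  have hsum : x none + x (some 0) = -4 := by linarith
  have hb : ∀ q, x q ^ 2 ≤ 32 := fun q => by
    rw [← hw]
    exact sq_le_norm x q
  have hbd : ∀ q, -6 < x q ∧ x q < 6 := fun q => by
    have := hb q
    constructor <;> nlinarith
  rcases min_cases hx with h0 | ⟨i0, h2⟩ | h1
  · have hA := h0 none
    have hB := h0 (some 0)
    have bA := hbd none
    have bB := hbd (some 0)
    have hcase : (x none = -4 ∧ x (some 0) = 0) ∨ (x none = 0 ∧ x (some 0) = -4) := by omega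
    rcases hcase with ⟨hA4, hB0⟩ | ⟨hA0, hB4⟩
    · obtain ⟨u, hun, hud⟩ := pairU (i := none) (j := some 0) (by decide) (s := 4) (t := -4)
        (Or.inl rfl) (Or.inr rfl)
      refine ⟨u, hun, ?_, ?_⟩
      · rw [hud, vecU_none, vecU_zero]
        norm_num
      · rw [hud, hA4, hB0]
        norm_num
    · obtain ⟨u, hun, hud⟩ := pairU (i := none) (j := some 0) (by decide) (s := -4) (t := 4)
        (Or.inr rfl) (Or.inl rfl)
      refine ⟨u, hun, ?_, ?_⟩
      · rw [hud, vecU_none, vecU_zero]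
        norm_num
      · rw [hud, hA0, hB4]
        norm_num
  · obtain ⟨S, hS, -, hS4, hS0⟩ := min_even hx hw h2
    have hval : ∀ q, x q = 0 ∨ x q = 2 ∨ x q = -2 := by
      intro q
      by_cases hq : q ∈ S
      · rcases sq_four_cases (hS4 q hq) with h | h
        · exact Or.inr (Or.inl h)
        · exact Or.inr (Or.inr h)
      · exact Or.inl (hS0 q hq)
    have hA2 : x none = -2 := by
      rcases hval none with h | h | h <;> rcases hval (some 0) with h' | h' | h' <;> omega
    have hB2 : x (some 0) = -2 := by omega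
    have hnS : (none : GolayPt) ∈ S := by
      by_contra h
      have := hS0 none h
      omega
    have hzS : (some 0 : GolayPt) ∈ S := by
      by_contra h
      have := hS0 (some 0) h
      omega
    have hcard : 1 < ((S.erase none).erase (some 0)).card := by
      rw [Finset.card_erase_of_mem (Finset.mem_erase.mpr ⟨by decide, hzS⟩),
        Finset.card_erase_of_mem hnS, hS.2]
      norm_num
    obtain ⟨i, hi, j, hj, hij⟩ := Finset.one_lt_card.mp hcard
    rw [Finset.mem_erase, Finset.mem_erase] at hi hj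
    have hxi := sq_four_cases (hS4 i hi.2.2)
    have hxj := sq_four_cases (hS4 j hj.2.2)
    obtain ⟨u, hun, hud⟩ := pairU hij (s := -2 * x i) (t := -2 * x j)
      (by rcases hxi with h | h <;> rw [h] <;> norm_num)
      (by rcases hxj with h | h <;> rw [h] <;> norm_num)
    refine ⟨u, hun, ?_, ?_⟩
    · rw [hud, vecU_other hi.2.1 hi.1, vecU_other hj.2.1 hj.1]
      norm_num
    · rw [hud]
      have h1 := hS4 i hi.2.2
      have h2 := hS4 j hj.2.2
      nlinarith
  · obtain ⟨k, hk9, hk1⟩ := min_odd hx hw (h1 none)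
    have hk : k = none ∨ k = some 0 := by
      by_contra hcon
      have hkn : (none : GolayPt) ≠ k := fun h => hcon (Or.inl h.symm)
      have hkz : (some 0 : GolayPt) ≠ k := fun h => hcon (Or.inr h.symm)
      rcases sq_one_cases (hk1 none hkn) with h | h <;>
        rcases sq_one_cases (hk1 (some 0) hkz) with h' | h' <;> omega
    have hO1 : ∀ i ∈ Oaux, x i ^ 2 = 1 := by
      intro i hi
      apply hk1
      rintro rfl
      rcases hk with h | h
      · rw [h] at hi
        exact Oaux_none hi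
      · rw [h] at hi
        exact Oaux_zero hi
    obtain ⟨u, hun, hud, hu0⟩ := signDiff hx Oaux_mem Oaux_card hO1
    refine ⟨u, hun, ?_, hud⟩
    rw [dotInt_vecU, hu0 none Oaux_none, hu0 (some 0) Oaux_zero]
    norm_num

/-- For a minimal vector `w` with `(4, 4, 0, …) · w = -8` there is a minimal vector orthogonal
to `(4, 4, 0, …)` with inner product `-8` with `w`. -/
theorem exists_u8 {x : GolayPt → ℤ} (hx : x ∈ leechLattice) (hw : sqNorm x = 32)
    (hd : dotInt Spor.vecU x = -8) :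
    ∃ u : leechLattice, sqNorm (u : GolayPt → ℤ) = 32 ∧
      dotInt Spor.vecU (u : GolayPt → ℤ) = 0 ∧ dotInt x (u : GolayPt → ℤ) = -8 := by
  classical
  rw [dotInt_vecU] at hd
  have hsum : x none + x (some 0) = -2 := by linarith
  rcases min_cases hx with h0 | ⟨i0, h2⟩ | h1
  · exfalso
    have hA := h0 none
    have hB := h0 (some 0)
    omega
  · obtain ⟨S, hS, -, hS4, hS0⟩ := min_even hx hw h2
    have hval : ∀ q, x q = 0 ∨ x q = 2 ∨ x q = -2 := by
      intro q
      by_cases hq : q ∈ S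
      · rcases sq_four_cases (hS4 q hq) with h | h
        · exact Or.inr (Or.inl h)
        · exact Or.inr (Or.inr h)
      · exact Or.inl (hS0 q hq)
    have hcase : (x none = -2 ∧ x (some 0) = 0) ∨ (x none = 0 ∧ x (some 0) = -2) := by
      rcases hval none with h | h | h <;> rcases hval (some 0) with h' | h' | h' <;> omega
    rcases hcase with ⟨hA, hB⟩ | ⟨hA, hB⟩
    · obtain ⟨u, hun, hud⟩ := pairU (i := none) (j := some 0) (by decide) (s := 4) (t := -4)
        (Or.inl rfl) (Or.inr rfl)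
      refine ⟨u, hun, ?_, ?_⟩
      · rw [hud, vecU_none, vecU_zero]
        norm_num
      · rw [hud, hA, hB]
        norm_num
    · obtain ⟨u, hun, hud⟩ := pairU (i := none) (j := some 0) (by decide) (s := -4) (t := 4)
        (Or.inr rfl) (Or.inl rfl)
      refine ⟨u, hun, ?_, ?_⟩
      · rw [hud, vecU_none, vecU_zero]
        norm_num
      · rw [hud, hA, hB]
        norm_num
  · obtain ⟨k, hk9, hk1⟩ := min_odd hx hw (h1 none)
    have hex : ∃ i j : GolayPt, i ≠ j ∧ i ≠ none ∧ i ≠ some 0 ∧ i ≠ k ∧ j ≠ none ∧ j ≠ some 0 ∧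
        j ≠ k := by
      by_cases h1 : k = some 1
      · exact ⟨some 2, some 3, by decide, by decide, by decide, by rw [h1]; decide, by decide,
          by decide, by rw [h1]; decide⟩
      · by_cases h2 : k = some 2
        · exact ⟨some 1, some 3, by decide, by decide, by decide, by rw [h2]; decide, by decide,
            by decide, by rw [h2]; decide⟩
        · exact ⟨some 1, some 2, by decide, by decide, by decide, fun h => h1 h.symm, by decide,
            by decide, fun h => h2 h.symm⟩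
    obtain ⟨i, j, hij, hi1, hi2, hi3, hj1, hj2, hj3⟩ := hex
    have hxi := sq_one_cases (hk1 i hi3)
    have hxj := sq_one_cases (hk1 j hj3)
    obtain ⟨u, hun, hud⟩ := pairU hij (s := -4 * x i) (t := -4 * x j)
      (by rcases hxi with h | h <;> rw [h] <;> norm_num)
      (by rcases hxj with h | h <;> rw [h] <;> norm_num)
    refine ⟨u, hun, ?_, ?_⟩
    · rw [hud, vecU_other hi1 hi2, vecU_other hj1 hj2]
      norm_num
    · rw [hud]
      have h1 := hk1 i hi3
      have h2 := hk1 j hj3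
      nlinarith

/-! ### Frames adapted to a pair -/

/-- For orthogonal minimal vectors `v`, `u` there is an automorphism taking `v + u` to `8 e_∞`;
the coordinate at `∞` of the image of `y` is then `y · (v + u) / 8`. -/
theorem frame_of_orth (v u : leechLattice) (hv : sqNorm (v : GolayPt → ℤ) = 32)
    (hu : sqNorm (u : GolayPt → ℤ) = 32)
    (hvu : dotInt (v : GolayPt → ℤ) (u : GolayPt → ℤ) = 0) :
    ∃ g : Equiv.Perm leechLattice, g ∈ Co0 ∧ ∀ y : leechLattice,
      8 * ((g y : leechLattice) : GolayPt → ℤ) none =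
        dotInt (y : GolayPt → ℤ) (v : GolayPt → ℤ) + dotInt (y : GolayPt → ℤ) (u : GolayPt → ℤ) := by
  have hn : sqNorm ((v + u : leechLattice) : GolayPt → ℤ) = 64 := by
    show sqNorm ((v : GolayPt → ℤ) + (u : GolayPt → ℤ)) = 64
    rw [sqNorm_add, hv, hu, hvu]
    norm_num
  obtain ⟨g, hg⟩ := trans_norm64 (v + u) (axisVec none) hn (axis_norm none)
  refine ⟨g.1, g.2, fun y => ?_⟩
  have h1 := co0_dot g.2 y (v + u)
  have h2 : (g.1 (v + u) : leechLattice) = axisVec none := hg
  rw [h2] at h1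
  have h3 : ((axisVec none : leechLattice) : GolayPt → ℤ) = Pi.single none 8 := rfl
  have h4 : ((v + u : leechLattice) : GolayPt → ℤ) = (v : GolayPt → ℤ) + (u : GolayPt → ℤ) := rfl
  rw [h3, dotInt_single, h4, dotInt_add_right] at h1
  linarith

/-- Normal form of a pair of minimal vectors with inner product `-16`, given an auxiliary
vector. -/
theorem nf16 (v w u : leechLattice) (hv : sqNorm (v : GolayPt → ℤ) = 32)
    (hw : sqNorm (w : GolayPt → ℤ) = 32) (hu : sqNorm (u : GolayPt → ℤ) = 32)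
    (hvw : dotInt (v : GolayPt → ℤ) (w : GolayPt → ℤ) = -16)
    (hvu : dotInt (v : GolayPt → ℤ) (u : GolayPt → ℤ) = 0)
    (hwu : dotInt (w : GolayPt → ℤ) (u : GolayPt → ℤ) = -16) :
    ∃ g : Equiv.Perm leechLattice, g ∈ Co0 ∧ ∃ j k : GolayPt, j ≠ none ∧ k ≠ none ∧ j ≠ k ∧
      ∃ s t : ℤ, (s = 4 ∨ s = -4) ∧ (t = 4 ∨ t = -4) ∧
        ((g v : leechLattice) : GolayPt → ℤ) = Pi.single none 4 + Pi.single j s ∧
        ((g w : leechLattice) : GolayPt → ℤ) = Pi.single none (-4) + Pi.single k t := by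
  obtain ⟨g, hg, hcoord⟩ := frame_of_orth v u hv hu hvu
  have ha4 : ((g v : leechLattice) : GolayPt → ℤ) none = 4 := by
    have := hcoord v
    rw [dotInt_self, hv, hvu] at this
    linarith
  have hb4 : ((g w : leechLattice) : GolayPt → ℤ) none = -4 := by
    have := hcoord w
    rw [dotInt_comm (w : GolayPt → ℤ) (v : GolayPt → ℤ), hvw, hwu] at this
    linarith
  have hna : sqNorm ((g v : leechLattice) : GolayPt → ℤ) = 32 := by
    rw [hg.2]
    exact hv
  have hnb : sqNorm ((g w : leechLattice) : GolayPt → ℤ) = 32 := by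
    rw [hg.2]
    exact hw
  obtain ⟨j, hj, s, hs, ha⟩ := min_four (g v).2 hna ha4
  have hnb' : sqNorm (-((g w : leechLattice) : GolayPt → ℤ)) = 32 := by
    rw [← hnb]
    simp [sqNorm]
  obtain ⟨k, hk, t', ht', hb⟩ := min_four (leechLattice.neg_mem (g w).2) hnb'
    (by rw [Pi.neg_apply, hb4]; norm_num)
  have hb' : ((g w : leechLattice) : GolayPt → ℤ) = Pi.single none (-4) + Pi.single k (-t') := by
    have e : ((g w : leechLattice) : GolayPt → ℤ) = -(Pi.single none 4 + Pi.single k t') := by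
      rw [← hb, neg_neg]
    rw [e, neg_add, ← Pi.single_neg, ← Pi.single_neg]
  refine ⟨g, hg, j, k, hj, hk, ?_, s, -t', hs, ?_, ha, hb'⟩
  · intro hjk
    subst hjk
    have hdot := co0_dot hg v w
    rw [hvw, ha, hb', dotInt_add_right, dotInt_single, dotInt_single] at hdot
    simp only [Pi.add_apply, Pi.single_eq_same, Pi.single_eq_of_ne hj,
      Pi.single_eq_of_ne (Ne.symm hj)] at hdot
    rcases hs with rfl | rfl <;> rcases ht' with rfl | rfl <;> norm_num at hdot
  · rcases ht' with rfl | rfl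
    · right
      rfl
    · left
      norm_num

/-- Sign changes on the reference tetrad. -/
theorem sign_T0 (P : GolayPt → Prop) : ∃ c ∈ gsup, ∀ q ∈ T0f, (q ∈ c ↔ P q) := by
  classical
  obtain ⟨c, hc, h⟩ := cut_T0 (T0f.filter P)
  refine ⟨c, hc, fun q hq => ?_⟩
  have : q ∈ c ∩ T0f ↔ q ∈ T0f.filter P ∩ T0f := by rw [h]
  rw [Finset.mem_inter, Finset.mem_inter, Finset.mem_filter] at this
  tauto

theorem none_mem_T0f : (none : GolayPt) ∈ T0f := by
  rw [T0f, Cfsg.Agent.Lib.Helper36.mem_ms]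
  decide

theorem zero_mem_T0f : (some 0 : GolayPt) ∈ T0f := by
  rw [T0f, Cfsg.Agent.Lib.Helper36.mem_ms]
  decide

theorem one_mem_T0f : (some 1 : GolayPt) ∈ T0f := by
  rw [T0f, Cfsg.Agent.Lib.Helper36.mem_ms]
  decide

/-- A monomial automorphism taking `α e_∞ + β s e_j + γ t e_k` to
`α e_∞ + 4 β e_0 + 4 γ e_1`. -/
theorem mono16 {j k : GolayPt} (hj : j ≠ none) (hk : k ≠ none) (hjk : j ≠ k) {s t : ℤ}
    (hs : s = 4 ∨ s = -4) (ht : t = 4 ∨ t = -4) :
    ∃ m : Equiv.Perm leechLattice, m ∈ Co0 ∧ ∀ (p : leechLattice) (α β γ : ℤ),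
      (p : GolayPt → ℤ) = Pi.single none α + Pi.single j (β * s) + Pi.single k (γ * t) →
      ((m p : leechLattice) : GolayPt → ℤ) =
        Pi.single none α + Pi.single (some 0) (β * 4) + Pi.single (some 1) (γ * 4) := by
  obtain ⟨σ, hσ, hσ1, hσ2, hσ3⟩ := m24_trans3 (p := none) (p' := j) (p'' := k) (q := none)
    (q' := some 0) (q'' := some 1) (Ne.symm hj) (Ne.symm hk) hjk (by decide) (by decide)
    (by decide)
  obtain ⟨c, hc, hcT⟩ := sign_T0
    (fun q => (q = some 0 ∧ s = -4) ∨ (q = some 1 ∧ t = -4))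
  have hcn : (none : GolayPt) ∉ c := by
    intro h
    have := (hcT none none_mem_T0f).mp h
    rcases this with ⟨h1, -⟩ | ⟨h1, -⟩ <;> exact absurd h1 (by decide)
  have hc0 : (some 0 : GolayPt) ∈ c ↔ s = -4 := by
    rw [hcT _ zero_mem_T0f]
    constructor
    · rintro (⟨-, h⟩ | ⟨h, -⟩)
      · exact h
      · exact absurd h (by decide)
    · intro h
      exact Or.inl ⟨rfl, h⟩
  have hc1 : (some 1 : GolayPt) ∈ c ↔ t = -4 := by
    rw [hcT _ one_mem_T0f]
    constructor
    · rintro (⟨h, -⟩ | ⟨-, h⟩)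
      · exact absurd h (by decide)
      · exact h
    · intro h
      exact Or.inr ⟨rfl, h⟩
  refine ⟨monoPerm σ hσ c hc, monoPerm_mem σ hσ c hc, ?_⟩
  intro p α β γ hp
  rw [monoPerm_apply, hp, signedPerm_add, signedPerm_add, signedPerm_single, signedPerm_single,
    signedPerm_single, hσ1, hσ2, hσ3, if_neg hcn]
  have e0 : (if (some 0 : GolayPt) ∈ c then -(β * s) else β * s) = β * 4 := by
    rcases hs with rfl | rfl
    · rw [if_neg (fun h => by have := hc0.mp h; norm_num at this)]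
    · rw [if_pos (hc0.mpr rfl)]
      ring
  have e1 : (if (some 1 : GolayPt) ∈ c then -(γ * t) else γ * t) = γ * 4 := by
    rcases ht with rfl | rfl
    · rw [if_neg (fun h => by have := hc1.mp h; norm_num at this)]
    · rw [if_pos (hc1.mpr rfl)]
      ring
  rw [e0, e1]

theorem leechU_norm : sqNorm ((Spor.leechU : leechLattice) : GolayPt → ℤ) = 32 := by
  show sqNorm Spor.vecU = 32
  rw [vecU_eq, sqNorm_pair (by decide)]
  norm_num

/-- Two pairs taken to the same pair by automorphisms are in the same orbit of the stabiliser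
of the first vector. -/
theorem pair_trans_of {v w w' : leechLattice} {A B : GolayPt → ℤ}
    (h : ∃ g : Equiv.Perm leechLattice, g ∈ Co0 ∧ ((g v : leechLattice) : GolayPt → ℤ) = A ∧
      ((g w : leechLattice) : GolayPt → ℤ) = B)
    (h' : ∃ g : Equiv.Perm leechLattice, g ∈ Co0 ∧ ((g v : leechLattice) : GolayPt → ℤ) = A ∧
      ((g w' : leechLattice) : GolayPt → ℤ) = B) :
    ∃ g : ↥Co0, g • v = v ∧ g • w = w' := by
  obtain ⟨g, hg, hgv, hgw⟩ := h
  obtain ⟨g', hg', hgv', hgw'⟩ := h'
  refine ⟨⟨g'⁻¹ * g, Co0.mul_mem (Co0.inv_mem hg') hg⟩, ?_, ?_⟩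
  · show (g'⁻¹ * g) v = v
    rw [Equiv.Perm.mul_apply]
    have e : g v = g' v := Subtype.ext (hgv.trans hgv'.symm)
    rw [e]
    exact Equiv.symm_apply_apply g' v
  · show (g'⁻¹ * g) w = w'
    rw [Equiv.Perm.mul_apply]
    have e : g w = g' w' := Subtype.ext (hgw.trans hgw'.symm)
    rw [e]
    exact Equiv.symm_apply_apply g' w'

theorem core16 (w : leechLattice) (hw : sqNorm (w : GolayPt → ℤ) = 32)
    (hd : dotInt Spor.vecU (w : GolayPt → ℤ) = -16) :
    ∃ g : Equiv.Perm leechLattice, g ∈ Co0 ∧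
      ((g Spor.leechU : leechLattice) : GolayPt → ℤ) = Pi.single none 4 + Pi.single (some 0) 4 ∧
      ((g w : leechLattice) : GolayPt → ℤ) = Pi.single none (-4) + Pi.single (some 1) 4 := by
  obtain ⟨u, hun, hud, huw⟩ := exists_u16 w.2 hw hd
  obtain ⟨g, hg, j, k, hj, hk, hjk, s, t, hs, ht, ha, hb⟩ :=
    nf16 Spor.leechU w u leechU_norm hw hun hd hud huw
  obtain ⟨m, hm, hmove⟩ := mono16 hj hk hjk hs ht
  refine ⟨m * g, Co0.mul_mem hm hg, ?_, ?_⟩
  · rw [Equiv.Perm.mul_apply, hmove (g Spor.leechU) 4 1 0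
      (by rw [ha, one_mul, zero_mul, Pi.single_zero, add_zero]), one_mul, zero_mul,
      Pi.single_zero, add_zero]
  · rw [Equiv.Perm.mul_apply, hmove (g w) (-4) 0 1
      (by rw [hb, one_mul, zero_mul, Pi.single_zero, add_zero]), one_mul, zero_mul,
      Pi.single_zero, add_zero]

/-- The stabiliser of a minimal vector is transitive on the minimal vectors of inner product
`-16` with it. -/
theorem pair_trans_16 (v w w' : leechLattice) (hv : sqNorm (v : GolayPt → ℤ) = 32)
    (hw : sqNorm (w : GolayPt → ℤ) = 32) (hw' : sqNorm (w' : GolayPt → ℤ) = 32)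
    (hd : dotInt (v : GolayPt → ℤ) (w : GolayPt → ℤ) = -16)
    (hd' : dotInt (v : GolayPt → ℤ) (w' : GolayPt → ℤ) = -16) :
    ∃ g : ↥Co0, g • v = v ∧ g • w = w' := by
  obtain ⟨g0, hg0⟩ := trans_norm32 v Spor.leechU hv leechU_norm
  have e0 : (g0.1 v : leechLattice) = Spor.leechU := hg0
  have h1 : ∀ y : leechLattice, sqNorm (y : GolayPt → ℤ) = 32 →
      dotInt (v : GolayPt → ℤ) (y : GolayPt → ℤ) = -16 →
      ∃ g : Equiv.Perm leechLattice, g ∈ Co0 ∧
        ((g v : leechLattice) : GolayPt → ℤ) = Pi.single none 4 + Pi.single (some 0) 4 ∧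
        ((g y : leechLattice) : GolayPt → ℤ) = Pi.single none (-4) + Pi.single (some 1) 4 := by
    intro y hy hdy
    have hdy' : dotInt Spor.vecU ((g0.1 y : leechLattice) : GolayPt → ℤ) = -16 := by
      have h := co0_dot g0.2 v y
      rw [e0] at h
      rw [← hdy]
      exact h
    obtain ⟨g, hg, hgU, hgy⟩ := core16 (g0.1 y) (by rw [g0.2.2]; exact hy) hdy'
    refine ⟨g * g0.1, Co0.mul_mem hg g0.2, ?_, ?_⟩
    · rw [Equiv.Perm.mul_apply, e0]
      exact hgU
    · rw [Equiv.Perm.mul_apply]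
      exact hgy
  exact pair_trans_of (h1 w hw hd) (h1 w' hw' hd')

end Cfsg.Agent.Lib.Helper10
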