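import Mathlib
import Cfsg.Prelude.Def_Sporadic_a
import Cfsg.Prelude.Def_Spor_Conway
import Cfsg.Agent.Lib.Helper10.PairTrans
import Cfsg.Agent.Lib.Helper10.DotCountNum

set_option autoImplicit false

namespace Cfsg.Agent.Lib.Helper10

open Cfsg Cfsg.Agent.Lib.Helper9
open scoped Pointwise

/-! ### Pairs (vector of norm 48, minimal vector) with inner product `-16` -/

theorem dotInt_neg_right (a b : GolayPt → ℤ) : dotInt a (-b) = -dotInt a b := by
  simp only [dotInt, Pi.neg_apply, mul_neg, Finset.sum_neg_distrib]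

theorem dotInt_sub_right (a b c : GolayPt → ℤ) : dotInt a (b - c) = dotInt a b - dotInt a c := by
  simp only [dotInt, Pi.sub_apply, mul_sub, Finset.sum_sub_distrib]

theorem sqNorm_neg (a : GolayPt → ℤ) : sqNorm (-a) = sqNorm a := by
  simp [sqNorm]

theorem parity_const {x : GolayPt → ℤ} (hx : x ∈ leechLattice) (i j : GolayPt) :
    x i % 2 = x j % 2 := by
  obtain ⟨par, hpar, μ, hμ, hmod, -⟩ :=
    (mem_leechSet_struct x).mp ((mem_leechLattice_iff x).mp hx)
  have h1 := hmod i
  have h2 := hmod j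
  rcases bitZ_cases μ i with ⟨-, hz⟩ | ⟨-, hz⟩ <;> rcases bitZ_cases μ j with ⟨-, hz'⟩ | ⟨-, hz'⟩ <;>
    rw [hz] at h1 <;> rw [hz'] at h2 <;> omega

/-- An odd lattice vector becomes congruent to 1 modulo 4 everywhere after a sign change on a
code word. -/
theorem odd_sign {x : GolayPt → ℤ} (hx : x ∈ leechLattice) {i0 : GolayPt}
    (h1 : x i0 % 2 = 1) : ∃ c, ∃ _ : c ∈ gsup, ∀ i, signVec c x i % 4 = 1 := by
  obtain ⟨par, hpar, μ, hμ, hmod, hsum8⟩ :=
    (mem_leechSet_struct x).mp ((mem_leechLattice_iff x).mp hx)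
  have hp1 : par = 1 := by
    have := hmod i0
    rcases bitZ_cases μ i0 with ⟨-, hz⟩ | ⟨-, hz⟩ <;> rw [hz] at this <;> omega
  subst hp1
  have hc : support₂ (dec μ) ∈ gsup := ⟨dec μ, dec_mem_golay hμ, rfl⟩
  refine ⟨support₂ (dec μ), hc, fun i => ?_⟩
  rw [signVec_apply]
  have := hmod i
  rcases bitZ_cases μ i with ⟨hb, hz⟩ | ⟨hb, hz⟩
  · rw [if_pos ((mem_supp_dec μ i).mpr hb)]
    rw [hz] at this
    push_cast at this
    omega
  · rw [if_neg (fun h => by rw [(mem_supp_dec μ i).mp h] at hb; exact absurd hb (by decide))]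
    rw [hz] at this
    push_cast at this
    omega

theorem signVec_single (c : Finset GolayPt) (i : GolayPt) (s : ℤ) :
    signVec c (Pi.single i s) = Pi.single i (if i ∈ c then -s else s) := by
  funext q
  rw [signVec_apply]
  by_cases hq : q = i
  · subst hq
    rw [Pi.single_eq_same, Pi.single_eq_same]
  · rw [Pi.single_eq_of_ne hq, Pi.single_eq_of_ne hq]
    simp

theorem card_zmod23 : (Finset.univ : Finset (ZMod 23)).card = 23 := by
  rw [Finset.card_univ, ZMod.card]

/-- A vector congruent to 1 modulo 4 everywhere, of norm 48 and with coordinate 5 at infinity,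
is `(5, 1, …, 1)`. -/
theorem odd48_five {u : GolayPt → ℤ} (h4 : ∀ i, u i % 4 = 1) (hn : sqNorm u = 48)
    (h5 : u none = 5) : u = repD := by
  have hN : u none ^ 2 + ∑ j : ZMod 23, u (some j) ^ 2 = 48 := by
    rw [← hn]
    exact (Fintype.sum_option (fun i => u i ^ 2)).symm
  rw [h5] at hN
  have hge : ∀ j : ZMod 23, 0 ≤ u (some j) ^ 2 - 1 := fun j => by
    have := h4 (some j)
    have h : u (some j) ≤ -3 ∨ 1 ≤ u (some j) := by omega
    rcases h with h | h <;> nlinarith
  have h0 : ∑ j : ZMod 23, (u (some j) ^ 2 - 1) = 0 := by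
    rw [Finset.sum_sub_distrib, Finset.sum_const, card_zmod23]
    simp only [nsmul_eq_mul, Nat.cast_ofNat, mul_one]
    linarith
  have h1 : ∀ j : ZMod 23, u (some j) = 1 := by
    intro j
    have h2 := (Finset.sum_eq_zero_iff_of_nonneg (fun j _ => hge j)).mp h0 j (Finset.mem_univ j)
    have h4j := h4 (some j)
    have h3 : u (some j) ≤ 1 ∧ -1 ≤ u (some j) := by constructor <;> nlinarith
    omega
  funext i
  cases i with
  | none => rw [h5]; rfl
  | some j => rw [h1 j]; rfl

theorem repD_mem : repD ∈ leechLattice := link48_CD.mem_right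

theorem repD_norm : sqNorm repD = 48 := by decide +kernel

/-- For a minimal vector `x` with `(5, 1, …, 1) · x = -16` some coordinate `x_j` satisfies
`x_∞ + x_j ∈ {0, -4}`. -/
theorem exists_j48 {x : GolayPt → ℤ} (hx : x ∈ leechLattice) (hn : sqNorm x = 32)
    (hd : dotInt repD x = -16) :
    ∃ j : ZMod 23, x none + x (some j) = 0 ∨ x none + x (some j) = -4 := by
  classical
  by_cases h2 : x none = -2
  · obtain ⟨S, hS, hnS, hsq, -⟩ := min_even hx hn (i0 := none) (by rw [h2]; decide)
    obtain ⟨i, hiS, hi⟩ := Finset.exists_mem_ne (s := S) (by rw [hS.2]; norm_num) none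
    obtain ⟨j, rfl⟩ := Option.ne_none_iff_exists'.mp hi
    refine ⟨j, ?_⟩
    rcases sq_four_cases (hsq _ hiS) with h | h <;> rw [h, h2] <;> norm_num
  · by_contra hcon
    push Not at hcon
    have hdot : (∑ i, x i) + 4 * x none = -16 := by
      have h1 := dot_cvec 5 x
      have e : dotInt (cvec 5) x = -16 := hd
      rw [e] at h1
      linarith
    have hS : ∑ i, x i = x none + ∑ j : ZMod 23, x (some j) := Fintype.sum_option _
    have hN : x none ^ 2 + ∑ j : ZMod 23, x (some j) ^ 2 = 32 := by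
      rw [← hn]
      exact (Fintype.sum_option (fun i => x i ^ 2)).symm
    have hpar : ∀ j : ZMod 23, x (some j) % 2 = x none % 2 := fun j => parity_const hx _ _
    have ha2 : x none ^ 2 ≤ 32 := by
      rw [← hn]
      exact sq_le_norm x none
    have key : ∀ c : ℤ, (∀ j : ZMod 23, x (some j) ≠ c) → c % 2 = x none % 2 →
        92 ≤ ∑ j : ZMod 23, x (some j) ^ 2 - 2 * c * ∑ j : ZMod 23, x (some j) + 23 * c ^ 2 := by
      intro c hc hcp
      have h1 : ∀ j : ZMod 23, 4 ≤ (x (some j) - c) ^ 2 := by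
        intro j
        have h3 := hc j
        have h4 := hpar j
        have h : x (some j) - c ≤ -2 ∨ 2 ≤ x (some j) - c := by omega
        rcases h with h | h <;> nlinarith
      have h2 : ∑ _j : ZMod 23, (4 : ℤ) ≤ ∑ j : ZMod 23, (x (some j) - c) ^ 2 :=
        Finset.sum_le_sum (fun j _ => h1 j)
      have h3 : ∑ j : ZMod 23, (x (some j) - c) ^ 2 =
          ∑ j : ZMod 23, x (some j) ^ 2 - 2 * c * ∑ j : ZMod 23, x (some j) + 23 * c ^ 2 := by
        have e : ∀ j : ZMod 23, (x (some j) - c) ^ 2 =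
            x (some j) ^ 2 - 2 * c * x (some j) + c ^ 2 := fun j => by ring
        rw [Finset.sum_congr rfl (fun j _ => e j), Finset.sum_add_distrib,
          Finset.sum_sub_distrib, ← Finset.mul_sum, Finset.sum_const, card_zmod23]
        simp only [nsmul_eq_mul, Nat.cast_ofNat]
      rw [Finset.sum_const, card_zmod23] at h2
      simp only [nsmul_eq_mul, Nat.cast_ofNat] at h2
      linarith
    have hA := key (-x none) (fun j h => (hcon j).1 (by rw [h]; ring)) (by omega)
    have hB := key (-4 - x none) (fun j h => (hcon j).2 (by rw [h]; ring)) (by omega)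
    have hpos : 0 ≤ ∑ j : ZMod 23, x (some j) ^ 2 + ∑ j : ZMod 23, x (some j) := by
      rw [← Finset.sum_add_distrib]
      apply Finset.sum_nonneg
      intro j _
      have h : x (some j) ≤ -1 ∨ 0 ≤ x (some j) := by omega
      rcases h with h | h <;> nlinarith
    obtain ⟨a, ha⟩ : ∃ a : ℤ, a = x none := ⟨_, rfl⟩
    obtain ⟨S', hS'⟩ : ∃ S' : ℤ, S' = ∑ j : ZMod 23, x (some j) := ⟨_, rfl⟩
    obtain ⟨N', hN'⟩ : ∃ N' : ℤ, N' = ∑ j : ZMod 23, x (some j) ^ 2 := ⟨_, rfl⟩
    rw [← ha] at hdot hS hN ha2 hA hB h2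
    rw [← hS'] at hS hA hB hpos
    rw [← hN'] at hN hA hB hpos
    have hab : -5 ≤ a ∧ a ≤ 5 := by constructor <;> nlinarith
    obtain ⟨hab1, hab2⟩ := hab
    interval_cases a <;> norm_num at hN hA hB h2 <;> omega

theorem none_ne_some (j : ZMod 23) : (none : GolayPt) ≠ some j := by
  intro h
  cases h

/-- The auxiliary minimal vector for `(5, 1, …, 1)` and a minimal vector at inner product
`-16`. -/
theorem exists_y48_rep (x : leechLattice) (hx : sqNorm (x : GolayPt → ℤ) = 32)
    (hd : dotInt repD (x : GolayPt → ℤ) = -16) :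
    ∃ y : leechLattice, sqNorm (y : GolayPt → ℤ) = 32 ∧
      dotInt (x : GolayPt → ℤ) (y : GolayPt → ℤ) = 0 ∧ dotInt repD (y : GolayPt → ℤ) = -24 := by
  obtain ⟨j, hj⟩ := exists_j48 x.2 hx hd
  have hne := none_ne_some j
  have hp : (Pi.single none 4 + Pi.single (some j) 4 : GolayPt → ℤ) ∈ leechLattice :=
    pair_mem hne (Or.inl rfl) (Or.inl rfl)
  have hpn : sqNorm (Pi.single none 4 + Pi.single (some j) 4 : GolayPt → ℤ) = 32 := by
    rw [sqNorm_pair hne]
    norm_num
  have hpx : dotInt (x : GolayPt → ℤ) (Pi.single none 4 + Pi.single (some j) 4) =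
      4 * ((x : GolayPt → ℤ) none + (x : GolayPt → ℤ) (some j)) := by
    rw [dotInt_add_right, dotInt_single, dotInt_single]
    ring
  have hpu : dotInt repD (Pi.single none 4 + Pi.single (some j) 4) = 24 := by
    rw [dotInt_add_right, dotInt_single, dotInt_single]
    show (5 : ℤ) * 4 + 1 * 4 = 24
    norm_num
  rcases hj with hj | hj
  · refine ⟨⟨-(Pi.single none 4 + Pi.single (some j) 4), leechLattice.neg_mem hp⟩, ?_, ?_, ?_⟩
    · show sqNorm (-(Pi.single none 4 + Pi.single (some j) 4 : GolayPt → ℤ)) = 32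
      rw [sqNorm_neg, hpn]
    · show dotInt (x : GolayPt → ℤ) (-(Pi.single none 4 + Pi.single (some j) 4)) = 0
      rw [dotInt_neg_right, hpx, hj]
      norm_num
    · show dotInt repD (-(Pi.single none 4 + Pi.single (some j) 4)) = -24
      rw [dotInt_neg_right, hpu]
  · refine ⟨⟨Pi.single none 4 + Pi.single (some j) 4 - repD, leechLattice.sub_mem hp repD_mem⟩,
      ?_, ?_, ?_⟩
    · show sqNorm ((Pi.single none 4 + Pi.single (some j) 4 : GolayPt → ℤ) - repD) = 32
      rw [sqNorm_sub, hpn, repD_norm, dotInt_comm, hpu]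
      norm_num
    · show dotInt (x : GolayPt → ℤ) (Pi.single none 4 + Pi.single (some j) 4 - repD) = 0
      rw [dotInt_sub_right, hpx, hj, dotInt_comm, hd]
      norm_num
    · show dotInt repD (Pi.single none 4 + Pi.single (some j) 4 - repD) = -24
      rw [dotInt_sub_right, hpu, dotInt_self, repD_norm]
      norm_num

/-- Normal form of a triple `(u, x, y)`: `u` of norm 48, `x`, `y` minimal and orthogonal,
`u · x = -16`, `u · y = -24`. -/
theorem core48_aux (u x y : leechLattice) (hu : sqNorm (u : GolayPt → ℤ) = 48)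
    (hx : sqNorm (x : GolayPt → ℤ) = 32) (hy : sqNorm (y : GolayPt → ℤ) = 32)
    (hux : dotInt (u : GolayPt → ℤ) (x : GolayPt → ℤ) = -16)
    (hxy : dotInt (x : GolayPt → ℤ) (y : GolayPt → ℤ) = 0)
    (huy : dotInt (u : GolayPt → ℤ) (y : GolayPt → ℤ) = -24) :
    ∃ g : Equiv.Perm leechLattice, g ∈ Co0 ∧ ((g u : leechLattice) : GolayPt → ℤ) = repD ∧
      ((g x : leechLattice) : GolayPt → ℤ) = Pi.single none (-4) + Pi.single (some 0) 4 ∧
      ((g y : leechLattice) : GolayPt → ℤ) = Pi.single none (-4) + Pi.single (some 0) (-4) := by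
  obtain ⟨g1, hg1, hcoord⟩ := frame_of_orth x y hx hy hxy
  have hx4 : ((g1 x : leechLattice) : GolayPt → ℤ) none = 4 := by
    have := hcoord x
    rw [dotInt_self, hx, hxy] at this
    linarith
  have hy4 : ((g1 y : leechLattice) : GolayPt → ℤ) none = 4 := by
    have := hcoord y
    rw [dotInt_comm (y : GolayPt → ℤ) (x : GolayPt → ℤ), hxy, dotInt_self, hy] at this
    linarith
  have hu5 : ((g1 u : leechLattice) : GolayPt → ℤ) none = -5 := by
    have := hcoord u
    rw [hux, huy] at this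
    linarith
  have hxn : sqNorm ((g1 x : leechLattice) : GolayPt → ℤ) = 32 := by rw [hg1.2]; exact hx
  have hyn : sqNorm ((g1 y : leechLattice) : GolayPt → ℤ) = 32 := by rw [hg1.2]; exact hy
  have hun : sqNorm ((g1 u : leechLattice) : GolayPt → ℤ) = 48 := by rw [hg1.2]; exact hu
  obtain ⟨j, hj, s, hs, hX⟩ := min_four (g1 x).2 hxn hx4
  obtain ⟨j', hj', s', hs', hY⟩ := min_four (g1 y).2 hyn hy4
  have hdxy := co0_dot hg1 x y
  rw [hxy, hX, hY, dotInt_add_right, dotInt_single, dotInt_single] at hdxy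
  simp only [Pi.add_apply, Pi.single_eq_same, Pi.single_eq_of_ne (Ne.symm hj),
    Pi.single_eq_of_ne hj', add_zero, zero_add] at hdxy
  have hjj : j' = j := by
    by_contra hne
    rw [Pi.single_eq_of_ne hne] at hdxy
    norm_num at hdxy
  subst hjj
  rw [Pi.single_eq_same] at hdxy
  have hss : s' = -s := by
    rcases hs with rfl | rfl <;> rcases hs' with rfl | rfl <;>
      first | rfl | (exfalso; norm_num at hdxy)
  subst hss
  -- the sign change
  obtain ⟨c, hc, hc4⟩ := odd_sign (g1 u).2 (i0 := none) (by rw [hu5]; decide)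
  have hnc : (none : GolayPt) ∈ c := by
    by_contra h
    have := hc4 none
    rw [signVec_apply, if_neg h, hu5] at this
    norm_num at this
  have hA2 : ((signPerm c hc (g1 u) : leechLattice) : GolayPt → ℤ) = repD := by
    apply odd48_five hc4
    · exact ((signPerm_mem c hc).2 (g1 u)).trans hun
    · show signVec c ((g1 u : leechLattice) : GolayPt → ℤ) none = 5
      rw [signVec_apply, if_pos hnc, hu5]
      norm_num
  have hB2 : ((signPerm c hc (g1 x) : leechLattice) : GolayPt → ℤ) =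
      Pi.single none (-4) + Pi.single j' (if j' ∈ c then -s else s) := by
    show signVec c ((g1 x : leechLattice) : GolayPt → ℤ) = _
    rw [hX, signVec_add, signVec_single, signVec_single, if_pos hnc]
  have hC2 : ((signPerm c hc (g1 y) : leechLattice) : GolayPt → ℤ) =
      Pi.single none (-4) + Pi.single j' (if j' ∈ c then - -s else -s) := by
    show signVec c ((g1 y : leechLattice) : GolayPt → ℤ) = _
    rw [hY, signVec_add, signVec_single, signVec_single, if_pos hnc]
  have hdot2 := co0_dot (signPerm_mem c hc) (g1 u) (g1 x)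
  rw [co0_dot hg1, hux, hA2, hB2, dotInt_add_right, dotInt_single, dotInt_single] at hdot2
  have hr1 : repD none = 5 := rfl
  have hr2 : repD j' = 1 := by
    unfold repD
    rw [if_neg hj']
  rw [hr1, hr2] at hdot2
  have ht : (if j' ∈ c then -s else s) = 4 := by linarith
  have ht' : (if j' ∈ c then - -s else -s) = -4 := by
    by_cases hjc : j' ∈ c
    · rw [if_pos hjc] at ht ⊢
      linarith
    · rw [if_neg hjc] at ht ⊢
      linarith
  rw [ht] at hB2
  rw [ht'] at hC2
  -- the permutation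
  obtain ⟨σ, hσ, hσ1, hσ2⟩ := m24_trans2 (p := none) (p' := j') (q := none) (q' := some 0)
    (Ne.symm hj') (by decide)
  have he : (∅ : Finset GolayPt) ∈ gsup := Spor.empty_mem_supports_golayCode
  refine ⟨monoPerm σ hσ ∅ he * signPerm c hc * g1,
    Co0.mul_mem (Co0.mul_mem (monoPerm_mem σ hσ ∅ he) (signPerm_mem c hc)) hg1, ?_, ?_, ?_⟩
  · rw [Equiv.Perm.mul_apply, Equiv.Perm.mul_apply, monoPerm_apply, hA2]
    funext i
    unfold signedPerm repD
    rw [if_neg (Finset.notMem_empty i)]
    have e : σ.symm i = none ↔ i = none := by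
      rw [Equiv.symm_apply_eq, hσ1]
    by_cases hi : i = none
    · rw [if_pos (e.mpr hi), if_pos hi]
    · rw [if_neg (fun h => hi (e.mp h)), if_neg hi]
  · rw [Equiv.Perm.mul_apply, Equiv.Perm.mul_apply, monoPerm_apply, hB2, signedPerm_add,
      signedPerm_single, signedPerm_single, hσ1, hσ2, if_neg (Finset.notMem_empty _),
      if_neg (Finset.notMem_empty _)]
  · rw [Equiv.Perm.mul_apply, Equiv.Perm.mul_apply, monoPerm_apply, hC2, signedPerm_add,
      signedPerm_single, signedPerm_single, hσ1, hσ2, if_neg (Finset.notMem_empty _),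
      if_neg (Finset.notMem_empty _)]

/-- The lattice element `(5, 1, …, 1)`. -/
def repDL : leechLattice := ⟨repD, repD_mem⟩

/-- Normal form of a pair `(u, x)`: `u` of norm 48, `x` minimal, `u · x = -16`. -/
theorem core48 (u x : leechLattice) (hu : sqNorm (u : GolayPt → ℤ) = 48)
    (hx : sqNorm (x : GolayPt → ℤ) = 32)
    (hux : dotInt (u : GolayPt → ℤ) (x : GolayPt → ℤ) = -16) :
    ∃ g : Equiv.Perm leechLattice, g ∈ Co0 ∧ ((g u : leechLattice) : GolayPt → ℤ) = repD ∧
      ((g x : leechLattice) : GolayPt → ℤ) = Pi.single none (-4) + Pi.single (some 0) 4 := by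
  obtain ⟨g0, hg0⟩ := trans_norm48 u repDL hu repD_norm
  have e0 : (g0.1 u : leechLattice) = repDL := hg0
  have hd' : dotInt repD ((g0.1 x : leechLattice) : GolayPt → ℤ) = -16 := by
    have h := co0_dot g0.2 u x
    rw [e0] at h
    rw [← hux]
    exact h
  have hxn : sqNorm ((g0.1 x : leechLattice) : GolayPt → ℤ) = 32 := by rw [g0.2.2]; exact hx
  obtain ⟨y, hy, hxy, huy⟩ := exists_y48_rep (g0.1 x) hxn hd'
  obtain ⟨g, hg, h1, h2, -⟩ := core48_aux repDL (g0.1 x) y repD_norm hxn hy hd' hxy huy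
  refine ⟨g * g0.1, Co0.mul_mem hg g0.2, ?_, ?_⟩
  · rw [Equiv.Perm.mul_apply, e0]
    exact h1
  · rw [Equiv.Perm.mul_apply]
    exact h2

/-- The stabiliser of a vector of norm 48 is transitive on the minimal vectors at inner
product `-16`. -/
theorem pair48_trans (u x x' : leechLattice) (hu : sqNorm (u : GolayPt → ℤ) = 48)
    (hx : sqNorm (x : GolayPt → ℤ) = 32) (hx' : sqNorm (x' : GolayPt → ℤ) = 32)
    (hd : dotInt (u : GolayPt → ℤ) (x : GolayPt → ℤ) = -16)
    (hd' : dotInt (u : GolayPt → ℤ) (x' : GolayPt → ℤ) = -16) :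
    ∃ g : ↥Co0, g • u = u ∧ g • x = x' :=
  pair_trans_of (core48 u x hu hx hd) (core48 u x' hu hx' hd')

/-- All pairs (vector of norm 48, minimal vector) with inner product `-16` are in one orbit. -/
theorem pair48_orbit (u x u' x' : leechLattice) (hu : sqNorm (u : GolayPt → ℤ) = 48)
    (hx : sqNorm (x : GolayPt → ℤ) = 32) (hu' : sqNorm (u' : GolayPt → ℤ) = 48)
    (hx' : sqNorm (x' : GolayPt → ℤ) = 32)
    (hd : dotInt (u : GolayPt → ℤ) (x : GolayPt → ℤ) = -16)
    (hd' : dotInt (u' : GolayPt → ℤ) (x' : GolayPt → ℤ) = -16) :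
    ∃ g : ↥Co0, g • u = u' ∧ g • x = x' := by
  obtain ⟨g, hg, hgu, hgx⟩ := core48 u x hu hx hd
  obtain ⟨g', hg', hgu', hgx'⟩ := core48 u' x' hu' hx' hd'
  refine ⟨⟨g'⁻¹ * g, Co0.mul_mem (Co0.inv_mem hg') hg⟩, ?_, ?_⟩
  · show (g'⁻¹ * g) u = u'
    rw [Equiv.Perm.mul_apply]
    have e : g u = g' u' := Subtype.ext (hgu.trans hgu'.symm)
    rw [e]
    exact Equiv.symm_apply_apply g' u'
  · show (g'⁻¹ * g) x = x'
    rw [Equiv.Perm.mul_apply]
    have e : g x = g' x' := Subtype.ext (hgx.trans hgx'.symm)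
    rw [e]
    exact Equiv.symm_apply_apply g' x'

end Cfsg.Agent.Lib.Helper10
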