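import Mathlib
import Cfsg.Prelude.Def_Sporadic_a
import Cfsg.Prelude.Def_Spor_Conway
import Cfsg.Agent.Lib.Helper10.Pair48
import Cfsg.Agent.Lib.Helper10.DotCount3Num

set_option autoImplicit false

namespace Cfsg.Agent.Lib.Helper10

open Cfsg Cfsg.Agent.Lib.Helper9
open scoped Pointwise

/-! ### Pairs of vectors of norm 48 with inner product `-32` -/

theorem dotInt_neg_left' (a b : GolayPt → ℤ) : dotInt (-a) b = -dotInt a b := by
  rw [dotInt_comm, dotInt_neg_right, dotInt_comm]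

theorem dotInt_add_left' (a b c : GolayPt → ℤ) : dotInt (a + b) c = dotInt a c + dotInt b c := by
  rw [dotInt_comm, dotInt_add_right, dotInt_comm c a, dotInt_comm c b]

/-- For `v`, `w` of norm 48 with `v · w = -32`, the vectors `-w` and `v + w` form a pair
(norm 48, minimal) with inner product `-16`. -/
theorem hs_setup (v w : leechLattice) (hv : sqNorm (v : GolayPt → ℤ) = 48)
    (hw : sqNorm (w : GolayPt → ℤ) = 48)
    (hvw : dotInt (v : GolayPt → ℤ) (w : GolayPt → ℤ) = -32) :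
    sqNorm ((-w : leechLattice) : GolayPt → ℤ) = 48 ∧
      sqNorm ((v + w : leechLattice) : GolayPt → ℤ) = 32 ∧
      dotInt ((-w : leechLattice) : GolayPt → ℤ) ((v + w : leechLattice) : GolayPt → ℤ) = -16 := by
  refine ⟨?_, ?_, ?_⟩
  · show sqNorm (-(w : GolayPt → ℤ)) = 48
    rw [sqNorm_neg, hw]
  · show sqNorm ((v : GolayPt → ℤ) + (w : GolayPt → ℤ)) = 32
    rw [sqNorm_add, hv, hw, hvw]
    norm_num
  · show dotInt (-(w : GolayPt → ℤ)) ((v : GolayPt → ℤ) + (w : GolayPt → ℤ)) = -16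
    rw [dotInt_neg_left', dotInt_add_right, dotInt_comm (w : GolayPt → ℤ) (v : GolayPt → ℤ), hvw,
      dotInt_self, hw]
    norm_num

/-- An automorphism fixing `-w` and `v + w` fixes `v` and `w`. -/
theorem fix_of_fix {g : Equiv.Perm leechLattice} (hg : g ∈ Co0) {v w : leechLattice}
    (h1 : g (-w) = -w) (h2 : g (v + w) = v + w) : g v = v ∧ g w = w := by
  have hw : g w = w := by
    rw [co0_map_neg hg] at h1
    exact neg_injective h1
  refine ⟨?_, hw⟩
  rw [hg.1, hw] at h2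
  exact add_right_cancel h2

/-- Some automorphism exchanges `v` and `w`. -/
theorem hs_swap (v w : leechLattice) (hv : sqNorm (v : GolayPt → ℤ) = 48)
    (hw : sqNorm (w : GolayPt → ℤ) = 48)
    (hvw : dotInt (v : GolayPt → ℤ) (w : GolayPt → ℤ) = -32) :
    ∃ g : ↥Co0, g • v = w ∧ g • w = v := by
  obtain ⟨h1, h2, h3⟩ := hs_setup v w hv hw hvw
  have hwv : dotInt (w : GolayPt → ℤ) (v : GolayPt → ℤ) = -32 := by rw [dotInt_comm]; exact hvw
  obtain ⟨h1', h2', h3'⟩ := hs_setup w v hw hv hwv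
  have e : w + v = v + w := add_comm w v
  rw [e] at h2' h3'
  obtain ⟨g, hg1, hg2⟩ := pair48_orbit (-w) (v + w) (-v) (v + w) h1 h2 h1' h2 h3 h3'
  have hg1' : g.1 (-w) = -v := hg1
  have hg2' : g.1 (v + w) = v + w := hg2
  have hw' : g.1 w = v := by
    rw [co0_map_neg g.2] at hg1'
    exact neg_injective hg1'
  refine ⟨g, ?_, hw'⟩
  show g.1 v = w
  rw [g.2.1, hw'] at hg2'
  rw [add_comm v w] at hg2'
  exact add_right_cancel hg2'

/-- Three vectors taken to the same triple by automorphisms. -/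
theorem triple_trans_of {a b c c' : leechLattice} {A B C : GolayPt → ℤ}
    (h : ∃ g : Equiv.Perm leechLattice, g ∈ Co0 ∧ ((g a : leechLattice) : GolayPt → ℤ) = A ∧
      ((g b : leechLattice) : GolayPt → ℤ) = B ∧ ((g c : leechLattice) : GolayPt → ℤ) = C)
    (h' : ∃ g : Equiv.Perm leechLattice, g ∈ Co0 ∧ ((g a : leechLattice) : GolayPt → ℤ) = A ∧
      ((g b : leechLattice) : GolayPt → ℤ) = B ∧ ((g c' : leechLattice) : GolayPt → ℤ) = C) :
    ∃ g : Equiv.Perm leechLattice, g ∈ Co0 ∧ g a = a ∧ g b = b ∧ g c = c' := by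
  obtain ⟨g, hg, hga, hgb, hgc⟩ := h
  obtain ⟨g', hg', hga', hgb', hgc'⟩ := h'
  refine ⟨g'⁻¹ * g, Co0.mul_mem (Co0.inv_mem hg') hg, ?_, ?_, ?_⟩
  · rw [Equiv.Perm.mul_apply]
    have e : g a = g' a := Subtype.ext (hga.trans hga'.symm)
    rw [e]
    exact Equiv.symm_apply_apply g' a
  · rw [Equiv.Perm.mul_apply]
    have e : g b = g' b := Subtype.ext (hgb.trans hgb'.symm)
    rw [e]
    exact Equiv.symm_apply_apply g' b
  · rw [Equiv.Perm.mul_apply]
    have e : g c = g' c' := Subtype.ext (hgc.trans hgc'.symm)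
    rw [e]
    exact Equiv.symm_apply_apply g' c'

/-- The set attached to a pair `(v, w)`. -/
def hsSet (v w : leechLattice) : Set leechLattice :=
  {x : leechLattice | sqNorm (x : GolayPt → ℤ) = 32 ∧
    dotInt (v : GolayPt → ℤ) (x : GolayPt → ℤ) = 24 ∧
    dotInt (w : GolayPt → ℤ) (x : GolayPt → ℤ) = -24}

/-- In terms of `u = -w` and `m = v + w`. -/
theorem hsSet_iff (v w x : leechLattice) :
    x ∈ hsSet v w ↔ sqNorm (x : GolayPt → ℤ) = 32 ∧
      dotInt ((-w : leechLattice) : GolayPt → ℤ) (x : GolayPt → ℤ) = 24 ∧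
      dotInt ((v + w : leechLattice) : GolayPt → ℤ) (x : GolayPt → ℤ) = 0 := by
  have e1 : dotInt ((-w : leechLattice) : GolayPt → ℤ) (x : GolayPt → ℤ) =
      -dotInt (w : GolayPt → ℤ) (x : GolayPt → ℤ) := dotInt_neg_left' _ _
  have e2 : dotInt ((v + w : leechLattice) : GolayPt → ℤ) (x : GolayPt → ℤ) =
      dotInt (v : GolayPt → ℤ) (x : GolayPt → ℤ) + dotInt (w : GolayPt → ℤ) (x : GolayPt → ℤ) :=
    dotInt_add_left' _ _ _
  rw [e1, e2]
  show (sqNorm (x : GolayPt → ℤ) = 32 ∧ dotInt (v : GolayPt → ℤ) (x : GolayPt → ℤ) = 24 ∧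
    dotInt (w : GolayPt → ℤ) (x : GolayPt → ℤ) = -24) ↔ _
  constructor
  · rintro ⟨h1, h2, h3⟩
    exact ⟨h1, by omega, by omega⟩
  · rintro ⟨h1, h2, h3⟩
    exact ⟨h1, by omega, by omega⟩

/-- The vector `(4, 4, 0, …)` as `4 e_∞ + 4 e_0`, and `-4 e_∞ + 4 e_0`. -/
def vecM0 : GolayPt → ℤ := Pi.single none (-4) + Pi.single (some 0) 4

/-- Normal form of a triple `(u, m, x)`: `u` of norm 48, `m`, `x` minimal with `u · m = -16`,
`u · x = 24`, `m · x = 0`. -/
theorem hs_triple (u m x : leechLattice) (hu : sqNorm (u : GolayPt → ℤ) = 48)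
    (hm : sqNorm (m : GolayPt → ℤ) = 32) (hx : sqNorm (x : GolayPt → ℤ) = 32)
    (hum : dotInt (u : GolayPt → ℤ) (m : GolayPt → ℤ) = -16)
    (hux : dotInt (u : GolayPt → ℤ) (x : GolayPt → ℤ) = 24)
    (hmx : dotInt (m : GolayPt → ℤ) (x : GolayPt → ℤ) = 0) :
    ∃ g : Equiv.Perm leechLattice, g ∈ Co0 ∧ ((g u : leechLattice) : GolayPt → ℤ) = repD ∧
      ((g m : leechLattice) : GolayPt → ℤ) = vecM0 ∧
      ((g x : leechLattice) : GolayPt → ℤ) = Pi.single none 4 + Pi.single (some 0) 4 := by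
  have h1 : sqNorm ((-x : leechLattice) : GolayPt → ℤ) = 32 := by
    show sqNorm (-(x : GolayPt → ℤ)) = 32
    rw [sqNorm_neg, hx]
  have h2 : dotInt (m : GolayPt → ℤ) ((-x : leechLattice) : GolayPt → ℤ) = 0 := by
    show dotInt (m : GolayPt → ℤ) (-(x : GolayPt → ℤ)) = 0
    rw [dotInt_neg_right, hmx]
    norm_num
  have h3 : dotInt (u : GolayPt → ℤ) ((-x : leechLattice) : GolayPt → ℤ) = -24 := by
    show dotInt (u : GolayPt → ℤ) (-(x : GolayPt → ℤ)) = -24
    rw [dotInt_neg_right, hux]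
  obtain ⟨g, hg, hgu, hgm, hgx⟩ := core48_aux u m (-x) hu hm h1 hum h2 h3
  refine ⟨g, hg, hgu, hgm, ?_⟩
  rw [co0_map_neg hg] at hgx
  have e : ((-(g x) : leechLattice) : GolayPt → ℤ) = -((g x : leechLattice) : GolayPt → ℤ) := rfl
  rw [e] at hgx
  have e2 : ((g x : leechLattice) : GolayPt → ℤ) =
      -(Pi.single none (-4) + Pi.single (some 0) (-4)) := by
    rw [← hgx, neg_neg]
  rw [e2, neg_add, ← Pi.single_neg, ← Pi.single_neg]
  norm_num

/-- The stabiliser of `v` and `w` is transitive on the attached set. -/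
theorem hs_trans (v w x x' : leechLattice) (hv : sqNorm (v : GolayPt → ℤ) = 48)
    (hw : sqNorm (w : GolayPt → ℤ) = 48)
    (hvw : dotInt (v : GolayPt → ℤ) (w : GolayPt → ℤ) = -32) (hx : x ∈ hsSet v w)
    (hx' : x' ∈ hsSet v w) : ∃ g : ↥Co0, g • v = v ∧ g • w = w ∧ g • x = x' := by
  obtain ⟨h1, h2, h3⟩ := hs_setup v w hv hw hvw
  obtain ⟨a1, a2, a3⟩ := (hsSet_iff v w x).mp hx
  obtain ⟨b1, b2, b3⟩ := (hsSet_iff v w x').mp hx'
  obtain ⟨g, hg, hg1, hg2, hg3⟩ := triple_trans_of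
    (hs_triple (-w) (v + w) x h1 h2 a1 h3 a2 a3) (hs_triple (-w) (v + w) x' h1 h2 b1 h3 b2 b3)
  obtain ⟨hgv, hgw⟩ := fix_of_fix hg hg1 hg2
  exact ⟨⟨g, hg⟩, hgv, hgw, hg3⟩

/-! ### Transport of sets defined by inner products -/

theorem image_set_co0 {g : Equiv.Perm leechLattice} (hg : g ∈ Co0) (a b c : leechLattice)
    (Q : ℤ → ℤ → ℤ → ℤ → Prop) :
    g '' {x : leechLattice | Q (sqNorm (x : GolayPt → ℤ))
        (dotInt (a : GolayPt → ℤ) (x : GolayPt → ℤ)) (dotInt (b : GolayPt → ℤ) (x : GolayPt → ℤ))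
        (dotInt (c : GolayPt → ℤ) (x : GolayPt → ℤ))} =
      {y : leechLattice | Q (sqNorm (y : GolayPt → ℤ))
        (dotInt ((g a : leechLattice) : GolayPt → ℤ) (y : GolayPt → ℤ))
        (dotInt ((g b : leechLattice) : GolayPt → ℤ) (y : GolayPt → ℤ))
        (dotInt ((g c : leechLattice) : GolayPt → ℤ) (y : GolayPt → ℤ))} := by
  ext y
  constructor
  · rintro ⟨x, hx, rfl⟩
    show Q _ _ _ _
    rw [hg.2 x, co0_dot hg, co0_dot hg, co0_dot hg]
    exact hx
  · intro hy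
    refine ⟨g.symm y, ?_, Equiv.apply_symm_apply g y⟩
    show Q _ _ _ _
    have h1 := hg.2 (g.symm y)
    have h2 := co0_dot hg a (g.symm y)
    have h3 := co0_dot hg b (g.symm y)
    have h4 := co0_dot hg c (g.symm y)
    rw [Equiv.apply_symm_apply] at h1 h2 h3 h4
    rw [← h1, ← h2, ← h3, ← h4]
    exact hy

theorem ncard_set_co0 {g : Equiv.Perm leechLattice} (hg : g ∈ Co0) (a b c : leechLattice)
    (Q : ℤ → ℤ → ℤ → ℤ → Prop) :
    {x : leechLattice | Q (sqNorm (x : GolayPt → ℤ))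
        (dotInt (a : GolayPt → ℤ) (x : GolayPt → ℤ)) (dotInt (b : GolayPt → ℤ) (x : GolayPt → ℤ))
        (dotInt (c : GolayPt → ℤ) (x : GolayPt → ℤ))}.ncard =
      {y : leechLattice | Q (sqNorm (y : GolayPt → ℤ))
        (dotInt ((g a : leechLattice) : GolayPt → ℤ) (y : GolayPt → ℤ))
        (dotInt ((g b : leechLattice) : GolayPt → ℤ) (y : GolayPt → ℤ))
        (dotInt ((g c : leechLattice) : GolayPt → ℤ) (y : GolayPt → ℤ))}.ncard := by
  rw [← image_set_co0 hg a b c Q, Set.ncard_image_of_injective _ g.injective]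

theorem ncard_lattice_set (P : (GolayPt → ℤ) → Prop) :
    {x : leechLattice | P (x : GolayPt → ℤ)}.ncard =
      {t : GolayPt → ℤ | t ∈ leechLattice ∧ P t}.ncard := by
  rw [← Set.ncard_image_of_injective _ Subtype.val_injective]
  congr 1
  ext t
  constructor
  · rintro ⟨x, hx, rfl⟩
    exact ⟨x.2, hx⟩
  · rintro ⟨ht, h⟩
    exact ⟨⟨t, ht⟩, h, rfl⟩

theorem dot_vecM0 (t : GolayPt → ℤ) : dotInt vecM0 t = 4 * (t (some 0) - t none) := by
  rw [dotInt_comm, vecM0, dotInt_add_right, dotInt_single, dotInt_single]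
  ring

theorem dot_vecT0 (t : GolayPt → ℤ) :
    dotInt (Pi.single none 4 + Pi.single (some 0) 4) t = 4 * (t none + t (some 0)) := by
  rw [dotInt_comm, dotInt_add_right, dotInt_single, dotInt_single]
  ring

/-- Sets of minimal vectors with `(5, 1, …, 1) · t = 24` as subsets of `dAll 5 24`. -/
theorem ncard_rep24 (P : (GolayPt → ℤ) → Prop) [DecidablePred P] :
    {y : leechLattice | sqNorm (y : GolayPt → ℤ) = 32 ∧ dotInt repD (y : GolayPt → ℤ) = 24 ∧
      P (y : GolayPt → ℤ)}.ncard = ((dAll 5 24).filter P).card := by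
  rw [ncard_lattice_set (fun t => sqNorm t = 32 ∧ dotInt repD t = 24 ∧ P t),
    ← Set.ncard_coe_finset]
  congr 1
  ext t
  rw [Finset.mem_coe, Finset.mem_filter, mem_dAll (Or.inl rfl) (by norm_num)]
  show (t ∈ leechLattice ∧ sqNorm t = 32 ∧ dotInt repD t = 24 ∧ P t) ↔
    ((t ∈ leechLattice ∧ sqNorm t = 32 ∧ dotInt repD t = 24) ∧ P t)
  tauto

/-- The attached set has 100 elements. -/
theorem hs_card (v w : leechLattice) (hv : sqNorm (v : GolayPt → ℤ) = 48)
    (hw : sqNorm (w : GolayPt → ℤ) = 48)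
    (hvw : dotInt (v : GolayPt → ℤ) (w : GolayPt → ℤ) = -32) : (hsSet v w).ncard = 100 := by
  obtain ⟨h1, h2, h3⟩ := hs_setup v w hv hw hvw
  obtain ⟨g, hg, hgu, hgm⟩ := core48 (-w) (v + w) h1 h2 h3
  have e1 : hsSet v w = {x : leechLattice | (fun n a b _ => n = 32 ∧ a = 24 ∧ b = 0)
      (sqNorm (x : GolayPt → ℤ))
      (dotInt ((-w : leechLattice) : GolayPt → ℤ) (x : GolayPt → ℤ))
      (dotInt ((v + w : leechLattice) : GolayPt → ℤ) (x : GolayPt → ℤ))
      (dotInt ((v + w : leechLattice) : GolayPt → ℤ) (x : GolayPt → ℤ))} := by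
    ext x
    exact hsSet_iff v w x
  rw [e1]
  refine (ncard_set_co0 hg (-w) (v + w) (v + w) (fun n a b _ => n = 32 ∧ a = 24 ∧ b = 0)).trans ?_
  rw [hgu, hgm]
  have e2 : {y : leechLattice | (fun n a b _ => n = 32 ∧ a = 24 ∧ b = 0)
      (sqNorm (y : GolayPt → ℤ)) (dotInt repD (y : GolayPt → ℤ))
      (dotInt vecM0 (y : GolayPt → ℤ)) (dotInt vecM0 (y : GolayPt → ℤ))} =
      {y : leechLattice | sqNorm (y : GolayPt → ℤ) = 32 ∧ dotInt repD (y : GolayPt → ℤ) = 24 ∧
        (fun t : GolayPt → ℤ => t none = t (some 0)) (y : GolayPt → ℤ)} := by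
    ext y
    show (sqNorm (y : GolayPt → ℤ) = 32 ∧ dotInt repD (y : GolayPt → ℤ) = 24 ∧
      dotInt vecM0 (y : GolayPt → ℤ) = 0) ↔ (sqNorm (y : GolayPt → ℤ) = 32 ∧
      dotInt repD (y : GolayPt → ℤ) = 24 ∧ (y : GolayPt → ℤ) none = (y : GolayPt → ℤ) (some 0))
    rw [dot_vecM0]
    constructor
    · rintro ⟨a1, a2, a3⟩
      exact ⟨a1, a2, by omega⟩
    · rintro ⟨a1, a2, a3⟩
      exact ⟨a1, a2, by omega⟩
  refine (congrArg Set.ncard e2).trans ?_
  refine (ncard_rep24 (fun t : GolayPt → ℤ => t none = t (some 0))).trans ?_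
  rw [card_fiber_none (Or.inl rfl) (by norm_num) (by norm_num)
    (fun t : GolayPt → ℤ => t none = t (some 0)) (fun a => some a) (fun _ => none)
    (fun x => by simp only [okb_some, okb_none, and_true]; exact eq_comm)]
  exact num_hs100

/-! ### A fixed-point-free involution -/

/-- The complement of the reference dodecad of `linkAC`. -/
def dD : Finset GolayPt := Cfsg.Agent.Lib.Helper36.ms 8242322

theorem dD_mem : dD ∈ gsup := ms_mem_gsup (by decide +kernel)

/-- Twice the indicator of a dodecad. -/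
def vecU0 : GolayPt → ℤ := fun q => linkAC (idx q)

theorem masks_compl : ∀ i < 24, ((8242322 : ℕ).testBit i = true → (8534893 : ℕ).testBit i = false) ∧
    ((8242322 : ℕ).testBit i = false → (8534893 : ℕ).testBit i = true) := by decide

theorem vecU0_zero {q : GolayPt} (hq : q ∈ dD) : vecU0 q = 0 := by
  rw [dD, Cfsg.Agent.Lib.Helper36.mem_ms] at hq
  have h := (masks_compl (idx q) (idx_lt q)).1 hq
  unfold vecU0 linkAC
  rw [h]
  rfl

theorem vecU0_two {q : GolayPt} (hq : q ∉ dD) : vecU0 q = 2 := by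
  rw [dD, Cfsg.Agent.Lib.Helper36.mem_ms] at hq
  have h := (masks_compl (idx q) (idx_lt q)).2 (by simpa using hq)
  unfold vecU0 linkAC
  rw [h]
  rfl

theorem none_notMem_dD : (none : GolayPt) ∉ dD := by
  rw [dD, Cfsg.Agent.Lib.Helper36.mem_ms]
  decide

theorem zero_notMem_dD : (some 0 : GolayPt) ∉ dD := by
  rw [dD, Cfsg.Agent.Lib.Helper36.mem_ms]
  decide

theorem one_mem_dD : (some 1 : GolayPt) ∈ dD := by
  rw [dD, Cfsg.Agent.Lib.Helper36.mem_ms]
  decide

/-- The lattice elements `2 · 1_D'` and `-4 e_∞ - 4 e_0`. -/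
def vecU0L : leechLattice := ⟨vecU0, linkAC_mem⟩

def vecM1L : leechLattice :=
  ⟨Pi.single none (-4) + Pi.single (some 0) (-4),
    pair_mem (none_ne_some 0) (Or.inr rfl) (Or.inr rfl)⟩

theorem vecU0L_norm : sqNorm (vecU0L : GolayPt → ℤ) = 48 := linkAC_norm

theorem vecM1L_norm : sqNorm (vecM1L : GolayPt → ℤ) = 32 := by
  show sqNorm (Pi.single none (-4) + Pi.single (some 0) (-4) : GolayPt → ℤ) = 32
  rw [sqNorm_pair (none_ne_some 0)]
  norm_num

theorem vecU0_M1_dot : dotInt (vecU0L : GolayPt → ℤ) (vecM1L : GolayPt → ℤ) = -16 := by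
  show dotInt vecU0 (Pi.single none (-4) + Pi.single (some 0) (-4)) = -16
  rw [dotInt_add_right, dotInt_single, dotInt_single, vecU0_two none_notMem_dD,
    vecU0_two zero_notMem_dD]
  norm_num

theorem sign_vecU0L : signPerm dD dD_mem vecU0L = vecU0L := by
  apply Subtype.ext
  funext q
  show signVec dD vecU0 q = vecU0 q
  rw [signVec_apply]
  split_ifs with hq
  · rw [vecU0_zero hq, neg_zero]
  · rfl

theorem sign_vecM1L : signPerm dD dD_mem vecM1L = vecM1L := by
  apply Subtype.ext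
  show signVec dD (Pi.single none (-4) + Pi.single (some 0) (-4)) = _
  rw [signVec_add, signVec_single, signVec_single, if_neg none_notMem_dD, if_neg zero_notMem_dD]
  rfl

/-- No lattice vector with `vecU0 · t = 24` is fixed by the sign change on `dD`. -/
theorem no_fixed_dod {t : GolayPt → ℤ} (ht : t ∈ leechLattice) (hU : dotInt vecU0 t = 24)
    (hfix : signVec dD t = t) : False := by
  have h0 : ∀ q ∈ dD, t q = 0 := by
    intro q hq
    have := congrFun hfix q
    rw [signVec_apply, if_pos hq] at this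
    omega
  have hU2 : ∀ q, vecU0 q * t q = 2 * t q := by
    intro q
    by_cases hq : q ∈ dD
    · rw [h0 q hq]
      ring
    · rw [vecU0_two hq]
  have hsum : dotInt vecU0 t = 2 * ∑ q, t q := by
    unfold dotInt
    rw [Finset.mul_sum]
    exact Finset.sum_congr rfl (fun q _ => hU2 q)
  obtain ⟨par, hpar, μ, hμ, hmod, hs8⟩ :=
    (mem_leechSet_struct t).mp ((mem_leechLattice_iff t).mp ht)
  have hz := h0 (some 1) one_mem_dD
  have hp0 : par = 0 := by
    have := hmod (some 1)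
    rw [hz] at this
    rcases bitZ_cases μ (some 1) with ⟨-, hb⟩ | ⟨-, hb⟩ <;> rw [hb] at this <;> omega
  subst hp0
  rw [hsum] at hU
  push_cast at hs8
  omega

theorem sign_sq (c : Finset GolayPt) (hc : c ∈ gsup) : signPerm c hc * signPerm c hc = 1 := by
  apply Equiv.ext
  intro v
  rw [Equiv.Perm.mul_apply]
  exact Subtype.ext (signVec_signVec c v.1)

/-- An involution fixing `v` and `w` and none of the attached vectors. -/
theorem hs_invol (v w : leechLattice) (hv : sqNorm (v : GolayPt → ℤ) = 48)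
    (hw : sqNorm (w : GolayPt → ℤ) = 48)
    (hvw : dotInt (v : GolayPt → ℤ) (w : GolayPt → ℤ) = -32) :
    ∃ g : ↥Co0, g • v = v ∧ g • w = w ∧ orderOf g = 2 ∧ ∀ x ∈ hsSet v w, g • x ≠ x := by
  obtain ⟨h1, h2, h3⟩ := hs_setup v w hv hw hvw
  obtain ⟨h, hh1, hh2⟩ := pair48_orbit (-w) (v + w) vecU0L vecM1L h1 h2 vecU0L_norm vecM1L_norm
    h3 vecU0_M1_dot
  have a1 : h.1 (-w) = vecU0L := hh1
  have a2 : h.1 (v + w) = vecM1L := hh2
  have hGmem : h.1⁻¹ * signPerm dD dD_mem * h.1 ∈ Co0 :=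
    Co0.mul_mem (Co0.mul_mem (Co0.inv_mem h.2) (signPerm_mem dD dD_mem)) h.2
  have hGapp : ∀ y, (h.1⁻¹ * signPerm dD dD_mem * h.1) y =
      h.1.symm (signPerm dD dD_mem (h.1 y)) := fun y => rfl
  have b1 : (h.1⁻¹ * signPerm dD dD_mem * h.1) (-w) = -w := by
    rw [hGapp, a1, sign_vecU0L, ← a1, Equiv.symm_apply_apply]
  have b2 : (h.1⁻¹ * signPerm dD dD_mem * h.1) (v + w) = v + w := by
    rw [hGapp, a2, sign_vecM1L, ← a2, Equiv.symm_apply_apply]
  obtain ⟨c1, c2⟩ := fix_of_fix hGmem b1 b2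
  refine ⟨⟨h.1⁻¹ * signPerm dD dD_mem * h.1, hGmem⟩, c1, c2, ?_, ?_⟩
  · apply orderOf_eq_prime
    · apply Subtype.ext
      show (h.1⁻¹ * signPerm dD dD_mem * h.1) ^ 2 = 1
      have e : (h.1⁻¹ * signPerm dD dD_mem * h.1) ^ 2 =
          h.1⁻¹ * (signPerm dD dD_mem * signPerm dD dD_mem) * h.1 := by
        simp only [pow_two, mul_assoc, mul_inv_cancel_left]
      rw [e, sign_sq, mul_one, inv_mul_cancel]
    · intro hone
      have hone' : h.1⁻¹ * signPerm dD dD_mem * h.1 = 1 := congrArg Subtype.val hone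
      have h4 := congrFun (congrArg DFunLike.coe hone') (h.1.symm (axisVec (some 1)))
      rw [hGapp, Equiv.apply_symm_apply, Equiv.Perm.one_apply] at h4
      have h5 := h.1.symm.injective h4
      have h6 := congrFun (congrArg Subtype.val h5) (some 1)
      have h7 : ((signPerm dD dD_mem (axisVec (some 1)) : leechLattice) : GolayPt → ℤ) (some 1) =
          -8 := by
        show signVec dD (Pi.single (some 1) 8) (some 1) = -8
        rw [signVec_apply, if_pos one_mem_dD, Pi.single_eq_same]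
      have h8 : ((axisVec (some 1) : leechLattice) : GolayPt → ℤ) (some 1) = 8 := by
        show (Pi.single (some 1) 8 : GolayPt → ℤ) (some 1) = 8
        rw [Pi.single_eq_same]
      rw [h7, h8] at h6
      norm_num at h6
  · intro x hx hfix
    obtain ⟨x1, x2, x3⟩ := (hsSet_iff v w x).mp hx
    have hfix' : (h.1⁻¹ * signPerm dD dD_mem * h.1) x = x := hfix
    rw [hGapp] at hfix'
    have e : signPerm dD dD_mem (h.1 x) = h.1 x := by
      have := congrArg h.1 hfix'
      rwa [Equiv.apply_symm_apply] at this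
    apply no_fixed_dod (h.1 x).2
    · have := co0_dot h.2 (-w) x
      rw [a1, x2] at this
      exact this
    · exact congrArg Subtype.val e

end Cfsg.Agent.Lib.Helper10
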