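import Mathlib
import Cfsg.Prelude.Def_Sporadic_a
import Cfsg.Prelude.Def_Spor_Conway
import Cfsg.Agent.Lib.Helper10.HS

set_option autoImplicit false

namespace Cfsg.Agent.Lib.Helper10

open Cfsg Cfsg.Agent.Lib.Helper9
open scoped Pointwise

/-! ### Octads through two points -/

/-- Two octads with five common points are equal. -/
theorem octad_eq_of_five {O1 O2 : Finset GolayPt} (h1 : O1 ∈ octads) (h2 : O2 ∈ octads)
    (h : 5 ≤ (O1 ∩ O2).card) : O1 = O2 := by
  classical
  have hs := symmDiff_mem_gsup h1.1 h2.1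
  have e1 := Finset.card_sdiff_add_card_inter O1 O2
  have e2 := Finset.card_sdiff_add_card_inter O2 O1
  rw [Finset.inter_comm O2 O1] at e2
  have e3 : (symmDiff O1 O2).card = (O1 \ O2).card + (O2 \ O1).card := by
    rw [symmDiff_def, Finset.sup_eq_union, Finset.card_union_of_disjoint]
    exact Finset.disjoint_left.mpr
      (fun a ha hb => (Finset.mem_sdiff.mp hb).2 (Finset.mem_sdiff.mp ha).1)
  have c1 := h1.2
  have c2 := h2.2
  have h4 := golay_doubly_even hs
  have hne := no_weight4 hs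
  have h0 : (symmDiff O1 O2).card = 0 := by omega
  exact symmDiff_eq_bot.mp (Finset.card_eq_zero.mp h0)

theorem inj5 {a b c d e : GolayPt} (hab : a ≠ b) (hac : a ≠ c) (had : a ≠ d) (hae : a ≠ e)
    (hbc : b ≠ c) (hbd : b ≠ d) (hbe : b ≠ e) (hcd : c ≠ d) (hce : c ≠ e) (hde : d ≠ e) :
    Function.Injective (![a, b, c, d, e] : Fin 5 → GolayPt) := by
  intro i j h
  fin_cases i <;> fin_cases j <;> simp_all

theorem pick3 {S : Finset GolayPt} (hS : S ∈ octads) {p q : GolayPt} (hp : p ∈ S) (hq : q ∈ S)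
    (hpq : p ≠ q) :
    ∃ c d e, c ∈ S ∧ d ∈ S ∧ e ∈ S ∧ c ≠ d ∧ c ≠ e ∧ d ≠ e ∧ p ≠ c ∧ p ≠ d ∧ p ≠ e ∧ q ≠ c ∧
      q ≠ d ∧ q ≠ e := by
  classical
  have hc : 3 ≤ ((S.erase p).erase q).card := by
    rw [Finset.card_erase_of_mem (Finset.mem_erase.mpr ⟨hpq.symm, hq⟩),
      Finset.card_erase_of_mem hp, hS.2]
    norm_num
  obtain ⟨T, hT, hT3⟩ := Finset.exists_subset_card_eq hc
  obtain ⟨c, d, e, hcd, hce, hde, rfl⟩ := Finset.card_eq_three.mp hT3
  have mc := hT (show c ∈ ({c, d, e} : Finset GolayPt) by simp)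
  have md := hT (show d ∈ ({c, d, e} : Finset GolayPt) by simp)
  have me := hT (show e ∈ ({c, d, e} : Finset GolayPt) by simp)
  simp only [Finset.mem_erase] at mc md me
  exact ⟨c, d, e, mc.2.2, md.2.2, me.2.2, hcd, hce, hde, Ne.symm mc.2.1, Ne.symm md.2.1,
    Ne.symm me.2.1, Ne.symm mc.1, Ne.symm md.1, Ne.symm me.1⟩

/-- The group of the code is transitive on octads with two marked points. -/
theorem oct_trans_two {O O' : Finset GolayPt} (hO : O ∈ octads) (hO' : O' ∈ octads)
    {a b a' b' : GolayPt} (ha : a ∈ O) (hb : b ∈ O) (hab : a ≠ b) (ha' : a' ∈ O') (hb' : b' ∈ O')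
    (hab' : a' ≠ b') : ∃ σ ∈ M24, σ a = a' ∧ σ b = b' ∧ ∀ q, σ q ∈ O' ↔ q ∈ O := by
  classical
  obtain ⟨c, d, e, hc, hd, he, hcd, hce, hde, hac, had, hae, hbc, hbd, hbe⟩ := pick3 hO ha hb hab
  obtain ⟨c', d', e', hc', hd', he', hcd', hce', hde', hac', had', hae', hbc', hbd', hbe'⟩ :=
    pick3 hO' ha' hb' hab'
  have hx := inj5 hab hac had hae hbc hbd hbe hcd hce hde
  have hy := inj5 hab' hac' had' hae' hbc' hbd' hbe' hcd' hce' hde'
  obtain ⟨σ, hσ, h⟩ := m24_trans_fin (n := 5) (le_refl 5) ⟨_, hx⟩ ⟨_, hy⟩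
  have s0 : σ a = a' := h 0
  have s1 : σ b = b' := h 1
  have s2 : σ c = c' := h 2
  have s3 : σ d = d' := h 3
  have s4 : σ e = e' := h 4
  have hσO : σ • O = O' := by
    apply octad_eq_of_five ⟨smul_mem_gsup hσ hO.1, by rw [Finset.card_smul_finset]; exact hO.2⟩ hO'
    have hmaps : Set.MapsTo (![a', b', c', d', e'] : Fin 5 → GolayPt)
        ↑(Finset.univ : Finset (Fin 5)) ↑(σ • O ∩ O') := by
      intro i _
      rw [Finset.mem_coe, Finset.mem_inter]
      fin_cases i
      · exact ⟨by rw [← s0]; exact Finset.smul_mem_smul_finset ha, ha'⟩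
      · exact ⟨by rw [← s1]; exact Finset.smul_mem_smul_finset hb, hb'⟩
      · exact ⟨by rw [← s2]; exact Finset.smul_mem_smul_finset hc, hc'⟩
      · exact ⟨by rw [← s3]; exact Finset.smul_mem_smul_finset hd, hd'⟩
      · exact ⟨by rw [← s4]; exact Finset.smul_mem_smul_finset he, he'⟩
    have := Finset.card_le_card_of_injOn _ hmaps hy.injOn
    rwa [Finset.card_univ, Fintype.card_fin] at this
  refine ⟨σ, hσ, s0, s1, fun q => ?_⟩
  rw [← hσO]
  exact Finset.smul_mem_smul_finset_iff σ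

/-! ### Coordinate permutations on the reference vectors -/

theorem mono_repD {σ : Equiv.Perm GolayPt} (h1 : σ none = none) :
    signedPerm σ ∅ repD = repD := by
  funext i
  unfold signedPerm repD
  rw [if_neg (Finset.notMem_empty i)]
  have e : σ.symm i = none ↔ i = none := by
    rw [Equiv.symm_apply_eq, h1]
  by_cases hi : i = none
  · rw [if_pos (e.mpr hi), if_pos hi]
  · rw [if_neg (fun h => hi (e.mp h)), if_neg hi]

theorem mono_single (σ : Equiv.Perm GolayPt) (i : GolayPt) (s : ℤ) :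
    signedPerm σ ∅ (Pi.single i s) = Pi.single (σ i) s := by
  rw [signedPerm_single, if_neg (Finset.notMem_empty _)]

theorem mono_octRep {σ : Equiv.Perm GolayPt} {O O' : Finset GolayPt}
    (h : ∀ q, σ q ∈ O' ↔ q ∈ O) : signedPerm σ ∅ (octRep O) = octRep O' := by
  funext i
  unfold signedPerm octRep
  rw [if_neg (Finset.notMem_empty i)]
  have e : σ.symm i ∈ O ↔ i ∈ O' := by
    rw [← h, Equiv.apply_symm_apply]
  by_cases hi : i ∈ O'
  · rw [if_pos (e.mpr hi), if_pos hi]
  · rw [if_neg (fun h => hi (e.mp h)), if_neg hi]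

theorem signedPerm_sub (σ : Equiv.Perm GolayPt) (c : Finset GolayPt) (x y : GolayPt → ℤ) :
    signedPerm σ c (x - y) = signedPerm σ c x - signedPerm σ c y := by
  funext i
  simp only [signedPerm, Pi.sub_apply]
  split_ifs <;> ring

/-! ### The 22 vectors `(1, 1, -3 at k, 1, …)` -/

/-- The vector `(5, 1, …, 1) - (4 e_∞ + 4 e_k)`. -/
def vecF (k : ZMod 23) : GolayPt → ℤ := repD - (Pi.single none 4 + Pi.single (some k) 4)

theorem dot_repD_pair (k : ZMod 23) :
    dotInt repD (Pi.single none 4 + Pi.single (some k) 4) = 24 := by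
  rw [dotInt_add_right, dotInt_single, dotInt_single]
  show (5 : ℤ) * 4 + 1 * 4 = 24
  norm_num

theorem vecF_dAll (k : ZMod 23) : vecF k ∈ dAll 5 24 := by
  rw [mem_dAll (Or.inl rfl) (by norm_num)]
  refine ⟨leechLattice.sub_mem repD_mem
    (pair_mem (none_ne_some k) (Or.inl rfl) (Or.inl rfl)), ?_, ?_⟩
  · unfold vecF
    rw [sqNorm_sub, repD_norm, dot_repD_pair, sqNorm_pair (none_ne_some k)]
    norm_num
  · show dotInt repD (repD - (Pi.single none 4 + Pi.single (some k) 4)) = 24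
    rw [dotInt_sub_right, dotInt_self, repD_norm, dot_repD_pair]
    norm_num

theorem vecF_none (k : ZMod 23) : vecF k none = 1 := by
  unfold vecF
  rw [Pi.sub_apply, Pi.add_apply, Pi.single_eq_same, Pi.single_eq_of_ne (none_ne_some k)]
  show (5 : ℤ) - (4 + 0) = 1
  norm_num

theorem vecF_some (k j : ZMod 23) : vecF k (some j) = if j = k then -3 else 1 := by
  unfold vecF
  rw [Pi.sub_apply, Pi.add_apply, Pi.single_eq_of_ne (Ne.symm (none_ne_some j))]
  by_cases hj : j = k
  · subst hj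
    rw [Pi.single_eq_same, if_pos rfl]
    show (1 : ℤ) - (0 + 4) = -3
    norm_num
  · rw [Pi.single_eq_of_ne (fun h => hj (Option.some.inj h)), if_neg hj]
    show (1 : ℤ) - (0 + 0) = 1
    norm_num

theorem vecF_injective : Function.Injective vecF := by
  intro k k' h
  have h1 := congrFun h (some k)
  rw [vecF_some, vecF_some, if_pos rfl] at h1
  by_contra hne
  rw [if_neg hne] at h1
  norm_num at h1

/-- A minimal vector with `(5, 1, …, 1) · t = 24` and `t_∞ = t_0 = 1` is one of the `vecF k`. -/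
theorem y8_class {t : GolayPt → ℤ} (ht : t ∈ dAll 5 24) (h1 : t none = 1)
    (h2 : t (some 0) = 1) : ∃ k : ZMod 23, k ≠ 0 ∧ t = vecF k := by
  classical
  have hsub : (Finset.univ.erase (0 : ZMod 23)).image vecF ⊆
      (dAll 5 24).filter (fun x => ok3b (some 1) (some 1) none x = true) := by
    intro s hs
    obtain ⟨k, hk, rfl⟩ := Finset.mem_image.mp hs
    have hk0 : k ≠ 0 := (Finset.mem_erase.mp hk).1
    rw [Finset.mem_filter]
    refine ⟨vecF_dAll k, ?_⟩
    simp only [ok3b, Bool.and_eq_true, okb_some, okb_none, and_true]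
    refine ⟨vecF_none k, ?_⟩
    rw [vecF_some, if_neg (Ne.symm hk0)]
  have hcard : ((dAll 5 24).filter (fun x => ok3b (some 1) (some 1) none x = true)).card ≤
      ((Finset.univ.erase (0 : ZMod 23)).image vecF).card := by
    rw [card_dAll_filter' (Or.inl rfl) (by norm_num) (by norm_num), num_hs22,
      Finset.card_image_of_injective _ vecF_injective,
      Finset.card_erase_of_mem (Finset.mem_univ _), Finset.card_univ, ZMod.card]
  have heq := Finset.eq_of_subset_of_card_le hsub hcard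
  have hmem : t ∈ (dAll 5 24).filter (fun x => ok3b (some 1) (some 1) none x = true) := by
    rw [Finset.mem_filter]
    refine ⟨ht, ?_⟩
    simp only [ok3b, Bool.and_eq_true, okb_some, okb_none, and_true]
    exact ⟨h1, h2⟩
  rw [← heq] at hmem
  obtain ⟨k, hk, rfl⟩ := Finset.mem_image.mp hmem
  exact ⟨k, (Finset.mem_erase.mp hk).1, rfl⟩

/-! ### The 77 vectors `2 · 1_O` -/

theorem num_hs_zero : ∀ a ∈ ([-5, -4, -3, -2, -1, 0, 3, 5] : List ℤ),
    dTot3 5 24 (some a) (some a) none = 0 := by decide +kernel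

theorem y77_val {t : GolayPt → ℤ} (ht : t ∈ dAll 5 24) (heq : t none = t (some 0)) :
    t none = 1 ∨ t none = 2 ∨ t none = 4 := by
  have hb := dAll_bound (Or.inl rfl) (by norm_num) ht none
  rw [Finset.mem_Icc] at hb
  by_contra hcon
  push Not at hcon
  have ha : t none ∈ ([-5, -4, -3, -2, -1, 0, 3, 5] : List ℤ) := by
    simp only [List.mem_cons, List.not_mem_nil, or_false]
    omega
  have hmem : t ∈ (dAll 5 24).filter
      (fun x => ok3b (some (t none)) (some (t none)) none x = true) := by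
    rw [Finset.mem_filter]
    refine ⟨ht, ?_⟩
    simp only [ok3b, Bool.and_eq_true, okb_some, okb_none, and_true]
    exact ⟨trivial, heq.symm⟩
  have hcard := card_dAll_filter' (A := 5) (D := 24) (Or.inl rfl) (by norm_num) (by norm_num)
    (some (t none)) (some (t none)) none
  rw [num_hs_zero _ ha] at hcard
  rw [Finset.card_eq_zero.mp hcard] at hmem
  exact Finset.notMem_empty _ hmem

/-- A minimal vector with `(5, 1, …, 1) · t = 24` and `t_∞ = t_0 = 2` is twice the indicator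
of an octad through `∞` and `0`. -/
theorem y77_class {t : GolayPt → ℤ} (htL : t ∈ leechLattice) (hn : sqNorm t = 32)
    (hd : dotInt repD t = 24) (h2 : t none = 2) (h0 : t (some 0) = 2) :
    ∃ O ∈ octads, none ∈ O ∧ some 0 ∈ O ∧ t = octRep O := by
  classical
  obtain ⟨S, hS, hnS, hsq, hout⟩ := min_even htL hn (i0 := none) (by rw [h2]; decide)
  have h0S : (some 0 : GolayPt) ∈ S := by
    by_contra h
    have := hout _ h
    omega
  have hle : ∀ i ∈ S, t i ≤ 2 := fun i hi => by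
    rcases sq_four_cases (hsq i hi) with h | h <;> omega
  have hsum : dotInt repD t = 10 + ∑ i ∈ S.erase none, t i := by
    unfold dotInt
    rw [← Finset.sum_add_sum_compl S, ← Finset.add_sum_erase S _ hnS]
    have e1 : ∑ i ∈ Sᶜ, repD i * t i = 0 :=
      Finset.sum_eq_zero (fun i hi => by rw [hout i (Finset.mem_compl.mp hi), mul_zero])
    have e2 : ∑ i ∈ S.erase none, repD i * t i = ∑ i ∈ S.erase none, t i :=
      Finset.sum_congr rfl (fun i hi => by
        have : repD i = 1 := by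
          unfold repD
          rw [if_neg (Finset.ne_of_mem_erase hi)]
        rw [this, one_mul])
    rw [e1, e2, h2]
    show (5 : ℤ) * 2 + _ + 0 = _
    ring
  have hcard7 : (S.erase none).card = 7 := by
    rw [Finset.card_erase_of_mem hnS, hS.2]
  have hz : ∑ i ∈ S.erase none, (2 - t i) = 0 := by
    rw [Finset.sum_sub_distrib, Finset.sum_const, hcard7]
    simp only [nsmul_eq_mul, Nat.cast_ofNat]
    linarith
  have hall : ∀ i ∈ S, t i = 2 := by
    intro i hi
    by_cases hin : i = none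
    · rw [hin, h2]
    · have := (Finset.sum_eq_zero_iff_of_nonneg (fun j hj => by
        have := hle j (Finset.mem_of_mem_erase hj)
        omega)).mp hz i (Finset.mem_erase.mpr ⟨hin, hi⟩)
      omega
  refine ⟨S, hS, hnS, h0S, ?_⟩
  funext i
  unfold octRep
  by_cases hi : i ∈ S
  · rw [if_pos hi, hall i hi]
  · rw [if_neg hi, hout i hi]

/-! ### The rank 3 action on the 100 vectors -/

theorem hs_finish {g0 N : Equiv.Perm leechLattice} (hg0 : g0 ∈ Co0) (hN : N ∈ Co0)
    {v w x y y' : leechLattice} (f1 : N (g0 (-w)) = g0 (-w)) (f2 : N (g0 (v + w)) = g0 (v + w))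
    (f3 : N (g0 x) = g0 x) (f4 : N (g0 y) = g0 y') :
    ∃ g : ↥Co0, g • v = v ∧ g • w = w ∧ g • x = x ∧ g • y = y' := by
  have hG : g0⁻¹ * N * g0 ∈ Co0 := Co0.mul_mem (Co0.mul_mem (Co0.inv_mem hg0) hN) hg0
  have app : ∀ z, (g0⁻¹ * N * g0) z = g0.symm (N (g0 z)) := fun z => rfl
  have b1 : (g0⁻¹ * N * g0) (-w) = -w := by rw [app, f1, Equiv.symm_apply_apply]
  have b2 : (g0⁻¹ * N * g0) (v + w) = v + w := by rw [app, f2, Equiv.symm_apply_apply]
  obtain ⟨c1, c2⟩ := fix_of_fix hG b1 b2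
  refine ⟨⟨_, hG⟩, c1, c2, ?_, ?_⟩
  · show (g0⁻¹ * N * g0) x = x
    rw [app, f3, Equiv.symm_apply_apply]
  · show (g0⁻¹ * N * g0) y = y'
    rw [app, f4, Equiv.symm_apply_apply]

theorem hs_rank3 (v w x : leechLattice) (hv : sqNorm (v : GolayPt → ℤ) = 48)
    (hw : sqNorm (w : GolayPt → ℤ) = 48)
    (hvw : dotInt (v : GolayPt → ℤ) (w : GolayPt → ℤ) = -32) (hx : x ∈ hsSet v w) :
    {y : leechLattice | y ∈ hsSet v w ∧
        dotInt (x : GolayPt → ℤ) (y : GolayPt → ℤ) = 8}.ncard = 22 ∧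
      {y : leechLattice | y ∈ hsSet v w ∧ y ≠ x ∧
        dotInt (x : GolayPt → ℤ) (y : GolayPt → ℤ) ≠ 8}.ncard = 77 ∧
      ∀ y ∈ hsSet v w, ∀ y' ∈ hsSet v w, y ≠ x → y' ≠ x →
        (dotInt (x : GolayPt → ℤ) (y : GolayPt → ℤ) = 8 ↔
          dotInt (x : GolayPt → ℤ) (y' : GolayPt → ℤ) = 8) →
        ∃ g : ↥Co0, g • v = v ∧ g • w = w ∧ g • x = x ∧ g • y = y' := by
  classical
  obtain ⟨h1, h2, h3⟩ := hs_setup v w hv hw hvw
  obtain ⟨a1, a2, a3⟩ := (hsSet_iff v w x).mp hx
  obtain ⟨g0, hg0, hgu, hgm, hgx⟩ := hs_triple (-w) (v + w) x h1 h2 a1 h3 a2 a3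
  have nf : ∀ y ∈ hsSet v w, ((g0 y : leechLattice) : GolayPt → ℤ) ∈ dAll 5 24 ∧
      ((g0 y : leechLattice) : GolayPt → ℤ) none = ((g0 y : leechLattice) : GolayPt → ℤ) (some 0) ∧
      dotInt (x : GolayPt → ℤ) (y : GolayPt → ℤ) =
        8 * ((g0 y : leechLattice) : GolayPt → ℤ) none := by
    intro y hy
    obtain ⟨b1, b2, b3⟩ := (hsSet_iff v w y).mp hy
    have c1 := co0_dot hg0 (-w) y
    rw [hgu, b2] at c1
    have c2 := co0_dot hg0 (v + w) y
    rw [hgm, b3, dot_vecM0] at c2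
    have c3 := co0_dot hg0 x y
    rw [hgx, dot_vecT0] at c3
    refine ⟨(mem_dAll (Or.inl rfl) (by norm_num) _).mpr
      ⟨(g0 y).2, by rw [hg0.2]; exact b1, c1⟩, by omega, by omega⟩
  -- the count of the 22
  have hcard22 : {y : leechLattice | y ∈ hsSet v w ∧
      dotInt (x : GolayPt → ℤ) (y : GolayPt → ℤ) = 8}.ncard = 22 := by
    have e1 : {y : leechLattice | y ∈ hsSet v w ∧
        dotInt (x : GolayPt → ℤ) (y : GolayPt → ℤ) = 8} =
        {y : leechLattice | (fun n a b c => n = 32 ∧ a = 24 ∧ b = 0 ∧ c = 8)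
          (sqNorm (y : GolayPt → ℤ))
          (dotInt ((-w : leechLattice) : GolayPt → ℤ) (y : GolayPt → ℤ))
          (dotInt ((v + w : leechLattice) : GolayPt → ℤ) (y : GolayPt → ℤ))
          (dotInt (x : GolayPt → ℤ) (y : GolayPt → ℤ))} := by
      ext y
      constructor
      · rintro ⟨hy, h8⟩
        obtain ⟨b1, b2, b3⟩ := (hsSet_iff v w y).mp hy
        exact ⟨b1, b2, b3, h8⟩
      · rintro ⟨b1, b2, b3, h8⟩
        exact ⟨(hsSet_iff v w y).mpr ⟨b1, b2, b3⟩, h8⟩
    rw [e1]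
    refine (ncard_set_co0 hg0 (-w) (v + w) x
      (fun n a b c => n = 32 ∧ a = 24 ∧ b = 0 ∧ c = 8)).trans ?_
    rw [hgu, hgm, hgx]
    have e2 : {y : leechLattice | (fun n a b c => n = 32 ∧ a = 24 ∧ b = 0 ∧ c = 8)
        (sqNorm (y : GolayPt → ℤ)) (dotInt repD (y : GolayPt → ℤ))
        (dotInt vecM0 (y : GolayPt → ℤ))
        (dotInt (Pi.single none 4 + Pi.single (some 0) 4) (y : GolayPt → ℤ))} =
        {y : leechLattice | sqNorm (y : GolayPt → ℤ) = 32 ∧ dotInt repD (y : GolayPt → ℤ) = 24 ∧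
          (fun t : GolayPt → ℤ => ok3b (some 1) (some 1) none t = true) (y : GolayPt → ℤ)} := by
      ext y
      show (sqNorm (y : GolayPt → ℤ) = 32 ∧ dotInt repD (y : GolayPt → ℤ) = 24 ∧
        dotInt vecM0 (y : GolayPt → ℤ) = 0 ∧
        dotInt (Pi.single none 4 + Pi.single (some 0) 4) (y : GolayPt → ℤ) = 8) ↔
        (sqNorm (y : GolayPt → ℤ) = 32 ∧ dotInt repD (y : GolayPt → ℤ) = 24 ∧
          ok3b (some 1) (some 1) none (y : GolayPt → ℤ) = true)
      rw [dot_vecM0, dot_vecT0]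
      simp only [ok3b, Bool.and_eq_true, okb_some, okb_none, and_true]
      constructor
      · rintro ⟨c1, c2, c3, c4⟩
        exact ⟨c1, c2, by omega, by omega⟩
      · rintro ⟨c1, c2, c3, c4⟩
        exact ⟨c1, c2, by omega, by omega⟩
    refine (congrArg Set.ncard e2).trans ?_
    refine (ncard_rep24 (fun t : GolayPt → ℤ => ok3b (some 1) (some 1) none t = true)).trans ?_
    rw [card_dAll_filter' (Or.inl rfl) (by norm_num) (by norm_num), num_hs22]
  refine ⟨hcard22, ?_, ?_⟩
  · -- the count of the 77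
    have hX := hs_card v w hv hw hvw
    have hfin : (hsSet v w).Finite := Set.finite_of_ncard_ne_zero (by rw [hX]; norm_num)
    have hsub8 : {y : leechLattice | y ∈ hsSet v w ∧
        dotInt (x : GolayPt → ℤ) (y : GolayPt → ℤ) = 8} ⊆ hsSet v w := fun y hy => hy.1
    have hfin8 := hfin.subset hsub8
    have hx8 : x ∉ {y : leechLattice | y ∈ hsSet v w ∧
        dotInt (x : GolayPt → ℤ) (y : GolayPt → ℤ) = 8} := by
      rintro ⟨-, h8⟩
      rw [dotInt_self, a1] at h8
      norm_num at h8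
    have e : {y : leechLattice | y ∈ hsSet v w ∧ y ≠ x ∧
        dotInt (x : GolayPt → ℤ) (y : GolayPt → ℤ) ≠ 8} =
        hsSet v w \ insert x {y : leechLattice | y ∈ hsSet v w ∧
          dotInt (x : GolayPt → ℤ) (y : GolayPt → ℤ) = 8} := by
      ext y
      simp only [Set.mem_ofPred_eq, Set.mem_sdiff, Set.mem_insert_iff]
      constructor
      · rintro ⟨hy, hne, h8⟩
        exact ⟨hy, fun h => h.elim hne (fun h' => h8 h'.2)⟩
      · rintro ⟨hy, hnot⟩
        exact ⟨hy, fun h => hnot (Or.inl h), fun h => hnot (Or.inr ⟨hy, h⟩)⟩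
    rw [e, Set.ncard_sdiff (Set.insert_subset hx hsub8) (hfin8.insert x),
      Set.ncard_insert_of_notMem hx8 hfin8, hX, hcard22]
  · intro y hy y' hy' hne hne' hiff
    obtain ⟨d1, d2, d3⟩ := nf y hy
    obtain ⟨d1', d2', d3'⟩ := nf y' hy'
    have he : (∅ : Finset GolayPt) ∈ gsup := Spor.empty_mem_supports_golayCode
    have fix3 : ∀ σ : Equiv.Perm GolayPt, ∀ hσ : σ ∈ M24, σ none = none → σ (some 0) = some 0 →
        monoPerm σ hσ ∅ he (g0 (-w)) = g0 (-w) ∧
        monoPerm σ hσ ∅ he (g0 (v + w)) = g0 (v + w) ∧ monoPerm σ hσ ∅ he (g0 x) = g0 x := by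
      intro σ hσ s1 s2
      refine ⟨Subtype.ext ?_, Subtype.ext ?_, Subtype.ext ?_⟩
      · rw [monoPerm_apply, hgu, mono_repD s1]
      · rw [monoPerm_apply, hgm]
        unfold vecM0
        rw [signedPerm_add, mono_single, mono_single, s1, s2]
      · rw [monoPerm_apply, hgx, signedPerm_add, mono_single, mono_single, s1, s2]
    by_cases h8 : dotInt (x : GolayPt → ℤ) (y : GolayPt → ℤ) = 8
    · have h8' := hiff.mp h8
      obtain ⟨k, hk, hyk⟩ := y8_class d1 (by omega) (by omega)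
      obtain ⟨k', hk', hyk'⟩ := y8_class d1' (by omega) (by omega)
      obtain ⟨σ, hσ, s1, s2, s3⟩ := m24_trans3 (p := none) (p' := some 0) (p'' := some k)
        (q := none) (q' := some 0) (q'' := some k') (by decide) (none_ne_some k)
        (fun h => hk (Option.some.inj h).symm) (by decide) (none_ne_some k')
        (fun h => hk' (Option.some.inj h).symm)
      obtain ⟨f1, f2, f3⟩ := fix3 σ hσ s1 s2
      refine hs_finish hg0 (monoPerm_mem σ hσ ∅ he) f1 f2 f3 (Subtype.ext ?_)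
      rw [monoPerm_apply, hyk, hyk']
      unfold vecF
      rw [signedPerm_sub, signedPerm_add, mono_repD s1, mono_single, mono_single, s1, s3]
    · have h8' : dotInt (x : GolayPt → ℤ) (y' : GolayPt → ℤ) ≠ 8 := fun h => h8 (hiff.mpr h)
      have key : ∀ z ∈ hsSet v w, z ≠ x → dotInt (x : GolayPt → ℤ) (z : GolayPt → ℤ) ≠ 8 →
          ∃ O ∈ octads, none ∈ O ∧ some 0 ∈ O ∧ ((g0 z : leechLattice) : GolayPt → ℤ) = octRep O := by
        intro z hz hzx hz8
        obtain ⟨e1, e2, e3⟩ := nf z hz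
        obtain ⟨m1, m2, m3⟩ := (mem_dAll (Or.inl rfl) (by norm_num) _).mp e1
        have n4 : ((g0 z : leechLattice) : GolayPt → ℤ) none ≠ 4 := by
          intro h4
          apply hzx
          apply g0.injective
          apply Subtype.ext
          rw [hgx]
          obtain ⟨j, hj, s, hs, e⟩ := min_four (g0 z).2 m2 h4
          have hz0 : ((g0 z : leechLattice) : GolayPt → ℤ) (some 0) = 4 := by omega
          rw [e] at hz0 ⊢
          rw [Pi.add_apply, Pi.single_eq_of_ne (Ne.symm (none_ne_some 0)), zero_add] at hz0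
          by_cases hj0 : j = some 0
          · subst hj0
            rw [Pi.single_eq_same] at hz0
            rw [hz0]
          · rw [Pi.single_eq_of_ne (Ne.symm hj0)] at hz0
            norm_num at hz0
        have t2 : ((g0 z : leechLattice) : GolayPt → ℤ) none = 2 := by
          rcases y77_val e1 e2 with h | h | h
          · exfalso
            apply hz8
            rw [e3, h]
            norm_num
          · exact h
          · exact absurd h n4
        exact y77_class m1 m2 m3 t2 (by omega)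
      obtain ⟨O, hO, hnO, h0O, hyO⟩ := key y hy hne h8
      obtain ⟨O', hO', hnO', h0O', hyO'⟩ := key y' hy' hne' h8'
      obtain ⟨σ, hσ, s1, s2, s3⟩ := oct_trans_two hO hO' hnO h0O (by decide) hnO' h0O'
        (by decide)
      obtain ⟨f1, f2, f3⟩ := fix3 σ hσ s1 s2
      refine hs_finish hg0 (monoPerm_mem σ hσ ∅ he) f1 f2 f3 (Subtype.ext ?_)
      rw [monoPerm_apply, hyO, hyO', mono_octRep s3]

end Cfsg.Agent.Lib.Helper10
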