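import Mathlib
import Cfsg.Prelude.Def_Sporadic_a
import Cfsg.Prelude.Def_Spor_Conway
import Cfsg.Prelude.Def_Sporadic
import Cfsg.Agent.Lib.Helper10.HS2
import Cfsg.Agent.Lib.Helper9.M22Simple

set_option autoImplicit false

namespace Cfsg.Agent.Lib.Helper10

open Cfsg Cfsg.Agent.Lib.Helper9
open scoped Pointwise

/-! ### A simplicity criterion

The two lemmas of this section follow helper9's `HS.exists_normal_card25` and
`HS.simple_of_rank3`, restated for an action that need be neither transitive nor faithful on the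
whole type. -/

/-- A normal subgroup of order 100 contains a subgroup of order 25 normal in the whole group. -/
theorem normal_card25 {G : Type*} [Group G] [Finite G] (N : Subgroup G) [N.Normal]
    (hN : Nat.card N = 100) : ∃ P : Subgroup G, P.Normal ∧ Nat.card P = 25 ∧ P ≤ N := by
  have : Fact (Nat.Prime 5) := ⟨by norm_num⟩
  obtain ⟨S⟩ : Nonempty (Sylow 5 N) := Sylow.nonempty
  have hS : Nat.card S = 25 := by
    obtain ⟨k, hk⟩ := IsPGroup.iff_card.mp S.isPGroup'
    have h1 : Nat.card S ∣ 100 := hN ▸ (S : Subgroup N).card_subgroup_dvd_card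
    have h2 : 5 ^ 2 ∣ Nat.card S := S.pow_dvd_card_of_pow_dvd_card (by rw [hN]; norm_num)
    rw [hk] at h1 h2 ⊢
    have hk3 : k < 3 := by
      by_contra hcon
      have h3 : 5 ^ 3 ∣ 5 ^ k := pow_dvd_pow 5 (by omega)
      have h4 := h3.trans h1
      norm_num at h4
    interval_cases k
    · norm_num at h2
    · norm_num at h2
    · norm_num
  have hidx : (S : Subgroup N).index = 4 := by
    have h1 := Subgroup.card_mul_index (S : Subgroup N)
    rw [hS, hN] at h1
    omega
  have h1 := card_sylow_modEq_one 5 N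
  have h2 := S.card_dvd_index
  rw [hidx] at h2
  have h3 : Nat.card (Sylow 5 N) = 1 := by
    have hle := Nat.le_of_dvd (by norm_num) h2
    unfold Nat.ModEq at h1
    interval_cases (Nat.card (Sylow 5 N)) <;> simp_all
  have : Subsingleton (Sylow 5 N) := (Nat.card_eq_one_iff_unique.mp h3).1
  have := Sylow.characteristic_of_subsingleton S
  refine ⟨(S : Subgroup N).map N.subtype, ConjAct.normal_of_characteristic_of_normal, ?_, ?_⟩
  · rw [← hS]
    exact (Nat.card_congr
      ((S : Subgroup N).equivMapOfInjective N.subtype N.subtype_injective).toEquiv).symm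
  · exact Subgroup.map_subtype_le _

/-- A group of order 44352000 acting faithfully on the orbit of a point whose stabiliser is
simple of order 443520, such that the subsets of the orbit containing the point and invariant
under its stabiliser have sizes 1, 23, 78 or 100 only, is simple. -/
theorem simple_rank3 {G X : Type*} [Group G] [Finite G] [MulAction G X] (x0 : X)
    (hfaith : ∀ n : G, (∀ g : G, n • g • x0 = g • x0) → n = 1)
    (hK : IsSimpleGroup (MulAction.stabilizer G x0))
    (hKcard : Nat.card (MulAction.stabilizer G x0) = 443520)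
    (hinv : ∀ S : Set X, x0 ∈ S → S ⊆ MulAction.orbit G x0 →
      (∀ k ∈ MulAction.stabilizer G x0, ∀ s ∈ S, k • s ∈ S) →
      S.ncard = 1 ∨ S.ncard = 23 ∨ S.ncard = 78 ∨ S.ncard = 100)
    (hG : Nat.card G = 44352000) : IsSimpleGroup G := by
  have horb : ∀ N : Subgroup G, N.Normal → (MulAction.orbit N x0).ncard = 1 ∨
      (MulAction.orbit N x0).ncard = 23 ∨ (MulAction.orbit N x0).ncard = 78 ∨
      (MulAction.orbit N x0).ncard = 100 := by
    intro N hN
    apply hinv
    · exact MulAction.mem_orbit_self x0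
    · rintro _ ⟨n, rfl⟩
      exact ⟨(n : G), rfl⟩
    · rintro k hk _ ⟨n, rfl⟩
      refine ⟨⟨k * n * k⁻¹, hN.conj_mem n n.2 k⟩, ?_⟩
      show (k * (n : G) * k⁻¹) • x0 = k • ((n : G) • x0)
      have h1 : k⁻¹ • x0 = x0 := (MulAction.stabilizer G x0).inv_mem hk
      rw [mul_smul, mul_smul, h1]
  have hcardN : ∀ N : Subgroup G, Nat.card N =
      (MulAction.orbit N x0).ncard * Nat.card ↥(N ⊓ MulAction.stabilizer G x0) :=
    fun N => Cfsg.Agent.Lib.Helper9.card_eq_orbit_mul_stab' N x0
  have htriv : ∀ N : Subgroup G, N.Normal → (MulAction.orbit N x0).ncard = 1 → N = ⊥ := by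
    intro N hN h1
    rw [Set.ncard_eq_one] at h1
    obtain ⟨y, hy⟩ := h1
    have hfix : ∀ n ∈ N, n • x0 = x0 := by
      intro n hn
      have h2 : n • x0 ∈ MulAction.orbit N x0 := ⟨⟨n, hn⟩, rfl⟩
      have h3 : x0 ∈ MulAction.orbit N x0 := MulAction.mem_orbit_self x0
      rw [hy, Set.mem_singleton_iff] at h2 h3
      rw [h2, h3]
    rw [Subgroup.eq_bot_iff_forall]
    intro n hn
    apply hfaith
    intro g
    have h4 : n * g = g * (g⁻¹ * n * g) := by group
    have h5 : g⁻¹ * n * g ∈ N := by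
      have := hN.conj_mem n hn g⁻¹
      simpa using this
    rw [← mul_smul, h4, mul_smul, hfix _ h5]
  have hdisj : ∀ N : Subgroup G, N.Normal → N ⊓ MulAction.stabilizer G x0 = ⊥ →
      Nat.card N = 1 ∨ Nat.card N = 23 ∨ Nat.card N = 78 ∨ Nat.card N = 100 := by
    intro N hN hNK
    have h1 := hcardN N
    rw [hNK, Subgroup.card_bot, mul_one] at h1
    rw [h1]
    exact horb N hN
  have : Nontrivial G := Finite.one_lt_card_iff_nontrivial.mp (by rw [hG]; norm_num)
  refine ⟨fun N hN => ?_⟩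
  have hsub : (N.subgroupOf (MulAction.stabilizer G x0)).Normal := hN.subgroupOf _
  rcases hsub.eq_bot_or_eq_top with h | h
  · rw [Subgroup.subgroupOf_eq_bot, disjoint_iff] at h
    rcases hdisj N hN h with h1 | h1 | h1 | h1
    · exact Or.inl (Subgroup.eq_bot_of_card_eq N h1)
    · exfalso
      have h2 := N.card_subgroup_dvd_card
      rw [h1, hG] at h2
      norm_num at h2
    · exfalso
      have h2 := N.card_subgroup_dvd_card
      rw [h1, hG] at h2
      norm_num at h2
    · exfalso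
      obtain ⟨P, hPn, hP25, hPN⟩ := normal_card25 N h1
      have hPK : P ⊓ MulAction.stabilizer G x0 = ⊥ :=
        le_bot_iff.mp (h ▸ inf_le_inf_right _ hPN)
      rcases hdisj P hPn hPK with h2 | h2 | h2 | h2 <;> omega
  · rw [Subgroup.subgroupOf_eq_top] at h
    have h1 := hcardN N
    rw [inf_eq_right.mpr h, hKcard] at h1
    have hdvd := N.card_subgroup_dvd_card
    rw [h1, hG] at hdvd
    rcases horb N hN with h2 | h2 | h2 | h2
    · exfalso
      have h3 := htriv N hN h2
      rw [h3] at h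
      have h4 : MulAction.stabilizer G x0 = ⊥ := le_bot_iff.mp h
      rw [h4, Subgroup.card_bot] at hKcard
      omega
    · exfalso
      rw [h2] at hdvd
      norm_num at hdvd
    · exfalso
      rw [h2] at hdvd
      norm_num at hdvd
    · right
      apply Subgroup.eq_top_of_card_eq
      rw [h1, h2, hG]

/-- Sizes of the sets containing `x` that are unions of `{x}` and of some of `A`, `B`. -/
theorem inv_card {α : Type*} {H A B S : Set α} {x : α} (hH : H.ncard = 100)
    (hA : A.ncard = 22) (hB : B.ncard = 77)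
    (hcover : ∀ y ∈ H, y = x ∨ y ∈ A ∨ y ∈ B) (hxA : x ∉ A) (hxB : x ∉ B) (hS : S ⊆ H)
    (hx : x ∈ S) (hSA : ∀ y ∈ S, y ∈ A → A ⊆ S) (hSB : ∀ y ∈ S, y ∈ B → B ⊆ S) :
    S.ncard = 1 ∨ S.ncard = 23 ∨ S.ncard = 78 ∨ S.ncard = 100 := by
  have hfA : A.Finite := Set.finite_of_ncard_ne_zero (by rw [hA]; norm_num)
  have hfB : B.Finite := Set.finite_of_ncard_ne_zero (by rw [hB]; norm_num)
  by_cases h1 : ∃ y ∈ S, y ∈ A
  · obtain ⟨y, hy, hyA⟩ := h1
    have hAS := hSA y hy hyA
    by_cases h2 : ∃ y ∈ S, y ∈ B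
    · obtain ⟨y', hy', hyB⟩ := h2
      have hBS := hSB y' hy' hyB
      have e : S = H := Set.Subset.antisymm hS (fun z hz => by
        rcases hcover z hz with rfl | h | h
        · exact hx
        · exact hAS h
        · exact hBS h)
      right; right; right
      rw [e, hH]
    · have e : S = insert x A := by
        ext z
        constructor
        · intro hz
          rcases hcover z (hS hz) with rfl | h | h
          · exact Set.mem_insert _ _
          · exact Set.mem_insert_of_mem _ h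
          · exact absurd ⟨z, hz, h⟩ h2
        · rintro (rfl | h)
          · exact hx
          · exact hAS h
      right; left
      rw [e, Set.ncard_insert_of_notMem hxA hfA, hA]
  · by_cases h2 : ∃ y ∈ S, y ∈ B
    · obtain ⟨y', hy', hyB⟩ := h2
      have hBS := hSB y' hy' hyB
      have e : S = insert x B := by
        ext z
        constructor
        · intro hz
          rcases hcover z (hS hz) with rfl | h | h
          · exact Set.mem_insert _ _
          · exact absurd ⟨z, hz, h⟩ h1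
          · exact Set.mem_insert_of_mem _ h
        · rintro (rfl | h)
          · exact hx
          · exact hBS h
      right; right; left
      rw [e, Set.ncard_insert_of_notMem hxB hfB, hB]
    · have e : S = {x} := by
        ext z
        constructor
        · intro hz
          rcases hcover z (hS hz) with rfl | h | h
          · exact Set.mem_singleton _
          · exact absurd ⟨z, hz, h⟩ h1
          · exact absurd ⟨z, hz, h⟩ h2
        · rintro rfl
          exact hx
      left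
      rw [e, Set.ncard_singleton]

/-! ### Coordinates from inner products with the reference vectors -/

theorem coord_det {p q : GolayPt → ℤ} (h1 : dotInt vecM0 p = dotInt vecM0 q)
    (h2 : dotInt (Pi.single none 4 + Pi.single (some 0) 4) p =
      dotInt (Pi.single none 4 + Pi.single (some 0) 4) q)
    (h3 : dotInt repD p = dotInt repD q)
    (h4 : ∀ j : ZMod 23, j ≠ 0 → dotInt (vecF j) p = dotInt (vecF j) q) : p = q := by
  rw [dot_vecM0, dot_vecM0] at h1
  rw [dot_vecT0, dot_vecT0] at h2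
  have e1 : p none = q none := by omega
  have e2 : p (some 0) = q (some 0) := by omega
  have hF : ∀ (j : ZMod 23) (t : GolayPt → ℤ),
      dotInt (vecF j) t = dotInt repD t - (4 * t none + 4 * t (some j)) := by
    intro j t
    rw [dotInt_comm, vecF, dotInt_sub_right, dotInt_add_right, dotInt_single, dotInt_single,
      dotInt_comm]
    ring
  funext i
  cases i with
  | none => exact e1
  | some j =>
    by_cases hj : j = 0
    · subst hj
      exact e2
    · have h := h4 j hj
      rw [hF, hF] at h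
      omega

theorem vecM0_mem : vecM0 ∈ leechLattice :=
  pair_mem (none_ne_some 0) (Or.inr rfl) (Or.inl rfl)

theorem vecT0_mem : (Pi.single none 4 + Pi.single (some 0) 4 : GolayPt → ℤ) ∈ leechLattice :=
  pair_mem (none_ne_some 0) (Or.inl rfl) (Or.inl rfl)

theorem vecF_props (j : ZMod 23) :
    vecF j ∈ leechLattice ∧ sqNorm (vecF j) = 32 ∧ dotInt repD (vecF j) = 24 :=
  (mem_dAll (Or.inl rfl) (by norm_num) _).mp (vecF_dAll j)

/-- An automorphism fixing the reference vectors is trivial. -/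
theorem fix_all {h : Equiv.Perm leechLattice} (hh : h ∈ Co0)
    (hfix : ∀ b : leechLattice, ((b : GolayPt → ℤ) = repD ∨ (b : GolayPt → ℤ) = vecM0 ∨
      (b : GolayPt → ℤ) = Pi.single none 4 + Pi.single (some 0) 4 ∨
      ∃ j : ZMod 23, j ≠ 0 ∧ (b : GolayPt → ℤ) = vecF j) → h b = b) : h = 1 := by
  have key : ∀ (P : GolayPt → ℤ) (hP : P ∈ leechLattice), (P = repD ∨ P = vecM0 ∨
      P = Pi.single none 4 + Pi.single (some 0) 4 ∨ ∃ j : ZMod 23, j ≠ 0 ∧ P = vecF j) →
      ∀ z : leechLattice, dotInt P ((h z : leechLattice) : GolayPt → ℤ) =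
        dotInt P (z : GolayPt → ℤ) := by
    intro P hP hc z
    have e := co0_dot hh ⟨P, hP⟩ z
    rw [hfix ⟨P, hP⟩ hc] at e
    exact e
  apply Equiv.ext
  intro z
  apply Subtype.ext
  show ((h z : leechLattice) : GolayPt → ℤ) = (z : GolayPt → ℤ)
  refine coord_det (key _ vecM0_mem (Or.inr (Or.inl rfl)) z)
    (key _ vecT0_mem (Or.inr (Or.inr (Or.inl rfl))) z) (key _ repD_mem (Or.inl rfl) z) ?_
  intro j hj
  exact key _ (vecF_props j).1 (Or.inr (Or.inr (Or.inr ⟨j, hj, rfl⟩))) z

/-! ### The stabiliser of `v` and `w` and its action on the 100 vectors -/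

/-- Faithfulness on the 100 vectors. -/
theorem hs_faithful {v w x : leechLattice} (hv : sqNorm (v : GolayPt → ℤ) = 48)
    (hw : sqNorm (w : GolayPt → ℤ) = 48)
    (hvw : dotInt (v : GolayPt → ℤ) (w : GolayPt → ℤ) = -32) (hx : x ∈ hsSet v w)
    {k : Equiv.Perm leechLattice} (hk : k ∈ Co0) (kv : k v = v) (kw : k w = w)
    (kH : ∀ y ∈ hsSet v w, k y = y) : k = 1 := by
  obtain ⟨h1, h2, h3⟩ := hs_setup v w hv hw hvw
  obtain ⟨a1, a2, a3⟩ := (hsSet_iff v w x).mp hx
  obtain ⟨g0, hg0, hgu, hgm, hgx⟩ := hs_triple (-w) (v + w) x h1 h2 a1 h3 a2 a3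
  have hh : g0 * k * g0⁻¹ ∈ Co0 := Co0.mul_mem (Co0.mul_mem hg0 hk) (Co0.inv_mem hg0)
  have app : ∀ b, k b = b → (g0 * k * g0⁻¹) (g0 b) = g0 b := by
    intro b hb
    show g0 (k (g0.symm (g0 b))) = g0 b
    rw [Equiv.symm_apply_apply, hb]
  have ku : k (-w) = -w := by rw [co0_map_neg hk, kw]
  have km : k (v + w) = v + w := by rw [hk.1, kv, kw]
  have h1' : g0 * k * g0⁻¹ = 1 := by
    apply fix_all hh
    intro b hb
    have e : b = g0 (g0.symm b) := (Equiv.apply_symm_apply g0 b).symm
    rw [e]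
    apply app
    rcases hb with hb | hb | hb | ⟨j, hj, hb⟩
    · have e' : g0.symm b = -w := by
        rw [Equiv.symm_apply_eq]
        exact Subtype.ext (hb.trans hgu.symm)
      rw [e']
      exact ku
    · have e' : g0.symm b = v + w := by
        rw [Equiv.symm_apply_eq]
        exact Subtype.ext (hb.trans hgm.symm)
      rw [e']
      exact km
    · have e' : g0.symm b = x := by
        rw [Equiv.symm_apply_eq]
        exact Subtype.ext (hb.trans hgx.symm)
      rw [e']
      exact kH x hx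
    · apply kH
      rw [hsSet_iff]
      obtain ⟨-, f2, f3⟩ := vecF_props j
      refine ⟨?_, ?_, ?_⟩
      · have e1 := hg0.2 (g0.symm b)
        rw [Equiv.apply_symm_apply, hb] at e1
        rw [← e1]
        exact f2
      · have e1 := co0_dot hg0 (-w) (g0.symm b)
        rw [Equiv.apply_symm_apply, hgu, hb] at e1
        rw [← e1]
        exact f3
      · have e1 := co0_dot hg0 (v + w) (g0.symm b)
        rw [Equiv.apply_symm_apply, hgm, hb] at e1
        rw [← e1, dot_vecM0, vecF_some, vecF_none, if_neg (Ne.symm hj)]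
        norm_num
  have e : k = g0⁻¹ * (g0 * k * g0⁻¹) * g0 := by group
  rw [e, h1']
  group

/-- The orbit of a vector of the set is the whole set. -/
theorem hs_orbit {v w x : leechLattice} (hv : sqNorm (v : GolayPt → ℤ) = 48)
    (hw : sqNorm (w : GolayPt → ℤ) = 48)
    (hvw : dotInt (v : GolayPt → ℤ) (w : GolayPt → ℤ) = -32) (hx : x ∈ hsSet v w) :
    MulAction.orbit ↥(MulAction.stabilizer ↥Co0 v ⊓ MulAction.stabilizer ↥Co0 w) x =
      hsSet v w := by
  ext y
  constructor
  · rintro ⟨g, rfl⟩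
    have gv : g.1.1 v = v := g.2.1
    have gw : g.1.1 w = w := g.2.2
    obtain ⟨a1, a2, a3⟩ := hx
    refine ⟨?_, ?_, ?_⟩
    · show sqNorm ((g.1.1 x : leechLattice) : GolayPt → ℤ) = 32
      rw [g.1.2.2, a1]
    · have e := co0_dot g.1.2 v x
      rw [gv] at e
      show dotInt (v : GolayPt → ℤ) ((g.1.1 x : leechLattice) : GolayPt → ℤ) = 24
      rw [e, a2]
    · have e := co0_dot g.1.2 w x
      rw [gw] at e
      show dotInt (w : GolayPt → ℤ) ((g.1.1 x : leechLattice) : GolayPt → ℤ) = -24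
      rw [e, a3]
  · intro hy
    obtain ⟨g, gv, gw, gx⟩ := hs_trans v w x y hv hw hvw hx hy
    exact ⟨⟨g, ⟨gv, gw⟩⟩, gx⟩

/-- Sets invariant under the stabiliser of a vector of the set. -/
theorem hs_inv {v w x : leechLattice} (hv : sqNorm (v : GolayPt → ℤ) = 48)
    (hw : sqNorm (w : GolayPt → ℤ) = 48)
    (hvw : dotInt (v : GolayPt → ℤ) (w : GolayPt → ℤ) = -32) (hx : x ∈ hsSet v w)
    (S : Set leechLattice) (hxS : x ∈ S) (hS : S ⊆ hsSet v w)
    (hinv : ∀ g : ↥Co0, g • v = v → g • w = w → g • x = x → ∀ s ∈ S, g • s ∈ S) :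
    S.ncard = 1 ∨ S.ncard = 23 ∨ S.ncard = 78 ∨ S.ncard = 100 := by
  obtain ⟨c22, c77, tr⟩ := hs_rank3 v w x hv hw hvw hx
  have a1 : sqNorm (x : GolayPt → ℤ) = 32 := hx.1
  refine inv_card (hs_card v w hv hw hvw) c22 c77 ?_ ?_ ?_ hS hxS ?_ ?_
  · intro y hy
    by_cases h : y = x
    · exact Or.inl h
    · by_cases h8 : dotInt (x : GolayPt → ℤ) (y : GolayPt → ℤ) = 8
      · exact Or.inr (Or.inl ⟨hy, h8⟩)
      · exact Or.inr (Or.inr ⟨hy, h, h8⟩)
  · rintro ⟨-, h8⟩
    rw [dotInt_self, a1] at h8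
    norm_num at h8
  · rintro ⟨-, h, -⟩
    exact h rfl
  · rintro y hy ⟨hyH, h8⟩ y' ⟨hyH', h8'⟩
    have hne : y ≠ x := by
      rintro rfl
      rw [dotInt_self, a1] at h8
      norm_num at h8
    have hne' : y' ≠ x := by
      rintro rfl
      rw [dotInt_self, a1] at h8'
      norm_num at h8'
    obtain ⟨g, gv, gw, gx, gy⟩ := tr y hyH y' hyH' hne hne' ⟨fun _ => h8', fun _ => h8⟩
    rw [← gy]
    exact hinv g gv gw gx y hy
  · rintro y hy ⟨hyH, hne, h8⟩ y' ⟨hyH', hne', h8'⟩
    obtain ⟨g, gv, gw, gx, gy⟩ := tr y hyH y' hyH' hne hne'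
      ⟨fun h => absurd h h8, fun h => absurd h h8'⟩
    rw [← gy]
    exact hinv g gv gw gx y hy

/-! ### The stabiliser of a vector of the set -/

theorem permPerm_coe (σ : Equiv.Perm GolayPt) (hσ : σ ∈ M24) (z : leechLattice) :
    ((permPerm σ hσ z : leechLattice) : GolayPt → ℤ) = signedPerm σ ∅ (z : GolayPt → ℤ) := by
  funext i
  unfold signedPerm
  rw [if_neg (Finset.notMem_empty i)]
  rfl

theorem permPerm_mul (σ τ : Equiv.Perm GolayPt) (hσ : σ ∈ M24) (hτ : τ ∈ M24) :
    permPerm (σ * τ) (M24.mul_mem hσ hτ) = permPerm σ hσ * permPerm τ hτ := by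
  apply Equiv.ext
  intro z
  rfl

theorem permPerm_one : permPerm 1 M24.one_mem = 1 := by
  apply Equiv.ext
  intro z
  rfl

theorem permPerm_inj {σ τ : Equiv.Perm GolayPt} {hσ : σ ∈ M24} {hτ : τ ∈ M24}
    (h : permPerm σ hσ = permPerm τ hτ) : σ = τ := by
  apply Equiv.ext
  intro i
  have e : ((permPerm σ hσ (axisVec i) : leechLattice) : GolayPt → ℤ) (σ i) =
      ((permPerm τ hτ (axisVec i) : leechLattice) : GolayPt → ℤ) (σ i) := by rw [h]
  rw [permPerm_apply, permPerm_apply, Equiv.symm_apply_apply] at e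
  have e' : (Pi.single i (8 : ℤ) : GolayPt → ℤ) i =
      (Pi.single i (8 : ℤ) : GolayPt → ℤ) (τ.symm (σ i)) := e
  rw [Pi.single_eq_same] at e'
  by_contra hne
  have h2 : τ.symm (σ i) ≠ i := fun h' => hne (by
    rw [Equiv.symm_apply_eq] at h'
    exact h')
  rw [Pi.single_eq_of_ne h2] at e'
  norm_num at e'

/-- Conjugates of coordinate permutations fixing `∞` and `0` fix `v`, `w` and `x`. -/
theorem hs_conj_fix {v w x : leechLattice} {g0 : Equiv.Perm leechLattice} (hg0 : g0 ∈ Co0)
    (hgu : ((g0 (-w) : leechLattice) : GolayPt → ℤ) = repD)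
    (hgm : ((g0 (v + w) : leechLattice) : GolayPt → ℤ) = vecM0)
    (hgx : ((g0 x : leechLattice) : GolayPt → ℤ) = Pi.single none 4 + Pi.single (some 0) 4)
    {σ : Equiv.Perm GolayPt} (hσ : σ ∈ M24) (s1 : σ none = none) (s2 : σ (some 0) = some 0) :
    (g0⁻¹ * permPerm σ hσ * g0) v = v ∧ (g0⁻¹ * permPerm σ hσ * g0) w = w ∧
      (g0⁻¹ * permPerm σ hσ * g0) x = x := by
  have hG : g0⁻¹ * permPerm σ hσ * g0 ∈ Co0 :=
    Co0.mul_mem (Co0.mul_mem (Co0.inv_mem hg0) (permPerm_mem σ hσ)) hg0
  have app : ∀ z, (g0⁻¹ * permPerm σ hσ * g0) z = g0.symm (permPerm σ hσ (g0 z)) := fun z => rfl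
  have f1 : permPerm σ hσ (g0 (-w)) = g0 (-w) := by
    apply Subtype.ext
    rw [permPerm_coe, hgu, mono_repD s1]
  have f2 : permPerm σ hσ (g0 (v + w)) = g0 (v + w) := by
    apply Subtype.ext
    rw [permPerm_coe, hgm]
    unfold vecM0
    rw [signedPerm_add, mono_single, mono_single, s1, s2]
  have f3 : permPerm σ hσ (g0 x) = g0 x := by
    apply Subtype.ext
    rw [permPerm_coe, hgx, signedPerm_add, mono_single, mono_single, s1, s2]
  have b1 : (g0⁻¹ * permPerm σ hσ * g0) (-w) = -w := by rw [app, f1, Equiv.symm_apply_apply]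
  have b2 : (g0⁻¹ * permPerm σ hσ * g0) (v + w) = v + w := by
    rw [app, f2, Equiv.symm_apply_apply]
  obtain ⟨c1, c2⟩ := fix_of_fix hG b1 b2
  refine ⟨c1, c2, ?_⟩
  rw [app, f3, Equiv.symm_apply_apply]

theorem pt23 : pt 23 = none := by decide

theorem pt0 : pt 0 = some 0 := by decide

theorem m22_fix (σ : ↥(M24 ⊓ fixing [0, 23])) :
    σ.1 none = none ∧ σ.1 (some 0) = some 0 := by
  have h1 := σ.2.2 23 (by simp)
  have h2 := σ.2.2 0 (by simp)
  rw [pt23] at h1
  rw [pt0] at h2
  exact ⟨h1, h2⟩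

/-- The homomorphism from the two-point stabiliser of the code group. -/
noncomputable def hsHom {v w x : leechLattice} {g0 : Equiv.Perm leechLattice} (hg0 : g0 ∈ Co0)
    (hgu : ((g0 (-w) : leechLattice) : GolayPt → ℤ) = repD)
    (hgm : ((g0 (v + w) : leechLattice) : GolayPt → ℤ) = vecM0)
    (hgx : ((g0 x : leechLattice) : GolayPt → ℤ) = Pi.single none 4 + Pi.single (some 0) 4) :
    ↥(M24 ⊓ fixing [0, 23]) →*
      ↥(MulAction.stabilizer
        ↥(MulAction.stabilizer ↥Co0 v ⊓ MulAction.stabilizer ↥Co0 w) x) where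
  toFun σ := ⟨⟨⟨g0⁻¹ * permPerm σ.1 σ.2.1 * g0,
      Co0.mul_mem (Co0.mul_mem (Co0.inv_mem hg0) (permPerm_mem σ.1 σ.2.1)) hg0⟩,
      ⟨(hs_conj_fix hg0 hgu hgm hgx σ.2.1 (m22_fix σ).1 (m22_fix σ).2).1,
        (hs_conj_fix hg0 hgu hgm hgx σ.2.1 (m22_fix σ).1 (m22_fix σ).2).2.1⟩⟩,
      (hs_conj_fix hg0 hgu hgm hgx σ.2.1 (m22_fix σ).1 (m22_fix σ).2).2.2⟩
  map_one' := by
    apply Subtype.ext
    apply Subtype.ext
    apply Subtype.ext
    show g0⁻¹ * permPerm 1 _ * g0 = 1
    rw [permPerm_one]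
    group
  map_mul' σ τ := by
    apply Subtype.ext
    apply Subtype.ext
    apply Subtype.ext
    show g0⁻¹ * permPerm (σ.1 * τ.1) _ * g0 =
      (g0⁻¹ * permPerm σ.1 σ.2.1 * g0) * (g0⁻¹ * permPerm τ.1 τ.2.1 * g0)
    rw [permPerm_mul σ.1 τ.1 σ.2.1 τ.2.1]
    group

theorem hsHom_val {v w x : leechLattice} {g0 : Equiv.Perm leechLattice} (hg0 : g0 ∈ Co0)
    (hgu : ((g0 (-w) : leechLattice) : GolayPt → ℤ) = repD)
    (hgm : ((g0 (v + w) : leechLattice) : GolayPt → ℤ) = vecM0)
    (hgx : ((g0 x : leechLattice) : GolayPt → ℤ) = Pi.single none 4 + Pi.single (some 0) 4)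
    (σ : ↥(M24 ⊓ fixing [0, 23])) :
    ((hsHom hg0 hgu hgm hgx σ).1.1.1 : Equiv.Perm leechLattice) =
      g0⁻¹ * permPerm σ.1 σ.2.1 * g0 := rfl

theorem hsHom_injective {v w x : leechLattice} {g0 : Equiv.Perm leechLattice} (hg0 : g0 ∈ Co0)
    (hgu : ((g0 (-w) : leechLattice) : GolayPt → ℤ) = repD)
    (hgm : ((g0 (v + w) : leechLattice) : GolayPt → ℤ) = vecM0)
    (hgx : ((g0 x : leechLattice) : GolayPt → ℤ) = Pi.single none 4 + Pi.single (some 0) 4) :
    Function.Injective (hsHom hg0 hgu hgm hgx) := by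
  intro σ τ h
  have e : ((hsHom hg0 hgu hgm hgx σ).1.1.1 : Equiv.Perm leechLattice) =
      (hsHom hg0 hgu hgm hgx τ).1.1.1 := by rw [h]
  rw [hsHom_val, hsHom_val] at e
  exact Subtype.ext (permPerm_inj (mul_left_cancel (mul_right_cancel e)))

/-- An automorphism fixing `v`, `w` and `x` is the conjugate of a coordinate permutation. -/
theorem hs_stab_form {v w x : leechLattice} {g0 : Equiv.Perm leechLattice} (hg0 : g0 ∈ Co0)
    (hgu : ((g0 (-w) : leechLattice) : GolayPt → ℤ) = repD)
    (hgm : ((g0 (v + w) : leechLattice) : GolayPt → ℤ) = vecM0)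
    (hgx : ((g0 x : leechLattice) : GolayPt → ℤ) = Pi.single none 4 + Pi.single (some 0) 4)
    {kk : Equiv.Perm leechLattice} (hk : kk ∈ Co0) (kv : kk v = v) (kw : kk w = w)
    (kx : kk x = x) :
    ∃ (σ : Equiv.Perm GolayPt) (hσ : σ ∈ M24), σ none = none ∧ σ (some 0) = some 0 ∧
      kk = g0⁻¹ * permPerm σ hσ * g0 := by
  classical
  have hh : g0 * kk * g0⁻¹ ∈ Co0 := Co0.mul_mem (Co0.mul_mem hg0 hk) (Co0.inv_mem hg0)
  have app : ∀ b, kk b = b → (g0 * kk * g0⁻¹) (g0 b) = g0 b := by
    intro b hb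
    show g0 (kk (g0.symm (g0 b))) = g0 b
    rw [Equiv.symm_apply_apply, hb]
  have ku : kk (-w) = -w := by rw [co0_map_neg hk, kw]
  have km : kk (v + w) = v + w := by rw [hk.1, kv, kw]
  have hu := app _ ku
  have hm := app _ km
  have hx := app _ kx
  have eax : axisVec none = g0 x - g0 (v + w) := by
    apply Subtype.ext
    show (Pi.single none 8 : GolayPt → ℤ) =
      ((g0 x : leechLattice) : GolayPt → ℤ) - ((g0 (v + w) : leechLattice) : GolayPt → ℤ)
    rw [hgx, hgm]
    unfold vecM0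
    funext i
    simp only [Pi.add_apply, Pi.sub_apply, Pi.single_apply]
    split_ifs <;> norm_num
  have hax : (g0 * kk * g0⁻¹) (axisVec none) = axisVec none := by
    rw [eax, co0_map_sub hh, hx, hm]
  have hcross := stab_le_crossSub
    (show (⟨g0 * kk * g0⁻¹, hh⟩ : ↥Co0) ∈ MulAction.stabilizer ↥Co0 (axisVec none) from hax)
  obtain ⟨σ, hσ, c, hc, hform⟩ := monomial_of_cross hh hcross
  have eu : signedPerm σ c repD = repD := by
    have e := hform (g0 (-w))
    rw [hu, hgu] at e
    exact e.symm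
  have ex : signedPerm σ c (Pi.single none 4 + Pi.single (some 0) 4) =
      Pi.single none 4 + Pi.single (some 0) 4 := by
    have e := hform (g0 x)
    rw [hx, hgx] at e
    exact e.symm
  have hpos : ∀ q, 0 < repD q := by
    intro q
    unfold repD
    split_ifs <;> norm_num
  have hcE : ∀ i, i ∉ c := by
    intro i hi
    have e := congrFun eu i
    unfold signedPerm at e
    rw [if_pos hi] at e
    have p1 := hpos (σ.symm i)
    have p2 := hpos i
    omega
  have s1 : σ none = none := by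
    have e := congrFun eu none
    unfold signedPerm at e
    rw [if_neg (hcE none)] at e
    have e2 : σ.symm none = none := by
      by_contra hne
      unfold repD at e
      rw [if_neg hne, if_pos rfl] at e
      norm_num at e
    rw [← e2, Equiv.apply_symm_apply, e2]
  have s2 : σ (some 0) = some 0 := by
    have e := congrFun ex (σ (some 0))
    unfold signedPerm at e
    rw [if_neg (hcE _), Equiv.symm_apply_apply] at e
    have hne : σ (some 0) ≠ none := by
      intro h
      rw [← s1] at h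
      exact (none_ne_some 0) (σ.injective h).symm
    by_contra hne0
    simp only [Pi.add_apply, Pi.single_apply] at e
    rw [if_neg hne, if_neg hne0] at e
    simp at e
  refine ⟨σ, hσ, s1, s2, ?_⟩
  have hperm : g0 * kk * g0⁻¹ = permPerm σ hσ := by
    apply Equiv.ext
    intro z
    apply Subtype.ext
    rw [hform, permPerm_coe]
    funext i
    unfold signedPerm
    rw [if_neg (hcE i), if_neg (Finset.notMem_empty i)]
  rw [← hperm]
  group

theorem hsHom_surjective {v w x : leechLattice} {g0 : Equiv.Perm leechLattice} (hg0 : g0 ∈ Co0)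
    (hgu : ((g0 (-w) : leechLattice) : GolayPt → ℤ) = repD)
    (hgm : ((g0 (v + w) : leechLattice) : GolayPt → ℤ) = vecM0)
    (hgx : ((g0 x : leechLattice) : GolayPt → ℤ) = Pi.single none 4 + Pi.single (some 0) 4) :
    Function.Surjective (hsHom hg0 hgu hgm hgx) := by
  intro k
  obtain ⟨σ, hσ, s1, s2, e⟩ := hs_stab_form hg0 hgu hgm hgx (kk := k.1.1.1) k.1.1.2 k.1.2.1
    k.1.2.2 k.2
  refine ⟨⟨σ, hσ, mem_fixing_pair (by rw [pt23]; exact s1) (by rw [pt0]; exact s2)⟩, ?_⟩
  apply Subtype.ext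
  apply Subtype.ext
  apply Subtype.ext
  rw [hsHom_val]
  exact e.symm

/-- The stabiliser of a vector of the set is simple of order 443520. -/
theorem hs_stab {v w x : leechLattice} (hv : sqNorm (v : GolayPt → ℤ) = 48)
    (hw : sqNorm (w : GolayPt → ℤ) = 48)
    (hvw : dotInt (v : GolayPt → ℤ) (w : GolayPt → ℤ) = -32) (hx : x ∈ hsSet v w) :
    IsSimpleGroup ↥(MulAction.stabilizer
        ↥(MulAction.stabilizer ↥Co0 v ⊓ MulAction.stabilizer ↥Co0 w) x) ∧
      Nat.card ↥(MulAction.stabilizer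
        ↥(MulAction.stabilizer ↥Co0 v ⊓ MulAction.stabilizer ↥Co0 w) x) = 443520 := by
  obtain ⟨h1, h2, h3⟩ := hs_setup v w hv hw hvw
  obtain ⟨a1, a2, a3⟩ := (hsSet_iff v w x).mp hx
  obtain ⟨g0, hg0, hgu, hgm, hgx⟩ := hs_triple (-w) (v + w) x h1 h2 a1 h3 a2 a3
  have e := MulEquiv.ofBijective (hsHom hg0 hgu hgm hgx)
    ⟨hsHom_injective hg0 hgu hgm hgx, hsHom_surjective hg0 hgu hgm hgx⟩
  have := isSimpleGroup_M22
  exact ⟨e.symm.isSimpleGroup, by rw [← Nat.card_congr e.toEquiv, card_M22]⟩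

/-- The stabiliser of `v` and `w` is simple of order 44352000. -/
theorem hs_main (v w : leechLattice) (hv : sqNorm (v : GolayPt → ℤ) = 48)
    (hw : sqNorm (w : GolayPt → ℤ) = 48)
    (hvw : dotInt (v : GolayPt → ℤ) (w : GolayPt → ℤ) = -32) :
    IsSimpleGroup ↥(MulAction.stabilizer ↥Co0 v ⊓ MulAction.stabilizer ↥Co0 w) ∧
      Nat.card ↥(MulAction.stabilizer ↥Co0 v ⊓ MulAction.stabilizer ↥Co0 w) = 44352000 := by
  have hcard := hs_card v w hv hw hvw
  obtain ⟨x, hx⟩ : (hsSet v w).Nonempty :=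
    Set.nonempty_of_ncard_ne_zero (by rw [hcard]; norm_num)
  have hfin : Finite ↥Co0 := Nat.finite_of_card_ne_zero (by rw [card_co0]; norm_num)
  have horb := hs_orbit hv hw hvw hx
  obtain ⟨hKs, hKc⟩ := hs_stab hv hw hvw hx
  have hG : Nat.card ↥(MulAction.stabilizer ↥Co0 v ⊓ MulAction.stabilizer ↥Co0 w) =
      44352000 := by
    have h1 := Subgroup.index_mul_card (MulAction.stabilizer
      ↥(MulAction.stabilizer ↥Co0 v ⊓ MulAction.stabilizer ↥Co0 w) x)
    rw [MulAction.index_stabilizer, horb, hcard, hKc] at h1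
    rw [← h1]
  refine ⟨simple_rank3 x ?_ hKs hKc ?_ hG, hG⟩
  · intro n hn
    apply Subtype.ext
    apply Subtype.ext
    show (n.1.1 : Equiv.Perm leechLattice) = 1
    apply hs_faithful hv hw hvw hx n.1.2 n.2.1 n.2.2
    intro y hy
    obtain ⟨g, gv, gw, gx⟩ := hs_trans v w x y hv hw hvw hx hy
    have e := hn ⟨g, ⟨gv, gw⟩⟩
    rw [← gx]
    exact e
  · intro S hxS hSo hK
    rw [horb] at hSo
    apply hs_inv hv hw hvw hx S hxS hSo
    intro g gv gw gx s hs
    exact hK ⟨g, ⟨gv, gw⟩⟩ gx s hs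

end Cfsg.Agent.Lib.Helper10
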