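import Mathlib
import Cfsg.Prelude.Def_LocalStructure
import Cfsg.Agent.Lib.Helper6.PSLCard

set_option autoImplicit false

namespace Cfsg.Agent.Lib.Helper10.PC

open Cfsg

/-- PC-CARD -/
theorem card_psl2_bound (F : Type) [Field F] [Fintype F] (p : ℕ) (hp : p.Prime) (hp5 : 5 ≤ p)
    (hF : Fintype.card F = p ∨ ∃ m : ℕ, Fintype.card F = 2 ^ m ∧ p = 2 ^ m + 1) :
    p * (p ^ 2 - 1) / 2 ≤ Nat.card (Matrix.ProjectiveSpecialLinearGroup (Fin 2) F) := by
  rcases hF with hF | ⟨m, hF, hpm⟩
  · have hodd : p % 2 = 1 := by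
      rcases hp.eq_two_or_odd with h | h
      · omega
      · exact h
    have hcard0 := Cfsg.Agent.Lib.Helper6.card_psl (F := F) hF 2 (by norm_num)
    rw [Fin.prod_univ_two] at hcard0
    simp only [Fin.val_zero, Fin.val_one, pow_zero, pow_one] at hcard0
    have hg : Nat.gcd 2 (p - 1) = 2 := Nat.gcd_eq_left (by omega)
    rw [hg] at hcard0
    have h2N : 2 * Nat.card (Matrix.ProjectiveSpecialLinearGroup (Fin 2) F) =
        p * (p ^ 2 - 1) := by
      have e1 : p ^ 2 - p = p * (p - 1) := by rw [pow_two, Nat.mul_sub_one]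
      rw [e1] at hcard0
      have hpos : 0 < p - 1 := by omega
      apply Nat.eq_of_mul_eq_mul_left hpos
      calc (p - 1) * (2 * Nat.card (Matrix.ProjectiveSpecialLinearGroup (Fin 2) F))
          = 2 * ((p - 1) * Nat.card (Matrix.ProjectiveSpecialLinearGroup (Fin 2) F)) := by
            ring
        _ = (p ^ 2 - 1) * (p * (p - 1)) := hcard0
        _ = (p - 1) * (p * (p ^ 2 - 1)) := by ring
    exact le_of_eq (Nat.div_eq_of_eq_mul_right two_pos h2N.symm)
  · -- q = 2^m = p - 1
    have hcard0 := Cfsg.Agent.Lib.Helper6.card_psl (F := F) hF 2 (by norm_num)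
    rw [Fin.prod_univ_two] at hcard0
    simp only [Fin.val_zero, Fin.val_one, pow_zero, pow_one] at hcard0
    set q := 2 ^ m with hq
    have hq4 : 4 ≤ q := by omega
    have hm1 : 1 ≤ m := by
      rcases Nat.eq_zero_or_pos m with h | h
      · rw [h] at hq; simp at hq; omega
      · exact h
    have hqeven : q % 2 = 0 := by
      obtain ⟨k, rfl⟩ := Nat.exists_eq_add_of_le hm1
      rw [hq, pow_add]; simp
    have hg : Nat.gcd 2 (q - 1) = 1 := by
      have h1 : (q - 1) % 2 = 1 := by omega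
      have h2 : Nat.Coprime 2 (q - 1) :=
        (Nat.Prime.coprime_iff_not_dvd Nat.prime_two).mpr (by omega)
      exact h2
    rw [hg, one_mul] at hcard0
    have hN : Nat.card (Matrix.ProjectiveSpecialLinearGroup (Fin 2) F) = q * (q ^ 2 - 1) := by
      have e1 : q ^ 2 - q = q * (q - 1) := by rw [pow_two, Nat.mul_sub_one]
      rw [e1] at hcard0
      have hpos : 0 < q - 1 := by omega
      apply Nat.eq_of_mul_eq_mul_left hpos
      rw [hcard0]; ring
    rw [hN, hpm]
    apply Nat.div_le_of_le_mul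
    obtain ⟨r, hr⟩ : ∃ r, q = r + 4 := ⟨q - 4, by omega⟩
    rw [hr]
    have e2 : (r + 4 + 1) ^ 2 - 1 = (r + 4) * (r + 6) := by
      apply Nat.sub_eq_of_eq_add; ring
    have e3 : (r + 4) ^ 2 - 1 = (r + 3) * (r + 5) := by
      apply Nat.sub_eq_of_eq_add; ring
    rw [e2, e3]
    nlinarith [Nat.zero_le r, Nat.zero_le (r * r), Nat.zero_le (r * r * r)]

end Cfsg.Agent.Lib.Helper10.PC
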