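import Mathlib
import Cfsg.Prelude.Def_LocalStructure
import Cfsg.Agent.S3868

set_option autoImplicit false

namespace Cfsg.Agent.Lib.Helper10.PC

open Cfsg

/-- PC-NS -/
theorem nonsimple_card (p : ℕ) [Fact p.Prime] (H : Type) [Group H] [Finite H]
    (hH : ¬ IsPClosed p H) (hsub : ∀ K : Subgroup H, K ≠ ⊤ → IsPClosed p K)
    (hquo : ∀ (K : Subgroup H) [K.Normal], K ≠ ⊥ → IsPClosed p (H ⧸ K))
    (hns : ¬ IsSimpleGroup H) :
    ∃ q a : ℕ, q.Prime ∧ 0 < a ∧ q ^ a % p = 1 ∧ Nat.card H = p * q ^ a := by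
  have hpp : p.Prime := Fact.out
  obtain ⟨q, hq, hqp, hcard, -⟩ := Cfsg.Agent.S3868.result hH hsub hquo hns
  have hunit : IsUnit ((q : ℕ) : ZMod p) := by
    rw [ZMod.isUnit_iff_coprime]
    exact (Nat.coprime_primes hq hpp).mpr hqp
  have hpos : 0 < orderOf ((q : ℕ) : ZMod p) := by
    obtain ⟨u, hu⟩ := hunit
    rw [← hu, orderOf_units]
    exact orderOf_pos u
  refine ⟨q, orderOf ((q : ℕ) : ZMod p), hq, hpos, ?_, hcard⟩
  have h1 : ((q : ℕ) : ZMod p) ^ orderOf ((q : ℕ) : ZMod p) = 1 := pow_orderOf_eq_one _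
  have h2 : ((q ^ orderOf ((q : ℕ) : ZMod p) : ℕ) : ZMod p) = ((1 : ℕ) : ZMod p) := by
    push_cast
    exact h1
  have h3 := (ZMod.natCast_eq_natCast_iff _ _ _).mp h2
  have h4 : 1 % p = 1 := Nat.mod_eq_of_lt hpp.one_lt
  unfold Nat.ModEq at h3
  rw [h3, h4]

end Cfsg.Agent.Lib.Helper10.PC
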