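import Mathlib
import Cfsg.Prelude.Def_LocalStructure
import Cfsg.Agent.S0999

set_option autoImplicit false

namespace Cfsg.Agent.Lib.Helper10.PC

open Cfsg

/-- PC-SIMPLE -/
theorem simple_bound_of (p : ℕ) [Fact p.Prime] (hp : p ≠ 2) (H : Type) [Group H] [Finite H]
    [IsSimpleGroup H] (hH : ¬ IsPClosed p H)
    (hcard : ∀ (F : Type) [Field F] [Fintype F], 5 ≤ p →
      (Fintype.card F = p ∨ ∃ m : ℕ, Fintype.card F = 2 ^ m ∧ p = 2 ^ m + 1) →
      p * (p ^ 2 - 1) / 2 ≤ Nat.card (Matrix.ProjectiveSpecialLinearGroup (Fin 2) F)) :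
    p * (p ^ 2 - 1) / 2 ≤ Nat.card H := by
  have hpp : p.Prime := Fact.out
  have hnc : ¬ IsCyclic H := by
    intro hc
    apply hH
    intro P
    haveI : IsMulCommutative H := IsCyclic.isMulCommutative
    letI : CommGroup H := { ‹Group H› with mul_comm := fun a b => mul_comm' a b }
    exact Subgroup.normal_of_comm _
  have hdvd : p ∣ Nat.card H := by
    by_contra hnd
    apply hH
    intro P
    have hP : (P : Subgroup H) = ⊥ := by
      obtain ⟨n, hn⟩ := IsPGroup.iff_card.mp P.isPGroup'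
      have hdiv : Nat.card (P : Subgroup H) ∣ Nat.card H := Subgroup.card_subgroup_dvd_card _
      rcases Nat.eq_zero_or_pos n with h0 | h0
      · rw [h0, pow_zero] at hn
        exact Subgroup.card_eq_one.mp hn
      · exfalso
        apply hnd
        refine dvd_trans ?_ hdiv
        rw [hn]
        exact dvd_pow_self p h0.ne'
    rw [hP]
    infer_instance
  by_cases hbig : Nat.card H < p ^ 3
  · have h5 : 3 < p → 5 ≤ p := by
      intro h3
      have h4 : p ≠ 4 := by rintro rfl; exact absurd hpp (by decide)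
      omega
    rcases Cfsg.Agent.S0999.result hnc p hpp hdvd hbig with ⟨F, i1, i2, hF, h3, ⟨e⟩⟩ |
        ⟨m, F, i1, i2, hF, hpm, h3, ⟨e⟩⟩
    · rw [Nat.card_congr e.toEquiv]
      exact hcard F (h5 h3) (Or.inl hF)
    · rw [Nat.card_congr e.toEquiv]
      exact hcard F (h5 h3) (Or.inr ⟨m, hF, hpm⟩)
  · push_neg at hbig
    refine le_trans ?_ hbig
    refine le_trans (Nat.div_le_self _ _) ?_
    have : p ^ 3 = p * p ^ 2 := by ring
    rw [this]
    exact Nat.mul_le_mul_left p (Nat.sub_le _ _)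

end Cfsg.Agent.Lib.Helper10.PC
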