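import Mathlib
import Cfsg.Agent.Lib.Helper63.PCIND
import Cfsg.Agent.Lib.Helper42.PCEXA
import Cfsg.Agent.Lib.Helper42.PCEXP
import Cfsg.Agent.Lib.Helper10.PCNS
import Cfsg.Agent.Lib.Helper10.PCCARD
import Cfsg.Agent.Lib.Helper10.PCSIMPLE

set_option autoImplicit false

namespace Cfsg.Agent.Lib.Helper10.PC

open Cfsg

theorem main (p : ℕ) [Fact p.Prime] (hp : p ≠ 2) (m : ℕ) (hm : IsPrimePow m) (hm1 : m % p = 1)
    (hleast : ∀ k : ℕ, IsPrimePow k → k % p = 1 → m ≤ k) :
    (∀ (H : Type) [Group H] [Finite H], ¬ Cfsg.IsPClosed p H →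
      min (p * m) (p * (p ^ 2 - 1) / 2) ≤ Nat.card H) ∧
    ∃ (H : Type) (_ : Group H) (_ : Finite H),
      Nat.card H = min (p * m) (p * (p ^ 2 - 1) / 2) ∧ ¬ Cfsg.IsPClosed p H := by
  have hpp : p.Prime := Fact.out
  refine ⟨?_, ?_⟩
  · intro H _ _ hH
    refine lower_of_minimal p _ ?_ H hH
    intro H _ _ hH hsub hquo
    by_cases hs : IsSimpleGroup H
    · exact le_trans (min_le_right _ _)
        (simple_bound_of p hp H hH (fun F _ _ h5 hF => card_psl2_bound F p hpp h5 hF))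
    · obtain ⟨q, a, hq, ha, hqa, hcard⟩ := nonsimple_card p H hH hsub hquo hs
      have hle : m ≤ q ^ a := hleast _ ⟨q, a, hq.prime, ha, rfl⟩ hqa
      rw [hcard]
      exact le_trans (min_le_left _ _) (Nat.mul_le_mul_left p hle)
  · obtain ⟨q, a, hq, ha, rfl⟩ := hm
    by_cases hle : p * q ^ a ≤ p * (p ^ 2 - 1) / 2
    · obtain ⟨H, i1, i2, hc, hn⟩ := exists_affine p q a hq.nat_prime ha hm1
      exact ⟨H, i1, i2, by rw [hc, min_eq_left hle], hn⟩
    · have hp5 : 5 ≤ p := by
        by_contra h5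
        have h2 := hpp.two_le
        have hp3 : p = 3 := by
          have h4 : p ≠ 4 := by rintro rfl; exact absurd hpp (by decide)
          omega
        subst hp3
        have h4 := hleast 4 ⟨2, 2, Nat.prime_two.prime, by norm_num, by norm_num⟩ (by norm_num)
        apply hle
        norm_num
        omega
      obtain ⟨H, i1, i2, hc, hn⟩ := exists_psl p hp5
      exact ⟨H, i1, i2, by rw [hc, min_eq_right (le_of_lt (not_le.mp hle))], hn⟩

end Cfsg.Agent.Lib.Helper10.PC
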