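import Mathlib
import Cfsg.Agent.Lib.Helper52.SP8EBDefs

/-!
# Piece MINA of SP8-EB (helper52, S5823)

If one factor of a transported pure tensor `x ∈ L'` is not `± 1`, then `L'` contains the whole
quaternion factor at that position.
-/

set_option autoImplicit false

namespace Cfsg.Agent.Lib.Helper52.SP8EB

open Matrix Cfsg.Geo Cfsg.Agent.Lib.Helper71.Asch

variable {n : ℕ} {F : Type*} [Field F] [Fintype F]

omit [Fintype F] in
/-- invertible one-factor elements -/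
theorem mina_glof (e : Fin n ≃ (Fin 3 → Fin 2)) (P : GL (Fin n) F) (hglof : HGlof e P)
    (i₀ : Fin 3) (g h : Matrix (Fin 2) (Fin 2) F) (hgh : g * h = 1) :
    ∃ G₁ : GL (Fin n) F, G₁.1 = tw e P (iota i₀ g) ∧
      (G₁⁻¹ : GL (Fin n) F).1 = tw e P (iota i₀ h) := by
  obtain ⟨G₁, h1, h2⟩ := hglof (Function.update (fun _ => 1) i₀ g)
    (Function.update (fun _ => 1) i₀ h) (by
      intro i
      by_cases hi : i = i₀
      · rw [hi, Function.update_self, Function.update_self, hgh]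
      · rw [Function.update_of_ne hi, Function.update_of_ne hi, one_mul])
  exact ⟨G₁, by rw [h1, iota_eq_pt], by rw [h2, iota_eq_pt]⟩

omit [Fintype F] in
/-- one-factor elements of determinant one lie in `G` -/
theorem mina_gsub (f : (Fin n → F) → (Fin n → F) → F) (e : Fin n ≃ (Fin 3 → Fin 2))
    (P : GL (Fin n) F) (hpg : HPureG f e P) (i₀ : Fin 3) (g : Matrix (Fin 2) (Fin 2) F)
    (hdet : g.det = 1) (G₁ : GL (Fin n) F) (hG₁ : G₁.1 = tw e P (iota i₀ g)) :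
    G₁ ∈ Gsub f e P := by
  refine hpg (Function.update (fun _ => 1) i₀ g) (fun i => ?_) G₁ (by rw [hG₁, iota_eq_pt])
  by_cases hi : i = i₀
  · rw [hi, Function.update_self]
    exact hdet
  · rw [Function.update_of_ne hi]
    exact det_one

/-- MINA. -/
theorem MINA (f : (Fin n → F) → (Fin n → F) → F) (e : Fin n ≃ (Fin 3 → Fin 2)) (P : GL (Fin n) F)
    (hgen : HQgen F) (hmul : HQmul F) (hinv : HQinv F) (hconj : HQconj F) (hglof : HGlof e P)
    (hpg : HPureG f e P) (L' : Subgroup (GL (Fin n) F)) (hN : Nrm (Gsub f e P) L')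
    (cs : Fin 3 → Matrix (Fin 2) (Fin 2) F) (hcs : ∀ i, IsQ (cs i)) (x : GL (Fin n) F)
    (hx : x ∈ L') (hxe : x.1 = tw e P (pt cs)) (i₀ : Fin 3) (h1 : cs i₀ ≠ 1) (h2 : cs i₀ ≠ -1) :
    HasFactor e P L' i₀ := by
  intro y hy g hg
  have key := hgen (cs i₀) (hcs i₀) h1 h2
    {y | IsQ y ∧ ∀ g : GL (Fin n) F, g.1 = tw e P (iota i₀ y) → g ∈ L'} ?_ ?_ ?_ y hy
  · exact key.2 g hg
  · -- products
    rintro y₁ ⟨hy₁, hy₁'⟩ y₂ ⟨hy₂, hy₂'⟩
    refine ⟨hmul y₁ y₂ hy₁ hy₂, fun g hg => ?_⟩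
    obtain ⟨z₁, -, hz₁, -⟩ := hinv y₁ hy₁
    obtain ⟨z₂, -, hz₂, -⟩ := hinv y₂ hy₂
    obtain ⟨g₁, hg₁, -⟩ := mina_glof e P hglof i₀ y₁ z₁ hz₁
    obtain ⟨g₂, hg₂, -⟩ := mina_glof e P hglof i₀ y₂ z₂ hz₂
    have hgg : g = g₁ * g₂ := Units.ext (by rw [Units.val_mul, hg, hg₁, hg₂, tw_mul, iota_mul])
    rw [hgg]
    exact L'.mul_mem (hy₁' g₁ hg₁) (hy₂' g₂ hg₂)
  · -- conjugation
    rintro y₁ ⟨hy₁, hy₁'⟩ gm hm hdet hgh
    refine ⟨hconj y₁ hy₁ gm hm hgh, fun g hg => ?_⟩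
    obtain ⟨z₁, -, hz₁, -⟩ := hinv y₁ hy₁
    obtain ⟨g₁, hg₁, -⟩ := mina_glof e P hglof i₀ y₁ z₁ hz₁
    obtain ⟨G₁, hG₁, hG₁'⟩ := mina_glof e P hglof i₀ gm hm hgh
    have hG₁mem : G₁ ∈ Gsub f e P := mina_gsub f e P hpg i₀ gm hdet G₁ hG₁
    have hgg : g = G₁ * g₁ * G₁⁻¹ := Units.ext (by
      rw [Units.val_mul, Units.val_mul, hg, hG₁, hg₁, hG₁', tw_mul, tw_mul, iota_mul, iota_mul])
    rw [hgg]
    exact hN G₁ hG₁mem g₁ (hy₁' g₁ hg₁)
  · -- commutators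
    intro a' gm hm haa' hdet hgh
    obtain ⟨a'', ha''Q, -, ha''2⟩ := hinv (cs i₀) (hcs i₀)
    have ha'eq : a' = a'' := by
      calc a' = (a'' * cs i₀) * a' := by rw [ha''2, one_mul]
        _ = a'' * (cs i₀ * a') := by rw [mul_assoc]
        _ = a'' := by rw [haa', mul_one]
    have ha'Q : IsQ a' := by rw [ha'eq]; exact ha''Q
    have hQ : IsQ (a' * (gm * cs i₀ * hm)) :=
      hmul _ _ ha'Q (hconj (cs i₀) (hcs i₀) gm hm hgh)
    refine ⟨hQ, fun g hg => ?_⟩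
    choose ds hds using fun i => hinv (cs i) (hcs i)
    have hdsi₀ : ds i₀ = a' := by
      calc ds i₀ = ds i₀ * (cs i₀ * a') := by rw [haa', mul_one]
        _ = (ds i₀ * cs i₀) * a' := by rw [mul_assoc]
        _ = a' := by rw [(hds i₀).2.2, one_mul]
    obtain ⟨X, hX, hX'⟩ := hglof cs ds (fun i => (hds i).2.1)
    have hXx : X = x := Units.ext (by rw [hX, hxe])
    rw [hXx] at hX'
    obtain ⟨G₁, hG₁, hG₁'⟩ := mina_glof e P hglof i₀ gm hm hgh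
    have hG₁mem : G₁ ∈ Gsub f e P := mina_gsub f e P hpg i₀ gm hdet G₁ hG₁
    have hmem : x⁻¹ * (G₁ * x * G₁⁻¹) ∈ L' :=
      L'.mul_mem (L'.inv_mem hx) (hN G₁ hG₁mem x hx)
    have hgg : g = x⁻¹ * (G₁ * x * G₁⁻¹) := Units.ext (by
      rw [Units.val_mul, Units.val_mul, Units.val_mul, hg, hX', hG₁, hxe, hG₁', tw_mul, tw_mul,
        tw_mul, iota_eq_pt, iota_eq_pt, iota_eq_pt, pt_mul, pt_mul, pt_mul]
      congr 2
      funext i
      by_cases hi : i = i₀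
      · rw [hi]
        simp only [Function.update_self]
        rw [hdsi₀]
      · simp only [Function.update_of_ne hi]
        rw [one_mul, mul_one, (hds i).2.2])
    rw [hgg]
    exact hmem

end Cfsg.Agent.Lib.Helper52.SP8EB
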