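import Mathlib
import Cfsg.Agent.Lib.Helper4.TPDefs
import Cfsg.Agent.S0040
import Cfsg.Agent.S0016

/-! Project TP (helper4, S4033), piece N4D. -/

set_option autoImplicit false

namespace Cfsg.Agent.Lib.Helper4.TP

universe u

/-- Sylow `l`-subgroups of `K` are cyclic for odd `l ≠ s` (from N4B). -/
theorem n4d_helper10_cyc (hB : N4BStmt.{u}) (A : Type u) [CommGroup A] [Finite A]
    (K : Subgroup (MulAut A)) (s l : ℕ) (hs : s.Prime) (hl : l.Prime) (hls : l ≠ s) (hl2 : l ≠ 2)
    (hSF : SameFix K) (hM : Moves K s) (P : Sylow l ↥K) : IsCyclic ↥(P : Subgroup ↥K) := by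
  haveI : Fact l.Prime := ⟨hl⟩
  have hΓ : ∀ B : Subgroup ↥(P : Subgroup ↥K), IsMulCommutative B → IsCyclic B := by
    intro B hBc
    let f : ↥(P : Subgroup ↥K) →* MulAut A := K.subtype.comp (P : Subgroup ↥K).subtype
    have hf : Function.Injective f :=
      K.subtype_injective.comp (Subgroup.subtype_injective _)
    have hB'K : B.map f ≤ K := by
      rintro _ ⟨x, hx, rfl⟩
      exact x.1.2
    have hcard : Nat.card (B.map f) = Nat.card B := Subgroup.card_map_of_injective hf
    have hBp : IsPGroup l B := (P.2.to_subgroup B)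
    obtain ⟨n, hn⟩ := IsPGroup.iff_card.mp hBp
    have hcop : (Nat.card (B.map f)).Coprime s := by
      rw [hcard, hn]
      exact Nat.Coprime.pow_left n ((Nat.coprime_primes hl hs).mpr hls)
    have hab : ∀ x ∈ B.map f, ∀ y ∈ B.map f, x * y = y * x := by
      rintro _ ⟨x, hx, rfl⟩ _ ⟨y, hy, rfl⟩
      rw [← map_mul, ← map_mul]
      congr 1
      have h1 := hBc.is_comm.comm ⟨x, hx⟩ ⟨y, hy⟩
      exact congrArg Subtype.val h1
    have hcyc : IsCyclic (B.map f) := hB A K s hs hSF hM (B.map f) hB'K hcop hab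
    exact (MulEquiv.isCyclic (Subgroup.equivMapOfInjective B f hf)).mpr hcyc
  have hPp : IsPGroup l ↥(⊤ : Subgroup ↥(P : Subgroup ↥K)) := P.2.to_subgroup ⊤
  have huniq := Cfsg.Agent.S0040.unique_of_abelian_cyclic hΓ l ⊤ hPp
  rcases Cfsg.Agent.S0016.result l hPp huniq with h | ⟨h2, -⟩
  · exact (MulEquiv.isCyclic (Subgroup.topEquiv (G := ↥(P : Subgroup ↥K)))).mp h
  · exact absurd h2 hl2

/-- a Sylow `l`-subgroup has order `l` if `l ∣ |K|` and `l² ∤ |K|`. -/
theorem n4d_helper10_prime (Q : Type u) [Group Q] [Finite Q] (l : ℕ) (hl : l.Prime)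
    (h1 : l ∣ Nat.card Q) (h2 : ¬ l ^ 2 ∣ Nat.card Q) (P : Sylow l Q) :
    IsCyclic ↥(P : Subgroup Q) := by
  haveI : Fact l.Prime := ⟨hl⟩
  have hn0 : Nat.card Q ≠ 0 := Nat.card_pos.ne'
  have hf1 : 1 ≤ (Nat.card Q).factorization l := by
    have := (hl.pow_dvd_iff_le_factorization hn0 (k := 1)).mp (by rwa [pow_one])
    exact this
  have hf2 : ¬ 2 ≤ (Nat.card Q).factorization l := fun h =>
    h2 ((hl.pow_dvd_iff_le_factorization hn0).mpr h)
  have hf : (Nat.card Q).factorization l = 1 := by omega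
  have hc : Nat.card ↥(P : Subgroup Q) = l := by
    have := P.card_eq_multiplicity
    rw [hf, pow_one] at this
    exact this
  exact isCyclic_of_prime_card hc

theorem n4d : N4AStmt.{u} → N4BStmt.{u} → N4CStmt.{u} → SolvAStmt.{u} → N4AbsStmt.{u} := by
  intro hA hB hC hSolv A _ _ K s t hs ht hst hSF hMs hMt hsK htK hs2 ht2
  classical
  by_cases hcase : s ≠ 2 ∧ t ≠ 2 ∧ 2 ∣ Nat.card K
  · obtain ⟨-, ht2', h2K⟩ := hcase
    haveI : Fact (Nat.Prime 2) := ⟨Nat.prime_two⟩
    obtain ⟨i, hi⟩ := exists_prime_orderOf_dvd_card' 2 h2K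
    have huniq : ∀ j : ↥K, orderOf j = 2 → j = i := by
      intro j hj
      apply Subtype.ext
      exact hC A K s t hs ht hst hSF hMs hMt j.1 j.2 i.1 i.2
        (by rw [Subgroup.orderOf_coe]; exact hj) (by rw [Subgroup.orderOf_coe]; exact hi)
    have hcent : ∀ g : ↥K, g * i * g⁻¹ = i := by
      intro g
      apply huniq
      rw [← hi]
      exact orderOf_injective (MulAut.conj g).toMonoidHom (MulAut.conj g).injective i
    have hNn : (Subgroup.zpowers i).Normal := by
      constructor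
      intro n hn g
      obtain ⟨k, rfl⟩ := Subgroup.mem_zpowers_iff.mp hn
      rw [← conj_zpow, hcent g]
      exact Subgroup.zpow_mem _ (Subgroup.mem_zpowers i) k
    have hcardN : Nat.card (Subgroup.zpowers i) = 2 := by rw [Nat.card_zpowers, hi]
    have hnt : ¬ t ∣ Nat.card (Subgroup.zpowers i) := by
      rw [hcardN]
      intro h
      exact ht2' ((Nat.prime_dvd_prime_iff_eq ht Nat.prime_two).mp h)
    have hbot := hA A K t ht hSF hMt htK (Subgroup.zpowers i) hNn hnt
    rw [hbot, Subgroup.card_bot] at hcardN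
    omega
  · have hZ : IsZGroup ↥K := by
      constructor
      intro l hl P
      by_cases hls : l = s
      · subst hls
        exact n4d_helper10_prime ↥K l hl hsK hs2 P
      by_cases hlt : l = t
      · subst hlt
        exact n4d_helper10_prime ↥K l hl htK ht2 P
      by_cases hl2 : l = 2
      · subst hl2
        have h2K : ¬ 2 ∣ Nat.card K := fun h => hcase ⟨fun h' => hls h'.symm, fun h' => hlt h'.symm, h⟩
        obtain ⟨n, hn⟩ := IsPGroup.iff_card.mp P.2
        have hn0 : n = 0 := by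
          by_contra hne
          apply h2K
          have h1 : 2 ∣ Nat.card ↥(P : Subgroup ↥K) := by
            rw [hn]
            exact dvd_pow_self 2 hne
          exact h1.trans (Subgroup.card_subgroup_dvd_card _)
        rw [hn0, pow_zero] at hn
        haveI : Subsingleton ↥(P : Subgroup ↥K) := (Nat.card_eq_one_iff_unique.mp hn).1
        exact isCyclic_of_subsingleton
      · exact n4d_helper10_cyc hB A K s l hs hl hls hl2 hSF hMs P
    haveI := hZ
    have hsolv : Group.IsSolvable ↥(⊤ : Subgroup ↥K) := inferInstance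
    have htop_ne : (⊤ : Subgroup ↥K) ≠ ⊥ := by
      intro h
      have h1 : Nat.card ↥K = 1 := by
        rw [← Subgroup.card_top (G := ↥K), h, Subgroup.card_bot]
      rw [h1] at hsK
      exact hs.one_lt.ne' (Nat.dvd_one.mp hsK)
    obtain ⟨r, R, hr, hRn, hRne, hRp, -⟩ := hSolv ↥K ⊤ inferInstance htop_ne hsolv
    haveI : Fact r.Prime := ⟨hr⟩
    obtain ⟨n, hn⟩ := IsPGroup.iff_card.mp hRp
    by_cases hrt : r = t
    · have hns : ¬ s ∣ Nat.card R := by
        rw [hn]
        intro h
        have h1 := (Nat.prime_dvd_prime_iff_eq hs hr).mp (hs.dvd_of_dvd_pow h)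
        exact hst (h1.trans hrt)
      exact hRne (hA A K s hs hSF hMs hsK R hRn hns)
    · have hnt : ¬ t ∣ Nat.card R := by
        rw [hn]
        intro h
        have h1 := (Nat.prime_dvd_prime_iff_eq ht hr).mp (ht.dvd_of_dvd_pow h)
        exact hrt h1.symm
      exact hRne (hA A K t ht hSF hMt htK R hRn hnt)

end Cfsg.Agent.Lib.Helper4.TP
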